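import Mathlib
import Cfsg.Agent.Lib.Codegree
import Cfsg.Agent.Lib.Chars.PResidualDegree

/-!
# The Feit–Thompson bound: if every non-central element has centraliser meeting at most one
conjugate of the abelian subgroup `H` non-trivially, then `|H| c² < χ(1)²`.
-/

set_option autoImplicit false

namespace Cfsg.Agent.Lib.SmallDegree

open scoped ComplexConjugate
open Cfsg Cfsg.Agent.Lib.Chars

universe u

variable {G : Type u} [Group G] [Fintype G]

/-- A central element multiplies an irreducible character by a root of unity. -/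
theorem exists_central_scalar (χ : IrrCharacter G) {z : G} (hz : z ∈ Subgroup.center G) :
    ∃ c : ℂ, ‖c‖ = 1 ∧ ∀ g : G, (χ : G → ℂ) (z * g) = c * (χ : G → ℂ) g := by
  obtain ⟨n, ρ, hρ, hχ⟩ := χ.2
  haveI := hρ
  obtain ⟨c, hc⟩ := exists_scalar_of_commute ρ (ρ z) fun h => by
    rw [← Module.End.mul_eq_comp, ← Module.End.mul_eq_comp, ← map_mul, ← map_mul,
      Subgroup.mem_center_iff.mp hz h]
  have key : ∀ g : G, (χ : G → ℂ) (z * g) = c * (χ : G → ℂ) g := fun g => by
    rw [← hχ]
    simp only [Representation.character, map_mul, hc, smul_mul_assoc, one_mul, map_smul,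
      smul_eq_mul]
  refine ⟨c, norm_eq_one_of_pow_eq_one (orderOf_pos z) ?_, key⟩
  have hpow : ∀ k : ℕ, (χ : G → ℂ) (z ^ k) = c ^ k * (χ : G → ℂ) 1 := by
    intro k
    induction k with
    | zero => simp
    | succ k ih => rw [pow_succ', key, ih, pow_succ']; ring
  have h := hpow (orderOf z)
  rw [pow_orderOf_eq_one] at h
  exact (mul_eq_right₀ (irr_apply_one_ne_zero χ)).mp h.symm

variable (H : Subgroup G) [Fintype H]

/-- The average of `χ` over the coset `g H`. -/
noncomputable def hAvg (χ : G → ℂ) (g : G) : ℂ :=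
  (Nat.card H : ℂ)⁻¹ * ∑ y : H, χ (g * y)

theorem hAvg_mul (χ : G → ℂ) (g : G) {y : G} (hy : y ∈ H) : hAvg H χ (g * y) = hAvg H χ g := by
  simp only [hAvg]
  congr 1
  exact Fintype.sum_equiv (Equiv.mulLeft (⟨y, hy⟩ : H)) _ _ fun x => by simp [mul_assoc]

theorem classInner_restrict_one (χ : G → ℂ) :
    classInner (fun h : H => χ h) (fun _ => 1) = hAvg H χ 1 := by
  simp [classInner, hAvg]

/-- The main inequality. -/
theorem card_mul_sq_lt (hab : ∀ a ∈ H, ∀ b ∈ H, a * b = b * a)
    (hZ : H ⊓ Subgroup.center G = ⊥)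
    (hone : ∀ g : G, g ∉ Subgroup.center G → ∀ a b : G,
      Subgroup.centralizer ({g} : Set G) ⊓ H.map (MulAut.conj a).toMonoidHom ≠ ⊥ →
      Subgroup.centralizer ({g} : Set G) ⊓ H.map (MulAut.conj b).toMonoidHom ≠ ⊥ →
      H.map (MulAut.conj a).toMonoidHom = H.map (MulAut.conj b).toMonoidHom)
    (χ : IrrCharacter G) (hker : ∃ h ∈ H, (χ : G → ℂ) h ≠ (χ : G → ℂ) 1) :
    ∃ c : ℕ, classInner (fun h : H => (χ : G → ℂ) h) (fun _ => 1) = c ∧
      Nat.card H * c ^ 2 < charDegree (χ : G → ℂ) ^ 2 := by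
  classical
  set ψ := hAvg H (χ : G → ℂ) with hψ
  obtain ⟨c, hc⟩ := isCharacter_classInner_nat (isCharacter_restrict H (irr_isCharacter χ))
    (isCharacter_of_isIrrCharacter (isIrrCharacter_one (G := H)))
  refine ⟨c, hc, ?_⟩
  rw [classInner_restrict_one] at hc
  obtain ⟨hd0, hd⟩ := charDegree_spec χ
  set d := charDegree (χ : G → ℂ)
  -- conjugates meeting a centraliser
  have hmem : ∀ (a k g : G), k ∈ H → k ≠ 1 → g * (a * k * a⁻¹) = (a * k * a⁻¹) * g →
      Subgroup.centralizer ({g} : Set G) ⊓ H.map (MulAut.conj a).toMonoidHom ≠ ⊥ := by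
    intro a k g hk hk1 hcomm h
    have hin : a * k * a⁻¹ ∈
        Subgroup.centralizer ({g} : Set G) ⊓ H.map (MulAut.conj a).toMonoidHom :=
      ⟨Subgroup.mem_centralizer_iff.mpr fun x hx => by rw [Set.mem_singleton_iff.mp hx]; exact hcomm,
        k, hk, by simp⟩
    rw [h, Subgroup.mem_bot] at hin
    exact hk1 (by simpa [mul_inv_eq_one] using hin)
  have hnorm : ∀ x : G, H.map (MulAut.conj x).toMonoidHom = H → x ∈ Subgroup.normalizer (H : Set G) := by
    intro x hx
    refine Subgroup.mem_normalizer_iff.mpr fun k => ?_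
    constructor
    · intro hk; rw [← hx]; exact ⟨k, hk, by simp⟩
    · intro hk
      rw [← hx] at hk
      obtain ⟨k', hk', h'⟩ := hk
      have : k' = k := by simpa using h'
      exact this ▸ hk'
  have hone' : ∀ g : G, g ∉ Subgroup.center G → ∀ (x k : G), k ∈ H → k ≠ 1 → g * k = k * g →
      ∀ k' : G, k' ∈ H → k' ≠ 1 → g * (x * k' * x⁻¹) = (x * k' * x⁻¹) * g →
      x ∈ Subgroup.normalizer (H : Set G) := by
    intro g hg x k hk hk1 hgk k' hk' hk'1 hgk'
    apply hnorm
    rw [hone g hg x 1 (hmem x k' g hk' hk'1 hgk') (hmem 1 k g hk hk1 (by simpa using hgk))]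
    ext y
    simp [Subgroup.mem_map]
  have hnZ : ∀ k ∈ H, k ≠ 1 → k ∉ Subgroup.center G := fun k hk hk1 hkz => hk1 (by
    have : k ∈ H ⊓ Subgroup.center G := ⟨hk, hkz⟩
    rwa [hZ, Subgroup.mem_bot] at this)
  set M := Subgroup.normalizer (H : Set G) with hM
  set S := (Finset.univ : Finset G).filter fun g => g ∉ Subgroup.center G ∧
    ∃ k ∈ H, k ≠ 1 ∧ g * k = k * g with hS
  set Z := (Finset.univ : Finset G).filter fun g => g ∈ Subgroup.center G with hZdef
  set f : G → ℝ := fun g => Complex.normSq ((χ : G → ℂ) g) with hf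
  have hfc : ∀ g x : G, f (x * g * x⁻¹) = f g := fun g x => by
    simp only [hf, irr_isClassFunction χ g x]
  have hsq : ∑ g : G, f g = Nat.card G := by
    have h := classInner_irr_self χ
    simp only [classInner, Complex.mul_conj] at h
    rw [inv_mul_eq_one₀ natCard_ne_zero] at h
    apply Complex.ofReal_injective
    push_cast
    exact h.symm
  have hSM : ∀ g ∈ S, g ∈ M := by
    intro g hg
    obtain ⟨-, -, k, hk, hk1, hgk⟩ := Finset.mem_filter.mp hg
    refine hone' k (hnZ k hk hk1) g k hk hk1 rfl k hk hk1 ?_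
    rw [show g * k * g⁻¹ = k by rw [hgk, mul_inv_cancel_right]]
  -- counting over the conjugates
  have hcount : (Nat.card G : ℝ) * ∑ g ∈ S, f g
      + (Nat.card M : ℝ) * ∑ g ∈ Z, f g ≤ (Nat.card M : ℝ) * Nat.card G := by
    let Φ : G × G → G := fun x => x.1 * x.2 * x.1⁻¹
    set X := (Finset.univ : Finset G) ×ˢ S with hX
    have h1 : (Nat.card G : ℝ) * ∑ g ∈ S, f g = ∑ x ∈ X, f (Φ x) := by
      simp only [hX]
      rw [Finset.sum_product, Finset.sum_congr rfl fun g _ => Finset.sum_congr rfl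
        fun s _ => hfc s g, Finset.sum_const, Finset.card_univ, nsmul_eq_mul,
        Nat.card_eq_fintype_card]
    have hsub : ∀ x ∈ X, Φ x ∈ Finset.univ \ Z := by
      intro x hx
      simp only [hX, hS, Finset.mem_product, Finset.mem_filter] at hx
      simp only [hZdef, Finset.mem_sdiff, Finset.mem_univ, Finset.mem_filter, true_and, Φ]
      intro h
      have := Subgroup.Normal.conj_mem (inferInstance : (Subgroup.center G).Normal) _ h x.1⁻¹
      exact hx.2.2.1 (by simpa [mul_assoc] using this)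
    have hfib : ∀ s : G, (X.filter fun x => Φ x = s).card ≤ Nat.card M := by
      intro s
      rcases (X.filter fun x => Φ x = s).eq_empty_or_nonempty with h | ⟨x0, hx0⟩
      · rw [h]; simp
      · obtain ⟨hx0X, hx0s⟩ := Finset.mem_filter.mp hx0
        simp only [hX, hS, Finset.mem_product, Finset.mem_filter, Finset.mem_univ, true_and] at hx0X
        rw [Nat.card_eq_fintype_card, Fintype.card_subtype]
        refine Finset.card_le_card_of_injOn (fun x => x0.1⁻¹ * x.1) ?_ ?_
        · intro x hx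
          obtain ⟨hxX, hxs⟩ := Finset.mem_filter.mp hx
          simp only [hX, hS, Finset.mem_product, Finset.mem_filter, Finset.mem_univ, true_and] at hxX
          simp only [Finset.coe_filter, Finset.mem_univ, true_and, Set.mem_ofPred_eq]
          obtain ⟨hz0, k0, hk0, hk01, hc0⟩ := hx0X
          obtain ⟨-, k, hk, hk1, hc1⟩ := hxX
          have he : x0.2 = x0.1⁻¹ * x.1 * x.2 * (x0.1⁻¹ * x.1)⁻¹ := by
            have := hxs.trans hx0s.symm
            simp only [Φ] at this
            calc x0.2 = x0.1⁻¹ * (x0.1 * x0.2 * x0.1⁻¹) * x0.1 := by group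
              _ = _ := by rw [← this]; group
          refine hone' x0.2 hz0 _ k0 hk0 hk01 hc0 k hk hk1 ?_
          rw [he]
          calc x0.1⁻¹ * x.1 * x.2 * (x0.1⁻¹ * x.1)⁻¹ * (x0.1⁻¹ * x.1 * k * (x0.1⁻¹ * x.1)⁻¹)
              = x0.1⁻¹ * x.1 * (x.2 * k) * (x0.1⁻¹ * x.1)⁻¹ := by group
            _ = x0.1⁻¹ * x.1 * (k * x.2) * (x0.1⁻¹ * x.1)⁻¹ := by rw [hc1]
            _ = _ := by group
        · intro x hx x' hx' h
          have hg : x.1 = x'.1 := mul_left_cancel h
          have := (Finset.mem_filter.mp hx).2.trans (Finset.mem_filter.mp hx').2.symm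
          simp only [Φ, ← hg] at this
          exact Prod.ext hg (mul_left_cancel (mul_right_cancel this))
    rw [h1, ← Finset.sum_fiberwise_of_maps_to hsub, ← hsq,
      ← Finset.sum_sdiff (Finset.subset_univ Z), mul_add]
    refine add_le_add ?_ le_rfl
    rw [Finset.mul_sum]
    refine Finset.sum_le_sum fun s _ => ?_
    rw [Finset.sum_congr rfl fun x hx => by rw [(Finset.mem_filter.mp hx).2], Finset.sum_const,
      nsmul_eq_mul]
    exact mul_le_mul_of_nonneg_right (Nat.cast_le.mpr (hfib s)) (Complex.normSq_nonneg _)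
  have hG0 : (0 : ℝ) < Nat.card G := Nat.cast_pos.mpr Nat.card_pos
  have hM0 : (0 : ℝ) < Nat.card M := Nat.cast_pos.mpr Nat.card_pos
  have hZpos : 0 < ∑ g ∈ Z, f g := by
    refine lt_of_lt_of_le ?_ (Finset.single_le_sum (fun g _ => Complex.normSq_nonneg _)
      (show (1 : G) ∈ Z by simp [hZdef]))
    simp only [hf, hd]
    exact Complex.normSq_pos.mpr (Nat.cast_ne_zero.mpr hd0.ne')
  have hSlt : ∑ g ∈ S, f g < Nat.card M := by
    by_contra hcon
    push Not at hcon
    nlinarith [mul_le_mul_of_nonneg_left hcon hG0.le, mul_pos hM0 hZpos]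
  have hscal : ∀ z ∈ Subgroup.center G, Complex.normSq (ψ z) = (c : ℝ) ^ 2 ∧
      f z = (d : ℝ) ^ 2 := by
    intro z hz
    obtain ⟨w, hw, hwg⟩ := exists_central_scalar χ hz
    constructor
    · have : ψ z = w * ψ 1 := by
        simp only [hψ, hAvg, hwg, one_mul, ← Finset.mul_sum]
        ring
      rw [this, Complex.normSq_mul, hψ, hc, Complex.normSq_eq_norm_sq, hw]
      simp
      ring
    · have h := hwg 1
      rw [mul_one] at h
      simp only [hf]
      rw [h, hd, Complex.normSq_eq_norm_sq, norm_mul, hw, Complex.norm_natCast, one_mul]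
  -- `χ` is constant on cosets of `H` outside `S ∪ Z`
  have hout : ∀ g ∈ M, g ∉ S → g ∉ Z → (χ : G → ℂ) g = ψ g := by
    intro g hgM hgS hgZ
    have hgZ' : g ∉ Subgroup.center G := fun h => hgZ (by simp [hZdef, h])
    let δ : H → H := fun t => ⟨g⁻¹ * t * g * (t : G)⁻¹,
      H.mul_mem (Subgroup.mem_normalizer_iff''.mp hgM t |>.mp t.2) (H.inv_mem t.2)⟩
    have hinj : Function.Injective δ := by
      intro t t' h
      have h1 : g⁻¹ * (t : G) * g * (t : G)⁻¹ = g⁻¹ * (t' : G) * g * (t' : G)⁻¹ :=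
        congrArg Subtype.val h
      by_contra hne
      refine hgS (Finset.mem_filter.mpr ⟨Finset.mem_univ _, hgZ', (t' : G)⁻¹ * t,
        H.mul_mem (H.inv_mem t'.2) t.2, fun h0 => hne (Subtype.ext (inv_mul_eq_one.mp h0).symm), ?_⟩)
      have hA : g⁻¹ * (t : G) * g ∈ H := Subgroup.mem_normalizer_iff''.mp hgM t |>.mp t.2
      have hB : g⁻¹ * (t' : G) * g ∈ H := Subgroup.mem_normalizer_iff''.mp hgM t' |>.mp t'.2
      have h2 : g⁻¹ * ((t' : G)⁻¹ * t) * g = (t' : G)⁻¹ * t := by
        have h3 : g⁻¹ * (t : G) * g = g⁻¹ * (t' : G) * g * ((t' : G)⁻¹ * t) := by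
          have : g⁻¹ * (t : G) * g = g⁻¹ * (t' : G) * g * (t' : G)⁻¹ * t := by
            rw [← h1, inv_mul_cancel_right]
          rw [this, mul_assoc (g⁻¹ * (t' : G) * g)]
        calc g⁻¹ * ((t' : G)⁻¹ * t) * g = (g⁻¹ * (t' : G) * g)⁻¹ * (g⁻¹ * t * g) := by group
          _ = _ := by rw [h3, inv_mul_cancel_left]
      calc g * ((t' : G)⁻¹ * t) = g * (g⁻¹ * ((t' : G)⁻¹ * t) * g) := by rw [h2]
        _ = (t' : G)⁻¹ * t * g := by group
    have hconst : ∀ y : H, (χ : G → ℂ) (g * y) = (χ : G → ℂ) g := by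
      intro y
      obtain ⟨t, rfl⟩ := (Finite.injective_iff_surjective.mp hinj) y
      show (χ : G → ℂ) (g * (g⁻¹ * t * g * (t : G)⁻¹)) = _
      rw [show g * (g⁻¹ * t * g * (t : G)⁻¹) = (t : G) * g * (t : G)⁻¹ by group,
        irr_isClassFunction χ g t]
    simp only [hψ, hAvg, hconst, Finset.sum_const, Finset.card_univ, nsmul_eq_mul,
      ← Nat.card_eq_fintype_card]
    rw [inv_mul_cancel_left₀ natCard_ne_zero]
  -- `ψ` is a character of `M`
  haveI hHn : (H.subgroupOf M).Normal := Subgroup.normal_in_normalizer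
  set N := H.subgroupOf M
  haveI : Fintype N := Fintype.ofFinite _
  haveI : Fintype (M ⧸ N) := Fintype.ofFinite _
  have hψN : ∀ (g : M) (y : N), ψ ((g * (y : M) : M) : G) = ψ g := fun g y =>
    hAvg_mul H _ _ y.2
  let ψq : M ⧸ N → ℂ := fun q => ψ (q.out : G)
  have hψq : ∀ g : M, ψq (QuotientGroup.mk' N g) = ψ g := fun g => by
    obtain ⟨y, hy⟩ := QuotientGroup.mk_out_eq_mul N g
    show ψ ((Quotient.out (g : M ⧸ N) : M) : G) = _
    rw [hy]; exact hψN g y
  have hψcl : IsClassFunction M (fun g : M => ψ g) := by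
    intro g h
    simp only [hψ, hAvg]
    congr 1
    let σ : H → H := fun y => ⟨(h : G)⁻¹ * y * h, Subgroup.mem_normalizer_iff''.mp h.2 y |>.mp y.2⟩
    have hσ : Function.Bijective σ := Finite.injective_iff_bijective.mp fun a b e =>
      Subtype.ext (mul_left_cancel (mul_right_cancel (congrArg Subtype.val e)))
    refine Fintype.sum_bijective σ hσ _ _ fun y => ?_
    show (χ : G → ℂ) ((h : G) * g * (h : G)⁻¹ * y) = (χ : G → ℂ) ((g : G) * ((h : G)⁻¹ * y * h))
    rw [← irr_isClassFunction χ ((g : G) * ((h : G)⁻¹ * y * h)) h]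
    congr 1
    group
  have hψqcl : IsClassFunction (M ⧸ N) ψq := by
    intro a b
    obtain ⟨a', rfl⟩ := QuotientGroup.mk'_surjective N a
    obtain ⟨b', rfl⟩ := QuotientGroup.mk'_surjective N b
    rw [← map_mul, ← map_inv, ← map_mul, hψq, hψq]
    exact hψcl a' b'
  have hsplit : ∀ F : M → ℂ, (∀ (g : M) (y : N), F (g * y) = F g) →
      ∑ g : M, (χ : G → ℂ) g * F g = ∑ g : M, ψ g * F g := by
    intro F hF
    have hq : (Nat.card H : ℂ) ≠ 0 := natCard_ne_zero
    apply mul_left_cancel₀ hq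
    calc (Nat.card H : ℂ) * ∑ g : M, (χ : G → ℂ) g * F g
        = ∑ y : H, ∑ g : M, (χ : G → ℂ) g * F g := by
          simp [Finset.sum_const, Nat.card_eq_fintype_card]
      _ = ∑ y : H, ∑ g : M, (χ : G → ℂ) ((g : G) * y) * F g := by
          refine Finset.sum_congr rfl fun y _ => ?_
          have hyM : (y : G) ∈ M := Subgroup.le_normalizer y.2
          refine (Fintype.sum_equiv (Equiv.mulRight (⟨y, hyM⟩ : M)) _ _ fun g => ?_).symm
          show _ = (χ : G → ℂ) ((g : G) * y) * F (g * ⟨y, hyM⟩)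
          rw [hF g ⟨⟨y, hyM⟩, y.2⟩]
      _ = (Nat.card H : ℂ) * ∑ g : M, ψ g * F g := by
          rw [Finset.sum_comm, Finset.mul_sum]
          refine Finset.sum_congr rfl fun g _ => ?_
          simp only [hψ, hAvg, ← Finset.sum_mul]
          field_simp
  have hψchar : IsCharacter M (fun g : M => ψ g) := by
    have : IsCharacter (M ⧸ N) ψq := by
      refine isCharacter_of_isClassFunction_of_nat hψqcl fun ω => ?_
      obtain ⟨k, hk⟩ := isCharacter_classInner_nat (isCharacter_restrict M (irr_isCharacter χ))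
        (isCharacter_comp (QuotientGroup.mk' N) (irr_isCharacter ω))
      refine ⟨k, ?_⟩
      rw [← classInner_comp_of_surjective _ (QuotientGroup.mk'_surjective N), ← hk]
      simp only [classInner, hψq]
      congr 1
      refine (hsplit (fun g => conj ((ω : M ⧸ N → ℂ) (QuotientGroup.mk' N g))) fun g y => ?_).symm
      rw [map_mul, show QuotientGroup.mk' N (y : M) = 1 from
        (QuotientGroup.eq_one_iff _).mpr y.2, mul_one]
    have h2 := isCharacter_comp (QuotientGroup.mk' N) this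
    convert h2 using 1
    funext g; exact (hψq g).symm
  -- the norm of the complement of `ψ`
  have hres : IsCharacter M (fun g : M => (χ : G → ℂ) g) := isCharacter_restrict M (irr_isCharacter χ)
  obtain ⟨k1, hk1⟩ := isCharacter_classInner_nat hres hres
  obtain ⟨k2, hk2⟩ := isCharacter_classInner_nat hψchar hψchar
  have hMC : (Nat.card M : ℂ) ≠ 0 := natCard_ne_zero
  have hconjψ : ∀ (g : M) (y : N), conj (ψ ((g * y : M) : G)) = conj (ψ g) := fun g y => by
    rw [hψN]
  have hdiff : ∑ g : M, Complex.normSq ((χ : G → ℂ) g - ψ g)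
      = ((k1 : ℝ) - k2) * Nat.card M := by
    apply Complex.ofReal_injective
    push_cast
    simp only [classInner] at hk1 hk2
    rw [inv_mul_eq_iff_eq_mul₀ hMC] at hk1 hk2
    have h1 := hsplit (fun g => conj (ψ g)) hconjψ
    have h2 : ∑ g : M, ψ g * conj ((χ : G → ℂ) g) = ∑ g : M, ψ g * conj (ψ g) := by
      have := congrArg conj h1
      simp only [map_sum, map_mul, Complex.conj_conj] at this
      rw [Finset.sum_congr rfl fun g _ => mul_comm _ _, this]
      exact Finset.sum_congr rfl fun g _ => mul_comm _ _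
    simp only [← Complex.mul_conj, map_sub, sub_mul, mul_sub, Finset.sum_sub_distrib]
    rw [hk1, h1, h2, hk2]
    ring
  obtain ⟨y0, hy0, hy0χ⟩ := hker
  have hpos : 0 < ∑ g : M, Complex.normSq ((χ : G → ℂ) g - ψ g) := by
    by_contra hcon
    have hall : ∀ g : M, (χ : G → ℂ) g = ψ g := fun g => by
      have h := (Finset.sum_eq_zero_iff_of_nonneg fun g _ => Complex.normSq_nonneg _).mp
        (le_antisymm (not_lt.mp hcon) (Finset.sum_nonneg fun g _ => Complex.normSq_nonneg _)) g
        (Finset.mem_univ _)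
      exact sub_eq_zero.mp (Complex.normSq_eq_zero.mp h)
    apply hy0χ
    have h1 := hall ⟨y0, Subgroup.le_normalizer hy0⟩
    have h2 := hall 1
    simp only [OneMemClass.coe_one] at h1 h2
    rw [h1, h2]
    have := hAvg_mul H (χ : G → ℂ) 1 hy0
    rwa [one_mul] at this
  have hk : (1 : ℝ) ≤ (k1 : ℝ) - k2 := by
    rw [hdiff] at hpos
    have h := (mul_pos_iff_of_pos_right hM0).mp hpos
    have : k2 < k1 := by exact_mod_cast sub_pos.mp h
    have : (k2 : ℝ) + 1 ≤ k1 := by exact_mod_cast this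
    linarith
  -- collect
  set I := S ∪ Z with hI
  set W := (Finset.univ : Finset G).filter fun g => g ∈ M with hW
  have hIW : I ⊆ W := by
    intro g hg
    simp only [hW, Finset.mem_filter, Finset.mem_univ, true_and]
    rcases Finset.mem_union.mp hg with h | h
    · exact hSM g h
    · exact Subgroup.mem_normalizer_iff.mpr fun x => by
        rw [← Subgroup.mem_center_iff.mp (Finset.mem_filter.mp h).2 x, mul_inv_cancel_right]
  have hWsum : ∀ F : G → ℝ, ∑ g : M, F g = ∑ g ∈ W, F g := fun F => by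
    exact (Finset.sum_subtype W (fun x => by simp [hW]) F).symm
  have hΦI : ∑ g : M, Complex.normSq ((χ : G → ℂ) g - ψ g)
      = ∑ g ∈ I, f g - ∑ g ∈ I, Complex.normSq (ψ g) := by
    have e1 : ∑ g : M, Complex.normSq ((χ : G → ℂ) g - ψ g)
        = ∑ g : M, f g - ∑ g : M, Complex.normSq (ψ g) := by
      rw [hdiff]
      apply Complex.ofReal_injective
      push_cast
      simp only [hf, ← Complex.mul_conj]
      simp only [classInner] at hk1 hk2
      rw [inv_mul_eq_iff_eq_mul₀ hMC] at hk1 hk2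
      rw [hk1, hk2]
      ring
    rw [e1, hWsum f, hWsum fun g => Complex.normSq (ψ g), ← Finset.sum_sdiff hIW,
      ← Finset.sum_sdiff (f := fun g => Complex.normSq (ψ g)) hIW]
    have : ∑ g ∈ W \ I, f g = ∑ g ∈ W \ I, Complex.normSq (ψ g) := by
      refine Finset.sum_congr rfl fun g hg => ?_
      simp only [hI, hW, Finset.mem_sdiff, Finset.mem_union, Finset.mem_filter, Finset.mem_univ,
        true_and, not_or] at hg
      simp only [hf, hout g hg.1 hg.2.1 hg.2.2]
    linarith
  have hdisj : Disjoint S Z := by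
    rw [Finset.disjoint_left]
    intro g hg hg'
    exact (Finset.mem_filter.mp hg).2.1 (Finset.mem_filter.mp hg').2
  have hIsum : ∑ g ∈ I, f g < Nat.card M + Z.card * (d : ℝ) ^ 2 := by
    rw [hI, Finset.sum_union hdisj]
    have : ∑ g ∈ Z, f g = Z.card * (d : ℝ) ^ 2 := by
      rw [Finset.sum_congr rfl fun g hg => (hscal g (Finset.mem_filter.mp hg).2).2,
        Finset.sum_const, nsmul_eq_mul]
    linarith
  have hlow : (Nat.card H : ℝ) * Z.card * (c : ℝ) ^ 2 ≤ ∑ g ∈ I, Complex.normSq (ψ g) := by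
    let F : H × Z → G := fun x => (x.2 : G) * x.1
    have hF : Function.Injective F := by
      intro a b h
      have hab' : ((b.2 : G))⁻¹ * a.2 = (b.1 : G) * (a.1 : G)⁻¹ := by
        rw [eq_mul_inv_iff_mul_eq, mul_assoc, show (a.2 : G) * a.1 = b.2 * b.1 from h]
        group
      have hz : ((b.2 : G))⁻¹ * a.2 ∈ Subgroup.center G :=
        Subgroup.mul_mem _ (Subgroup.inv_mem _ (Finset.mem_filter.mp b.2.2).2)
          (Finset.mem_filter.mp a.2.2).2
      have h1 : ((b.2 : G))⁻¹ * a.2 = 1 := by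
        have : ((b.2 : G))⁻¹ * a.2 ∈ H ⊓ Subgroup.center G :=
          ⟨hab' ▸ H.mul_mem b.1.2 (H.inv_mem a.1.2), hz⟩
        rwa [hZ, Subgroup.mem_bot] at this
      have h2 : (b.2 : G) = a.2 := inv_mul_eq_one.mp h1
      have h3 : (a.1 : G) = b.1 := by
        have := h
        simp only [F, h2] at this
        exact mul_left_cancel this
      exact Prod.ext (Subtype.ext h3) (Subtype.ext h2.symm)
    calc (Nat.card H : ℝ) * Z.card * (c : ℝ) ^ 2 = ∑ x : H × Z, Complex.normSq (ψ (F x)) := by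
          rw [Finset.sum_congr rfl (g := fun _ => (c : ℝ) ^ 2) fun x _ => ?_, Finset.sum_const,
            Finset.card_univ, Fintype.card_prod, Fintype.card_coe, nsmul_eq_mul, Nat.cast_mul,
            ← Nat.card_eq_fintype_card]
          show Complex.normSq (ψ ((x.2 : G) * x.1)) = _
          rw [hψ, hAvg_mul H _ _ x.1.2]
          exact (hscal _ (Finset.mem_filter.mp x.2.2).2).1
      _ = ∑ g ∈ Finset.univ.image F, Complex.normSq (ψ g) := by
          rw [Finset.sum_image fun a _ b _ h => hF h]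
      _ ≤ _ := by
          refine Finset.sum_le_sum_of_subset_of_nonneg (fun g hg => ?_)
            fun g _ _ => Complex.normSq_nonneg _
          obtain ⟨⟨y, z⟩, -, rfl⟩ := Finset.mem_image.mp hg
          have hz := (Finset.mem_filter.mp z.2).2
          rcases eq_or_ne (y : G) 1 with hy | hy
          · refine Finset.mem_union_right _ ?_
            simp [F, hy, hZdef, hz]
          · refine Finset.mem_union_left _ (Finset.mem_filter.mpr ⟨Finset.mem_univ _, ?_, y, y.2, hy, ?_⟩)
            · intro h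
              apply hnZ _ y.2 hy
              have := Subgroup.mul_mem _ (Subgroup.inv_mem _ hz) h
              simpa [F] using this
            · simp only [F, mul_assoc]
              rw [← mul_assoc (y : G), Subgroup.mem_center_iff.mp hz y, mul_assoc]
  have hfin : (Nat.card H : ℝ) * Z.card * (c : ℝ) ^ 2 < Z.card * (d : ℝ) ^ 2 := by
    have : (1 : ℝ) * Nat.card M ≤ ((k1 : ℝ) - k2) * Nat.card M :=
      mul_le_mul_of_nonneg_right hk hM0.le
    linarith
  have hZc : (0 : ℝ) < Z.card := Nat.cast_pos.mpr (Finset.card_pos.mpr ⟨1, by simp [hZdef]⟩)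
  have : (Nat.card H : ℝ) * (c : ℝ) ^ 2 < (d : ℝ) ^ 2 := by
    nlinarith
  exact_mod_cast this

/-- `|H| < (χ(1) + 1)²` when `χ` is non-linear and no proper normal subgroup contains `H`. -/
theorem card_lt_succ_sq (hab : ∀ a ∈ H, ∀ b ∈ H, a * b = b * a)
    (hZ : H ⊓ Subgroup.center G = ⊥)
    (hone : ∀ g : G, g ∉ Subgroup.center G → ∀ a b : G,
      Subgroup.centralizer ({g} : Set G) ⊓ H.map (MulAut.conj a).toMonoidHom ≠ ⊥ →
      Subgroup.centralizer ({g} : Set G) ⊓ H.map (MulAut.conj b).toMonoidHom ≠ ⊥ →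
      H.map (MulAut.conj a).toMonoidHom = H.map (MulAut.conj b).toMonoidHom)
    (hnor : ∀ M : Subgroup G, M.Normal → H ≤ M → M = ⊤)
    (χ : IrrCharacter G) (h1 : charDegree (χ : G → ℂ) ≠ 1) :
    Nat.card H < (charDegree (χ : G → ℂ) + 1) ^ 2 := by
  classical
  haveI : IsMulCommutative H := ⟨⟨fun a b => Subtype.ext (hab a a.2 b b.2)⟩⟩
  by_contra hbig
  push Not at hbig
  obtain ⟨hd0, hd⟩ := charDegree_spec χ
  set d := charDegree (χ : G → ℂ)
  set Φ : G → ℂ := (χ : G → ℂ) * fun g => conj ((χ : G → ℂ) g) with hΦ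
  have hΦc : IsCharacter G Φ :=
    isCharacter_mul (irr_isCharacter χ) (isCharacter_star (irr_isCharacter χ))
  have hdec := isCharacter_eq_sum_classInner hΦc
  choose m hm using fun ψ : IrrCharacter G =>
    isCharacter_classInner_nat hΦc (irr_isCharacter ψ)
  have hm1 : m (trivialIrr G) = 1 := by
    have h : classInner Φ (trivialIrr G : G → ℂ) = classInner (χ : G → ℂ) (χ : G → ℂ) := by
      simp [classInner, hΦ, trivialIrr_apply]
    rw [hm, classInner_irr_self] at h
    exact_mod_cast h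
  choose b hb using fun ψ : IrrCharacter G =>
    isCharacter_classInner_nat (isCharacter_restrict H (irr_isCharacter ψ))
      (isCharacter_of_isIrrCharacter (isIrrCharacter_one (G := H)))
  have hbtriv : b (trivialIrr G) = 1 := by
    have h := hb (trivialIrr G)
    simp only [classInner, trivialIrr_apply, map_one, mul_one, Finset.sum_const, Finset.card_univ,
      nsmul_eq_mul, ← Nat.card_eq_fintype_card, inv_mul_cancel₀ (natCard_ne_zero (G := H))] at h
    exact_mod_cast h.symm
  have hsmall : ∀ ψ, ψ ≠ trivialIrr G → b ψ * (d + 1) ≤ charDegree (ψ : G → ℂ) ∧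
      (b ψ ≠ 0 → b ψ * (d + 1) < charDegree (ψ : G → ℂ)) := by
    intro ψ hψ
    have hker : ∃ h ∈ H, (ψ : G → ℂ) h ≠ (ψ : G → ℂ) 1 := by
      by_contra hcon
      push Not at hcon
      exact hψ (Codegree.eq_trivial_of_kerIrr_eq_top (hnor _ (Codegree.kerIrr_normal ψ)
        fun y hy => (Codegree.mem_kerIrr ψ).mpr (hcon y hy)))
    obtain ⟨c, hc, hlt⟩ := card_mul_sq_lt H hab hZ hone ψ hker
    have hcb : c = b ψ := by
      have := hb ψ
      rw [hc] at this
      exact_mod_cast this
    subst hcb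
    have h2 : (b ψ * (d + 1)) ^ 2 < charDegree (ψ : G → ℂ) ^ 2 := by
      refine lt_of_le_of_lt ?_ hlt
      rw [mul_pow, mul_comm]
      exact Nat.mul_le_mul_right _ hbig
    have := lt_of_pow_lt_pow_left₀ 2 (Nat.zero_le _) h2
    exact ⟨this.le, fun _ => this⟩
  -- multiplicity of the trivial character of `H` in `Φ`
  have hT0 : d ≤ ∑ ψ, m ψ * b ψ := by
    have hres := isCharacter_restrict H (irr_isCharacter χ)
    choose a ha using fun θ : IrrCharacter H => isCharacter_classInner_nat hres (irr_isCharacter θ)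
    have h1' : classInner (fun h : H => Φ h) (fun _ => 1) = ((∑ θ, a θ * a θ : ℕ) : ℂ) := by
      have : classInner (fun h : H => Φ h) (fun _ => 1)
          = classInner (fun h : H => (χ : G → ℂ) h) (fun h : H => (χ : G → ℂ) h) := by
        simp [classInner, hΦ]
      rw [this, classInner_eq_sum_mul_conj (isClassFunction_of_isCharacter hres)
        (isClassFunction_of_isCharacter hres)]
      simp [ha]
    have h2' : classInner (fun h : H => Φ h) (fun _ => 1) = ((∑ ψ, m ψ * b ψ : ℕ) : ℂ) := by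
      push_cast
      simp only [← hb]
      have hval : ∀ g, Φ g = ∑ ψ : IrrCharacter G, (m ψ : ℂ) * (ψ : G → ℂ) g := fun g => by
        conv_lhs => rw [hdec]
        simp [hm]
      simp only [classInner, hval, Finset.mul_sum, Finset.sum_mul]
      rw [Finset.sum_comm]
      exact Finset.sum_congr rfl fun ψ _ => Finset.sum_congr rfl fun h _ => by ring
    have hd' : d = ∑ θ, a θ := by
      have h := congrFun (isClassFunction_eq_sum_classInner (isClassFunction_of_isCharacter hres)) 1
      simp only [Finset.sum_apply, Pi.smul_apply, ha, smul_eq_mul, irr_apply_one_of_comm, mul_one,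
        OneMemClass.coe_one, hd] at h
      exact_mod_cast h
    rw [h1'] at h2'
    rw [← Nat.cast_injective h2', hd']
    exact Finset.sum_le_sum fun θ _ => Nat.le_mul_self _
  have hdeg : d * d = ∑ ψ, m ψ * charDegree (ψ : G → ℂ) := by
    have h := congrFun hdec 1
    simp only [hΦ, Pi.mul_apply, hd, Complex.conj_natCast, Finset.sum_apply, Pi.smul_apply,
      smul_eq_mul] at h
    have h2 : ∀ ψ : IrrCharacter G, classInner Φ (ψ : G → ℂ) * (ψ : G → ℂ) 1
        = ((m ψ * charDegree (ψ : G → ℂ) : ℕ) : ℂ) := fun ψ => by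
      rw [hm, (charDegree_spec ψ).2, Nat.cast_mul]
    simp only [← hΦ, h2] at h
    exact_mod_cast h
  have hsplit : ∀ F : IrrCharacter G → ℕ,
      ∑ ψ, F ψ = F (trivialIrr G) + ∑ ψ ∈ Finset.univ.erase (trivialIrr G), F ψ := fun F =>
    (Finset.add_sum_erase _ _ (Finset.mem_univ _)).symm
  have hdegtriv : charDegree ((trivialIrr G : IrrCharacter G) : G → ℂ) = 1 :=
    Codegree.charDegree_eq (by simp [trivialIrr_apply])
  rw [hsplit, hm1, hdegtriv, one_mul] at hdeg
  rw [hsplit, hm1, hbtriv, one_mul] at hT0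
  have hbound : (∑ ψ ∈ Finset.univ.erase (trivialIrr G), m ψ * b ψ) * (d + 1)
      ≤ ∑ ψ ∈ Finset.univ.erase (trivialIrr G), m ψ * charDegree (ψ : G → ℂ) := by
    rw [Finset.sum_mul]
    refine Finset.sum_le_sum fun ψ hψ => ?_
    rw [mul_assoc]
    exact Nat.mul_le_mul_left _ (hsmall ψ (Finset.mem_erase.mp hψ).1).1
  have hstrict : ∀ ψ ∈ Finset.univ.erase (trivialIrr G), m ψ * b ψ ≠ 0 →
      m ψ * b ψ * (d + 1) < m ψ * charDegree (ψ : G → ℂ) := by
    intro ψ hψ hne
    rw [Nat.mul_ne_zero_iff] at hne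
    rw [mul_assoc]
    exact Nat.mul_lt_mul_of_pos_left ((hsmall ψ (Finset.mem_erase.mp hψ).1).2 hne.2)
      (Nat.pos_of_ne_zero hne.1)
  obtain ⟨ψ0, hψ0, hψ0'⟩ := Finset.exists_ne_zero_of_sum_ne_zero (s := Finset.univ.erase (trivialIrr G))
    (f := fun ψ => m ψ * b ψ) (by omega)
  have hlt : (∑ ψ ∈ Finset.univ.erase (trivialIrr G), m ψ * b ψ) * (d + 1)
      < ∑ ψ ∈ Finset.univ.erase (trivialIrr G), m ψ * charDegree (ψ : G → ℂ) := by
    rw [Finset.sum_mul]
    refine Finset.sum_lt_sum (fun ψ hψ => ?_) ⟨ψ0, hψ0, hstrict ψ0 hψ0 hψ0'⟩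
    rw [mul_assoc]
    exact Nat.mul_le_mul_left _ (hsmall ψ (Finset.mem_erase.mp hψ).1).1
  nlinarith

end Cfsg.Agent.Lib.SmallDegree
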