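import Cfsg.Agent.Lib.SmallDegree.FTBound
import Cfsg.Agent.Lib.Jordan.Frobenius
import Cfsg.Agent.Lib.Clifford.Restriction
import Cfsg.Agent.Lib.Clifford.Basic
import Cfsg.Agent.Lib.Core.Nilpotent
import Mathlib

/-!
# Faithful irreducible characters of degree below `2p`, different from `p`

If a Sylow `p`-subgroup is non-abelian then a central element of it has two eigenvalues close
to each other, so it lies in an abelian normal subgroup with linear constituents of multiplicity
one (Blichfeldt), and the group modulo an abelian normal subgroup permutes fewer than `2p` objects.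
-/

set_option autoImplicit false

namespace Cfsg.Agent.Lib.SmallDegree.BelowTwoP

open Cfsg
open Cfsg.Agent.Lib
open Cfsg.Agent.Lib.Clifford (conjFun resFun orbitFun)
open scoped ComplexConjugate InnerProductSpace Classical

universe u

/-- A unitary model, with the intertwining map. -/
theorem exists_unitary_model_equiv {G : Type u} [Group G] [Fintype G] {V : Type*} [AddCommGroup V]
    [Module ℂ V] [FiniteDimensional ℂ V] (ρ : Representation ℂ G V) :
    ∃ (F : Submodule ℂ (EuclideanSpace ℂ (G × Fin (Module.finrank ℂ V))))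
      (X : G →* (F →L[ℂ] F)) (e : V ≃ₗ[ℂ] F), Jordan.IsUnitaryHom (E := F) X ∧
      ∀ g v, X g (e v) = e (ρ g v) := by
  let b := Module.finBasis ℂ V
  let ι : V →ₗ[ℂ] EuclideanSpace ℂ (G × Fin (Module.finrank ℂ V)) :=
    (WithLp.linearEquiv 2 ℂ (G × Fin (Module.finrank ℂ V) → ℂ)).symm.toLinearMap ∘ₗ
      LinearMap.pi fun gi : G × Fin (Module.finrank ℂ V) =>
        (LinearMap.proj gi.2) ∘ₗ b.equivFun.toLinearMap ∘ₗ ρ gi.1
  have hι : ∀ v gi, ι v gi = b.equivFun (ρ gi.1 v) gi.2 := fun v gi => rfl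
  have hinjι : Function.Injective ι := by
    intro u v huv
    apply b.equivFun.injective
    funext i
    have := congrArg (fun f : EuclideanSpace ℂ (G × Fin (Module.finrank ℂ V)) => f (1, i)) huv
    simpa [hι] using this
  let e : V ≃ₗ[ℂ] LinearMap.range ι := LinearEquiv.ofInjective ι hinjι
  let Y : G →* Module.End ℂ (LinearMap.range ι) :=
    (e.conjAlgEquiv ℂ).toMonoidHom.comp ρ
  let X : G →* ((LinearMap.range ι) →L[ℂ] (LinearMap.range ι)) :=
    (Module.End.toContinuousLinearMap (LinearMap.range ι)).toMonoidHom.comp Y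
  have hX : ∀ g v, X g (e v) = e (ρ g v) := by
    intro g v
    show e (ρ g (e.symm (e v))) = _
    rw [e.symm_apply_apply]
  refine ⟨LinearMap.range ι, X, e, ?_, hX⟩
  intro g u v
  obtain ⟨u, rfl⟩ := e.surjective u
  obtain ⟨v, rfl⟩ := e.surjective v
  rw [hX, hX, Submodule.coe_inner, Submodule.coe_inner]
  show ⟪ι (ρ g u), ι (ρ g v)⟫_ℂ = ⟪ι u, ι v⟫_ℂ
  rw [PiLp.inner_apply, PiLp.inner_apply, Fintype.sum_prod_type, Fintype.sum_prod_type]
  refine Fintype.sum_equiv (Equiv.mulRight g) _ _ fun h => ?_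
  refine Finset.sum_congr rfl fun i _ => ?_
  simp only [Equiv.coe_mulRight, hι, map_mul, Module.End.mul_apply]

/-- An element with only the eigenvalues `1`, `η` is near a scalar when `η` is near `1`. -/
theorem nearScalar_of_quadratic {G : Type u} [Group G] {E : Type*} [NormedAddCommGroup E]
    [InnerProductSpace ℂ E] [FiniteDimensional ℂ E] {X : G →* (E →L[ℂ] E)}
    (hX : Jordan.IsUnitaryHom X) (u : G) {η : ℂ} (hη1 : η ≠ 1) (hη : ‖η - 1‖ < 1)
    (hquad : ∀ v : E, X u (X u v) - (1 + η) • X u v + η • v = 0) : Jordan.NearScalar X u := by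
  refine ⟨(1 + η) / 2, ?_⟩
  have hbound : ‖X u - ((1 + η) / 2) • (1 : E →L[ℂ] E)‖ ≤ ‖η - 1‖ / 2 := by
    refine ContinuousLinearMap.opNorm_le_bound _ (by positivity) fun v => ?_
    have hd : (1 : ℂ) - η ≠ 0 := sub_ne_zero.2 (Ne.symm hη1)
    set v1 := (1 - η)⁻¹ • (X u v - η • v) with hv1
    set v2 := v - v1 with hv2
    have hq : X u (X u v) = (1 + η) • X u v - η • v :=
      sub_eq_zero.1 (by rw [← hquad v]; abel)
    have h1 : X u v1 = v1 := by
      rw [hv1, map_smul, map_sub, map_smul, hq]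
      congr 1
      rw [add_smul, one_smul]
      abel
    have h2 : X u v2 = η • v2 := by
      rw [hv2, map_sub, h1, smul_sub]
      have h3 : X u v - η • v = (1 - η) • v1 := by
        rw [hv1, smul_smul, mul_inv_cancel₀ hd, one_smul]
      rw [sub_smul, one_smul] at h3
      rw [sub_eq_iff_eq_add] at h3
      rw [h3]
      abel
    have horth : ⟪v1, v2⟫_ℂ = 0 := by
      have h3 := hX u v1 v2
      rw [h1, h2, inner_smul_right] at h3
      have h4 : (η - 1) * ⟪v1, v2⟫_ℂ = 0 := by rw [sub_mul, one_mul, h3, sub_self]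
      exact (mul_eq_zero.1 h4).resolve_left (sub_ne_zero.2 hη1)
    have hv : v = v1 + v2 := by rw [hv2]; abel
    have hval : (X u - ((1 + η) / 2) • (1 : E →L[ℂ] E)) v = ((1 - η) / 2) • (v1 - v2) := by
      show X u v - ((1 + η) / 2) • v = _
      rw [hv, map_add, h1, h2, smul_add, smul_sub]
      module
    have hnorm : ‖v1 - v2‖ = ‖v1 + v2‖ := by
      have a := norm_sub_sq (𝕜 := ℂ) v1 v2
      have b := norm_add_sq (𝕜 := ℂ) v1 v2
      rw [horth] at a b
      simp only [map_zero, mul_zero, sub_zero, add_zero] at a b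
      exact (sq_eq_sq₀ (norm_nonneg _) (norm_nonneg _)).1 (a.trans b.symm)
    rw [hval, norm_smul, norm_div, RCLike.norm_ofNat, hnorm, ← hv, norm_sub_rev]
  exact lt_of_le_of_lt hbound (by linarith)

/-- Blichfeldt: with a quadratic relation near `1` the normal closure is commutative. -/
theorem normalClosure_comm_of_quadratic {G : Type u} [Group G] [Finite G] {V : Type*} [AddCommGroup V]
    [Module ℂ V] (ρ : Representation ℂ G V) (hρ : ∀ g, ρ g = 1 → g = 1) {E : Type*}
    [NormedAddCommGroup E] [InnerProductSpace ℂ E] [FiniteDimensional ℂ E] [CompleteSpace E]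
    {X : G →* (E →L[ℂ] E)} (hX : Jordan.IsUnitaryHom X) (e : V ≃ₗ[ℂ] E)
    (he : ∀ g v, X g (e v) = e (ρ g v)) (u : G) {η : ℂ} (hη1 : η ≠ 1) (hη : ‖η - 1‖ < 1)
    (hquad : ∀ v : V, ρ u (ρ u v) - (1 + η) • ρ u v + η • v = 0) :
    IsMulCommutative (Subgroup.normalClosure ({u} : Set G)) := by
  have hinj : Function.Injective X := by
    intro a a' h
    refine inv_mul_eq_one.1 (hρ _ (LinearMap.ext fun v => e.injective ?_))
    rw [← he, map_mul, ← h, ← map_mul, inv_mul_cancel, map_one]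
    rfl
  have hnear : Jordan.NearScalar X u := by
    refine nearScalar_of_quadratic hX u hη1 hη fun v => ?_
    obtain ⟨v, rfl⟩ := e.surjective v
    have h := congrArg e (hquad v)
    rw [map_zero, map_add, map_sub, map_smul, map_smul, ← he, ← he] at h
    exact h
  refine Subgroup.isMulCommutative_closure fun a ha b' hb' => ?_
  obtain ⟨_, rfl, hca⟩ := Group.mem_conjugatesOfSet_iff.1 ha
  obtain ⟨_, rfl, hcb⟩ := Group.mem_conjugatesOfSet_iff.1 hb'
  obtain ⟨g, rfl⟩ := isConj_iff.1 hca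
  obtain ⟨g', rfl⟩ := isConj_iff.1 hcb
  exact (Jordan.near_commute hX hinj (hnear.conj hX g) (hnear.conj hX g')).eq

/-- The primitive `p`-th root of unity nearest to `1`. -/
noncomputable def nearRoot (p : ℕ) : ℂ := Complex.exp (2 * Real.pi * Complex.I / p)

theorem norm_nearRoot_sub_one {p : ℕ} (hp : 7 ≤ p) : ‖nearRoot p - 1‖ < 1 := by
  have h := Complex.norm_exp_I_mul_ofReal_sub_one (2 * Real.pi / p)
  have e : Complex.I * ((2 * Real.pi / p : ℝ) : ℂ) = 2 * Real.pi * Complex.I / p := by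
    push_cast; ring
  rw [e] at h
  rw [nearRoot, h, show (2 * Real.pi / p) / 2 = Real.pi / p by ring]
  have hp0 : (0 : ℝ) < p := by exact_mod_cast (show 0 < p by omega)
  have h1 : Real.pi / p < Real.pi / 6 :=
    div_lt_div_of_pos_left Real.pi_pos (by norm_num) (by exact_mod_cast (show 6 < p by omega))
  have h2 : 0 ≤ Real.sin (Real.pi / p) := Real.sin_nonneg_of_nonneg_of_le_pi (by positivity)
    (by linarith [Real.pi_pos])
  have h3 : Real.sin (Real.pi / p) < Real.sin (Real.pi / 6) :=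
    Real.sin_lt_sin_of_lt_of_le_pi_div_two (by linarith [div_pos Real.pi_pos hp0, Real.pi_pos])
      (by linarith [Real.pi_pos]) h1
  rw [Real.sin_pi_div_six] at h3
  rw [norm_mul, Real.norm_ofNat, Real.norm_of_nonneg h2]
  linarith

/-- The geometric sum at a `p`-th root of unity. -/
theorem geom_root {p : ℕ} {w : ℂ} (hw : w ^ p = 1) :
    ∑ j ∈ Finset.range p, w ^ j = if w = 1 then (p : ℂ) else 0 := by
  split_ifs with h
  · simp [h]
  · rw [geom_sum_eq h, hw, sub_self, zero_div]

section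
variable {G : Type u} [Group G] [Fintype G] (χ : IrrCharacter G)
  (hfaith : ∀ g : G, (χ : G → ℂ) g = (χ : G → ℂ) 1 → g = 1)
  {n p : ℕ} (hn : (χ : G → ℂ) 1 = n) (hp : p.Prime)

include hfaith hn hp

/-- A non-abelian Sylow subgroup contains an element with character values `n - p + p η ^ j`. -/
theorem exists_pattern (hn2 : n < 2 * p) (P : Sylow p G)
    (hnc : ∃ x ∈ (P : Subgroup G), ∃ y ∈ (P : Subgroup G), x * y ≠ y * x) :
    p ≤ n ∧ ∃ u : G, u ^ p = 1 ∧
      ∀ j : ℕ, (χ : G → ℂ) (u ^ j) = ((n : ℂ) - p) + p * nearRoot p ^ j := by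
  haveI : Fact p.Prime := ⟨hp⟩
  obtain ⟨x, hx, y, hy, hxy⟩ := hnc
  set Q : Subgroup G := (P : Subgroup G) with hQ
  haveI : Fintype Q := Fintype.ofFinite _
  have hQp : IsPGroup p Q := P.2
  obtain ⟨m, hm⟩ := Chars.isCharacter_exists_nat_decomp
    (Chars.isCharacter_restrict (H := Q) (Chars.irr_isCharacter χ))
  choose d hd0 hd hdvd using fun ψ : IrrCharacter Q => Chars.irr_degree_dvd_card ψ
  have hdpow : ∀ ψ, d ψ = 1 ∨ p ∣ d ψ := by
    intro ψ
    obtain ⟨a, ha⟩ := hQp.exists_card_eq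
    obtain ⟨j, -, hj⟩ := (Nat.dvd_prime_pow hp).1 (ha ▸ hdvd ψ)
    rcases Nat.eq_zero_or_pos j with rfl | hj0
    · exact Or.inl (by simpa using hj)
    · exact Or.inr (hj ▸ dvd_pow_self p hj0.ne')
  have hsum : ∑ ψ, m ψ * d ψ = n := by
    have h := congrFun hm 1
    rw [show ((1 : Q) : G) = 1 from rfl, hn, Finset.sum_apply] at h
    have h' : ((∑ ψ, m ψ * d ψ : ℕ) : ℂ) = (n : ℂ) := by
      push_cast; rw [h]; exact Finset.sum_congr rfl fun ψ _ => by simp [hd]
    exact_mod_cast h'
  have hlin : ∀ ψ : IrrCharacter Q, d ψ = 1 → ∀ a b : Q,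
      (ψ : Q → ℂ) (a * b * a⁻¹ * b⁻¹) = 1 := by
    intro ψ h1 a b
    obtain ⟨f, hf⟩ := Chars.exists_hom_of_degree_one (Chars.irr_isCharacter ψ)
      (by rw [hd, h1, Nat.cast_one])
    rw [show (ψ : Q → ℂ) (a * b * a⁻¹ * b⁻¹) = (f (a * b * a⁻¹ * b⁻¹) : ℂ) from congrFun hf _]
    simp [mul_comm (f a) (f b)]
  obtain ⟨ψ0, hψ0m, hψ0d⟩ : ∃ ψ, m ψ ≠ 0 ∧ p ∣ d ψ := by
    by_contra hcon
    push Not at hcon
    refine hxy (commutatorElement_eq_one_iff_mul_comm.1 (hfaith _ ?_))
    set a : Q := ⟨x, hx⟩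
    set b : Q := ⟨y, hy⟩
    have h := congrFun hm (a * b * a⁻¹ * b⁻¹)
    have h1 := congrFun hm 1
    show (χ : G → ℂ) ((a * b * a⁻¹ * b⁻¹ : Q) : G) = (χ : G → ℂ) ((1 : Q) : G)
    refine h.trans (Eq.trans ?_ h1.symm)
    rw [Finset.sum_apply, Finset.sum_apply]
    refine Finset.sum_congr rfl fun ψ _ => ?_
    by_cases h0 : m ψ = 0
    · simp [h0]
    · have h1' := (hdpow ψ).resolve_right (hcon ψ h0)
      simp [hlin ψ h1' a b, hd, h1']
  have hd0' : d ψ0 = p ∧ m ψ0 = 1 ∧ ∀ ψ, ψ ≠ ψ0 → m ψ ≠ 0 → d ψ = 1 := by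
    obtain ⟨c, hc⟩ := hψ0d
    have hle := Finset.single_le_sum (f := fun ψ => m ψ * d ψ) (fun ψ _ => Nat.zero_le _)
      (Finset.mem_univ ψ0)
    simp only [hsum, hc] at hle
    have hc0 : 0 < c := by
      rcases Nat.eq_zero_or_pos c with rfl | h
      · have := hd0 ψ0; omega
      · exact h
    have hm0 : 0 < m ψ0 := Nat.pos_of_ne_zero hψ0m
    have hmc : m ψ0 * c = 1 := by
      have : m ψ0 * c < 2 := by
        by_contra h
        have : 2 * p ≤ m ψ0 * c * p := Nat.mul_le_mul_right _ (not_lt.1 h)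
        nlinarith
      have := Nat.mul_pos hm0 hc0
      omega
    refine ⟨by rw [hc, Nat.eq_one_of_mul_eq_one_left hmc, mul_one],
      Nat.eq_one_of_mul_eq_one_right hmc, fun ψ hne hψm => ?_⟩
    rcases hdpow ψ with h | h
    · exact h
    exfalso
    have h2 := Finset.sum_le_sum_of_subset (f := fun ψ => m ψ * d ψ)
      (Finset.subset_univ {ψ0, ψ})
    rw [Finset.sum_pair (Ne.symm hne)] at h2
    simp only [hsum] at h2
    have hp' : p ≤ m ψ * d ψ := (Nat.le_of_dvd (hd0 ψ) h).trans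
      (Nat.le_mul_of_pos_left _ (Nat.pos_of_ne_zero hψm))
    have : m ψ0 * d ψ0 = p := by rw [hc, mul_comm p c, ← mul_assoc, hmc, one_mul]
    omega
  obtain ⟨hdp, hm1, hothers⟩ := hd0'
  have hpn : p ≤ n := by
    rw [← hsum]
    calc p = m ψ0 * d ψ0 := by rw [hm1, hdp, one_mul]
      _ ≤ _ := Finset.single_le_sum (f := fun ψ => m ψ * d ψ) (fun ψ _ => Nat.zero_le _)
          (Finset.mem_univ ψ0)
  -- a central element in the derived subgroup
  haveI : Group.IsNilpotent Q := hQp.isNilpotent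
  have hder : commutator Q ≠ ⊥ := fun h => hxy (by
    have h1 : (⟨x, hx⟩ : Q) * ⟨y, hy⟩ * ⟨x, hx⟩⁻¹ * ⟨y, hy⟩⁻¹ ∈ commutator Q :=
      Subgroup.commutator_mem_commutator (Subgroup.mem_top _) (Subgroup.mem_top _)
    rw [h, Subgroup.mem_bot] at h1
    exact commutatorElement_eq_one_iff_mul_comm.1 (congrArg Subtype.val h1))
  have hint : commutator Q ⊓ Subgroup.center Q ≠ ⊥ :=
    Nilp.inf_center_ne_bot_of_normal hder
  obtain ⟨z, hz⟩ : ∃ z : ↥(commutator Q ⊓ Subgroup.center Q), orderOf z = p := by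
    obtain ⟨a, ha⟩ := (hQp.to_subgroup (commutator Q ⊓ Subgroup.center Q)).exists_card_eq
    refine exists_prime_orderOf_dvd_card' p (ha ▸ dvd_pow_self p ?_)
    rintro rfl
    exact hint (Subgroup.card_eq_one.1 (by simpa using ha))
  have hzQ : orderOf (z : Q) = p := by rw [← hz, Subgroup.orderOf_coe]
  obtain ⟨c, -, hc⟩ := SmallDegree.exists_central_scalar ψ0 (z.2.2 : (z : Q) ∈ Subgroup.center Q)
  have hcpow : ∀ j : ℕ, (ψ0 : Q → ℂ) ((z : Q) ^ j) = c ^ j * (d ψ0 : ℂ) := by
    intro j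
    induction j with
    | zero => simp [hd]
    | succ j ih => rw [pow_succ', hc, ih, pow_succ']; ring
  have hlinz : ∀ ψ : IrrCharacter Q, d ψ = 1 → ∀ g : Q, g ∈ commutator Q → (ψ : Q → ℂ) g = 1 := by
    intro ψ h1 g hg
    obtain ⟨f, hf⟩ := Chars.exists_hom_of_degree_one (Chars.irr_isCharacter ψ)
      (by rw [hd, h1, Nat.cast_one])
    have : g ∈ f.ker := Abelianization.commutator_subset_ker f hg
    rw [congrFun hf g]
    simp [MonoidHom.mem_ker.1 this]
  have hval : ∀ j : ℕ, (χ : G → ℂ) (((z : Q) : G) ^ j) = ((n : ℂ) - p) + p * c ^ j := by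
    intro j
    have h := congrFun hm ((z : Q) ^ j)
    rw [← SubgroupClass.coe_pow]
    refine h.trans ?_
    rw [Finset.sum_apply, ← Finset.add_sum_erase _ _ (Finset.mem_univ ψ0)]
    have h2 : ∑ ψ ∈ Finset.univ.erase ψ0, ((m ψ : ℂ) • (ψ : Q → ℂ)) ((z : Q) ^ j)
        = ((∑ ψ ∈ Finset.univ.erase ψ0, m ψ * d ψ : ℕ) : ℂ) := by
      push_cast
      refine Finset.sum_congr rfl fun ψ hψ => ?_
      by_cases h0 : m ψ = 0
      · simp [h0]
      · have h1 := hothers ψ (Finset.mem_erase.1 hψ).1 h0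
        simp [hlinz ψ h1 _ (Subgroup.pow_mem _ z.2.1 j), h1]
    rw [h2]
    have h3 : p + ∑ ψ ∈ Finset.univ.erase ψ0, m ψ * d ψ = n := by
      rw [← hsum, ← Finset.add_sum_erase _ _ (Finset.mem_univ ψ0), hm1, hdp, one_mul]
    rw [show ((n : ℂ) - p) = ((∑ ψ ∈ Finset.univ.erase ψ0, m ψ * d ψ : ℕ) : ℂ) by
      rw [← h3]; push_cast; ring]
    rw [Pi.smul_apply, smul_eq_mul, hm1, hcpow, hdp]
    push_cast; ring
  have hp0 : (p : ℂ) ≠ 0 := by exact_mod_cast hp.ne_zero
  have hzG : orderOf ((z : Q) : G) = p := by rw [← hzQ, Subgroup.orderOf_coe]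
  have hcp : c ^ p = 1 := by
    have h := hval p
    rw [← hzG, pow_orderOf_eq_one, hn, hzG] at h
    exact mul_left_cancel₀ hp0 (by linear_combination -h)
  have hc1 : c ≠ 1 := by
    intro h
    have := hval 1
    rw [h, one_pow, pow_one, mul_one, sub_add_cancel] at this
    have h1 := hfaith _ (this.trans hn.symm)
    rw [h1, orderOf_one] at hzG
    exact hp.ne_one hzG.symm
  have hprim : IsPrimitiveRoot c p :=
    (hp.eq_one_or_self_of_dvd _ (orderOf_dvd_of_pow_eq_one hcp)).elim
      (fun h => absurd (orderOf_eq_one_iff.1 h) hc1) (fun h => h ▸ IsPrimitiveRoot.orderOf c)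
  haveI : NeZero p := ⟨hp.ne_zero⟩
  obtain ⟨k, -, hk⟩ := hprim.eq_pow_of_pow_eq_one (ξ := nearRoot p)
    (Complex.isPrimitiveRoot_exp p hp.ne_zero).pow_eq_one
  refine ⟨hpn, ((z : Q) : G) ^ k, ?_, fun j => ?_⟩
  · rw [← pow_mul, mul_comm, pow_mul, ← hzG, pow_orderOf_eq_one, one_pow]
  · rw [← pow_mul, hval, pow_mul, hk]

/-- Blichfeldt: the element lies in an abelian normal subgroup. -/
theorem exists_abelian_normal (h7 : 7 ≤ p) {u : G} (hup : u ^ p = 1)
    (hu : ∀ j : ℕ, (χ : G → ℂ) (u ^ j) = ((n : ℂ) - p) + p * nearRoot p ^ j) :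
    IsMulCommutative (Subgroup.normalClosure ({u} : Set G)) := by
  haveI : Fact p.Prime := ⟨hp⟩
  set η := nearRoot p with hηdef
  have hηprim : IsPrimitiveRoot η p := Complex.isPrimitiveRoot_exp p hp.ne_zero
  have hη1 : η ≠ 1 := hηprim.ne_one hp.one_lt
  have hp0 : (p : ℂ) ≠ 0 := by exact_mod_cast hp.ne_zero
  -- weighted sums of powers
  have hweight : ∀ w : ℂ, w ^ p = 1 → ∑ j ∈ Finset.range p, w ^ j * (χ : G → ℂ) (u ^ j)
      = (if w = 1 then ((n : ℂ) - p) * p else 0) + (if w * η = 1 then (p : ℂ) * p else 0) := by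
    intro w hw
    simp only [hu, mul_add, Finset.sum_add_distrib]
    congr 1
    · rw [← Finset.sum_mul, geom_root hw]
      split_ifs <;> ring
    · rw [Finset.sum_congr rfl fun j _ => show w ^ j * ((p : ℂ) * η ^ j) = (p : ℂ) * (w * η) ^ j by
        rw [mul_pow]; ring, ← Finset.mul_sum, geom_root (by rw [mul_pow, hw, hηprim.pow_eq_one, one_mul])]
      split_ifs <;> ring
  -- the eigenvalues of u
  obtain ⟨N, ρ, hρ, hρχ⟩ := Chars.irr_exists_rep χ
  obtain ⟨ι, _, b, μ, hμ, hb⟩ := Chars.exists_eigenbasis ρ u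
  have hμp : ∀ i, μ i ^ p = 1 := fun i => by
    obtain ⟨k, hk⟩ := orderOf_dvd_of_pow_eq_one hup
    rw [hk, pow_mul, hμ, one_pow]
  have hμval : ∀ j : ℕ, (χ : G → ℂ) (u ^ j) = ∑ i, μ i ^ j := by
    intro j
    rw [← hρχ]
    refine Chars.trace_eq_sum_of_eigenbasis _ b _ fun i => ?_
    induction j with
    | zero => simp
    | succ j ih =>
      rw [pow_succ', map_mul, Module.End.mul_apply, ih, map_smul, hb, smul_smul, ← pow_succ]
  have hμmem : ∀ i, μ i = 1 ∨ μ i = η := by
    intro i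
    by_contra hcon
    push Not at hcon
    have hμ0 : μ i ≠ 0 := fun h => by have := hμp i; rw [h, zero_pow hp.ne_zero] at this; simp at this
    have h := hweight (μ i)⁻¹ (by rw [inv_pow, hμp, inv_one])
    rw [if_neg (fun h => hcon.1 (inv_eq_one.1 h)),
      if_neg (fun h => hcon.2 (inv_mul_eq_one₀ hμ0 |>.1 h)), add_zero] at h
    simp only [hμval, Finset.mul_sum] at h
    rw [Finset.sum_comm] at h
    have h2 : ∀ l, ∑ j ∈ Finset.range p, (μ i)⁻¹ ^ j * μ l ^ j
        = ((if μ l = μ i then p else 0 : ℕ) : ℂ) := by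
      intro l
      rw [Finset.sum_congr rfl fun j _ => (mul_pow _ _ _).symm,
        geom_root (by rw [mul_pow, inv_pow, hμp, hμp, inv_one, one_mul])]
      by_cases hl : μ l = μ i
      · simp [hl, hμ0]
      · rw [if_neg hl, if_neg fun h => hl (inv_mul_eq_one₀ hμ0 |>.1 h).symm, Nat.cast_zero]
    rw [Finset.sum_congr rfl fun l _ => h2 l, ← Nat.cast_sum, Nat.cast_eq_zero,
      Finset.sum_eq_zero_iff] at h
    have := h i (Finset.mem_univ _)
    rw [if_pos rfl] at this
    exact hp.ne_zero this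
  -- Blichfeldt
  obtain ⟨F, X, e, hX, hXe⟩ := exists_unitary_model_equiv ρ
  refine normalClosure_comm_of_quadratic ρ (fun g hg => hfaith _ ?_) hX e hXe u hη1
    (norm_nearRoot_sub_one h7) fun v => ?_
  · rw [← hρχ]
    exact (Chars.rep_eq_one_iff ρ _).1 hg
  · have hzero : (ρ u * ρ u - (1 + η) • ρ u + η • (1 : Module.End ℂ _)) = 0 := by
      refine b.ext fun i => ?_
      simp only [LinearMap.add_apply, LinearMap.sub_apply, LinearMap.smul_apply,
        Module.End.mul_apply, Module.End.one_apply, LinearMap.zero_apply, hb, map_smul]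
      rcases hμmem i with h | h <;> rw [h] <;> module
    exact LinearMap.congr_fun hzero v

/-- The restriction to the abelian normal subgroup is a sum of `n` distinct linear characters. -/
theorem exists_constituents (hn2 : n < 2 * p) (hnp : n ≠ p) (A : Subgroup G) [A.Normal]
    [IsMulCommutative A] {u : G} (huA : u ∈ A) (hup : u ^ p = 1)
    (hu : ∀ j : ℕ, (χ : G → ℂ) (u ^ j) = ((n : ℂ) - p) + p * nearRoot p ^ j) :
    ∃ O : Finset (A → ℂ), O.card = n ∧ (∀ φ ∈ O, IsIrrCharacter A φ ∧ φ 1 = 1) ∧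
      (∀ (g : G), ∀ φ ∈ O, conjFun g φ ∈ O) ∧ ∀ a : A, (χ : G → ℂ) a = ∑ φ ∈ O, φ a := by
  haveI : Fact p.Prime := ⟨hp⟩
  set η := nearRoot p with hηdef
  have hηprim : IsPrimitiveRoot η p := Complex.isPrimitiveRoot_exp p hp.ne_zero
  have hη1 : η ≠ 1 := hηprim.ne_one hp.one_lt
  have hp0 : (p : ℂ) ≠ 0 := by exact_mod_cast hp.ne_zero
  -- weighted sums of powers
  have hweight : ∀ w : ℂ, w ^ p = 1 → ∑ j ∈ Finset.range p, w ^ j * (χ : G → ℂ) (u ^ j)
      = (if w = 1 then ((n : ℂ) - p) * p else 0) + (if w * η = 1 then (p : ℂ) * p else 0) := by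
    intro w hw
    simp only [hu, mul_add, Finset.sum_add_distrib]
    congr 1
    · rw [← Finset.sum_mul, geom_root hw]
      split_ifs <;> ring
    · rw [Finset.sum_congr rfl fun j _ => show w ^ j * ((p : ℂ) * η ^ j) = (p : ℂ) * (w * η) ^ j by
        rw [mul_pow]; ring, ← Finset.mul_sum, geom_root (by rw [mul_pow, hw, hηprim.pow_eq_one, one_mul])]
      split_ifs <;> ring
  haveI : Fintype A := Fintype.ofFinite _
  obtain ⟨μ0, hμ0⟩ : ∃ l : IrrCharacter A, classInner (resFun A (χ : G → ℂ)) (l : A → ℂ) ≠ 0 := by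
    by_contra h
    push Not at h
    have h1 := congrFun (Chars.isCharacter_eq_sum_classInner
      (Chars.isCharacter_restrict (H := A) (Chars.irr_isCharacter χ))) 1
    have h2 : ∀ l : IrrCharacter A, classInner (fun a : A => (χ : G → ℂ) a) (l : A → ℂ) = 0 := h
    simp only [h2, zero_smul, Finset.sum_const_zero, Pi.zero_apply] at h1
    exact Chars.irr_apply_one_ne_zero χ (by simpa using h1)
  obtain ⟨m, hm⟩ := Clifford.classInner_irr_nat
    (Chars.isCharacter_restrict (H := A) (Chars.irr_isCharacter χ)) μ0.2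
  have hm' : classInner (resFun A (χ : G → ℂ)) (μ0 : A → ℂ) = m := hm
  set O := orbitFun (μ0 : A → ℂ) with hO
  have hres : ∀ a : A, (χ : G → ℂ) a = (m : ℂ) * ∑ φ ∈ O, φ a := by
    intro a
    have h := congrFun (Clifford.sum_resFun_eq_orbit χ.2 μ0.2 hμ0) a
    rw [hm'] at h
    simpa [Finset.mul_sum, hO, Clifford.resFun] using h
  have hOirr : ∀ φ ∈ O, IsIrrCharacter A φ := by
    intro φ hφ
    obtain ⟨g, rfl⟩ := Clifford.mem_orbitFun.1 hφ
    exact Clifford.isIrrCharacter_conjFun g μ0.2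
  have hO1 : ∀ φ ∈ O, φ 1 = 1 := fun φ hφ => Chars.irr_apply_one_of_comm ⟨φ, hOirr φ hφ⟩
  have hcard : m * O.card = n := by
    have h := hres 1
    rw [OneMemClass.coe_one, hn, Finset.sum_congr rfl hO1, Finset.sum_const, nsmul_one] at h
    exact_mod_cast h.symm
  have hm1 : m = 1 := by
    have hw := hweight η⁻¹ (by rw [inv_pow, hηprim.pow_eq_one, inv_one])
    have hη0 : η ≠ 0 := hηprim.ne_zero hp.ne_zero
    rw [if_neg (fun h => hη1 (inv_eq_one.1 h)), if_pos (inv_mul_cancel₀ hη0), zero_add] at hw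
    have hphi : ∀ φ ∈ O, ∑ j ∈ Finset.range p, η⁻¹ ^ j * φ ((⟨u, huA⟩ : A) ^ j)
        = ((if φ ⟨u, huA⟩ = η then p else 0 : ℕ) : ℂ) := by
      intro φ hφ
      obtain ⟨f, hf⟩ := Chars.exists_hom_of_degree_one
        (Chars.isCharacter_of_isIrrCharacter (hOirr φ hφ)) (hO1 φ hφ)
      have hfp : (f ⟨u, huA⟩ : ℂ) ^ p = 1 := by
        rw [← Units.val_pow_eq_pow_val, ← map_pow,
          show (⟨u, huA⟩ : A) ^ p = 1 from Subtype.ext (by simpa using hup), map_one, Units.val_one]
      rw [Finset.sum_congr rfl fun j _ => show η⁻¹ ^ j * φ ((⟨u, huA⟩ : A) ^ j)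
          = (η⁻¹ * (f ⟨u, huA⟩ : ℂ)) ^ j by simp only [hf, map_pow, Units.val_pow_eq_pow_val, mul_pow],
        geom_root (by rw [mul_pow, hfp, inv_pow, hηprim.pow_eq_one, inv_one, one_mul])]
      simp only [hf]
      by_cases hl : (f ⟨u, huA⟩ : ℂ) = η
      · simp [hl, hη0]
      · rw [if_neg hl, if_neg fun h => hl (inv_mul_eq_one₀ hη0 |>.1 h).symm, Nat.cast_zero]
    have hu' : ∀ j : ℕ, (χ : G → ℂ) (u ^ j) = (m : ℂ) * ∑ φ ∈ O, φ ((⟨u, huA⟩ : A) ^ j) := fun j => by
      rw [← hres]; simp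
    have hsum : ((m * ∑ φ ∈ O, if φ ⟨u, huA⟩ = η then p else 0 : ℕ) : ℂ) = ((p * p : ℕ) : ℂ) := by
      rw [Nat.cast_mul, Nat.cast_mul, ← hw, Nat.cast_sum, Finset.mul_sum]
      simp only [hu', Finset.mul_sum]
      rw [Finset.sum_comm]
      refine Finset.sum_congr rfl fun φ hφ => ?_
      rw [← hphi φ hφ, Finset.mul_sum]
      exact Finset.sum_congr rfl fun j _ => by ring
    rw [Nat.cast_inj, Finset.sum_ite, Finset.sum_const_zero, add_zero, Finset.sum_const, smul_eq_mul,
      ← mul_assoc] at hsum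
    have hdvd : m ∣ p := ⟨_, (Nat.eq_of_mul_eq_mul_right hp.pos hsum).symm⟩
    rcases hp.eq_one_or_self_of_dvd m hdvd with h | h
    · exact h
    · exfalso
      subst h
      rcases Nat.lt_or_ge O.card 2 with h2 | h2
      · rcases Nat.eq_zero_or_pos O.card with h0 | h0
        · rw [h0, mul_zero] at hcard
          exact Chars.irr_apply_one_ne_zero χ (by rw [hn, ← hcard, Nat.cast_zero])
        · rw [show O.card = 1 by omega, mul_one] at hcard; exact hnp hcard.symm
      · have := Nat.mul_le_mul_left m h2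
        omega
  subst hm1
  simp only [Nat.cast_one, one_mul] at hres hcard
  refine ⟨O, hcard, fun φ hφ => ⟨hOirr φ hφ, hO1 φ hφ⟩, fun g φ hφ => ?_, hres⟩
  obtain ⟨h, rfl⟩ := Clifford.mem_orbitFun.1 hφ
  exact Clifford.mem_orbitFun.2 ⟨h * g, by rw [Clifford.conjFun_mul]⟩

omit hn hp in
/-- With multiplicity one on `A`, the centralizer of `A` is abelian. -/
theorem centralizer_comm (A : Subgroup G) [A.Normal] [IsMulCommutative A] {O : Finset (A → ℂ)}
    (hOirr : ∀ φ ∈ O, IsIrrCharacter A φ) (hres : ∀ a : A, (χ : G → ℂ) a = ∑ φ ∈ O, φ a) :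
    IsMulCommutative (Subgroup.centralizer (A : Set G)) := by
  haveI : Fintype A := Fintype.ofFinite _
  set C : Subgroup G := Subgroup.centralizer (A : Set G) with hC
  haveI : C.Normal := Subgroup.normal_centralizer
  have hAC : A ≤ C := Subgroup.le_centralizer A
  haveI : Fintype C := Fintype.ofFinite _
  have hCcomm : IsMulCommutative C := by
    obtain ⟨k, hk⟩ := Chars.isCharacter_exists_nat_decomp
      (Chars.isCharacter_restrict (H := C) (Chars.irr_isCharacter χ))
    have hdeg : ∀ θ : IrrCharacter C, k θ ≠ 0 → (θ : C → ℂ) 1 = 1 := by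
      intro θ hθ
      obtain ⟨t, ht0, ht⟩ := Chars.isIrrCharacter_exists_degree_pos θ.2
      -- on A the character θ is a multiple of one linear character
      have hcen : ∀ a : A, (⟨a, hAC a.2⟩ : C) ∈ Subgroup.center C := fun a =>
        Subgroup.mem_center_iff.2 fun c => Subtype.ext ((c.2 a a.2).symm)
      choose s hs1 hs using fun a : A => SmallDegree.exists_central_scalar θ (hcen a)
      let θA : A → ℂ := fun a => (θ : C → ℂ) ⟨a, hAC a.2⟩
      have hθAc : IsCharacter A θA :=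
        Chars.isCharacter_comp (Subgroup.inclusion hAC) (Chars.irr_isCharacter θ)
      have hθA : ∀ a, θA a = s a * (t : ℂ) := fun a => by
        have h := hs a 1
        rw [mul_one, ht] at h
        exact h
      -- pick a linear constituent
      obtain ⟨l, hl⟩ : ∃ l : IrrCharacter A, classInner θA (l : A → ℂ) ≠ 0 := by
        by_contra h
        push Not at h
        have h1 := congrFun (Chars.isCharacter_eq_sum_classInner hθAc) 1
        simp only [h, zero_smul, Finset.sum_const_zero, Pi.zero_apply] at h1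
        rw [show θA 1 = (θ : C → ℂ) 1 from rfl, ht, Nat.cast_eq_zero] at h1
        omega
      obtain ⟨c, hcdec⟩ := Chars.isCharacter_exists_nat_decomp hθAc
      -- the norm of θ on A
      have hnorm : classInner θA θA = ((t ^ 2 : ℕ) : ℂ) := by
        unfold classInner
        rw [Finset.sum_congr rfl fun a _ => show θA a * conj (θA a) = (t : ℂ) ^ 2 by
            rw [hθA, map_mul, Complex.conj_natCast, mul_mul_mul_comm, Complex.mul_conj',
              hs1, Complex.ofReal_one, one_pow, one_mul, sq],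
          Finset.sum_const, Finset.card_univ, nsmul_eq_mul, ← Nat.card_eq_fintype_card,
          inv_mul_cancel_left₀ Chars.natCard_ne_zero, Nat.cast_pow]
      -- multiplicities of the restriction to A are at most one
      have hle : ∀ l' : IrrCharacter A, k θ * c l' ≤ 1 := by
        intro l'
        choose r hr using fun θ' : IrrCharacter C => Chars.isCharacter_classInner_nat
          (Chars.isCharacter_comp (Subgroup.inclusion hAC) (Chars.irr_isCharacter θ'))
          (Chars.irr_isCharacter l')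
        have h1 : classInner (fun a : A => (χ : G → ℂ) a) (l' : A → ℂ)
            = ((∑ θ', k θ' * r θ' : ℕ) : ℂ) := by
          rw [show (fun a : A => (χ : G → ℂ) a) = ∑ θ' : IrrCharacter C, (k θ' : ℂ) •
              (fun a : A => (θ' : C → ℂ) (Subgroup.inclusion hAC a)) from funext fun a => by
            have := congrFun hk (Subgroup.inclusion hAC a)
            simpa using this, Chars.classInner_sum_left]
          push_cast
          exact Finset.sum_congr rfl fun θ' _ => by rw [Chars.classInner_smul_left, hr]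
        have h2 : classInner (fun a : A => (χ : G → ℂ) a) (l' : A → ℂ)
            = if (l' : A → ℂ) ∈ O then 1 else 0 := by
          rw [show (fun a : A => (χ : G → ℂ) a) = ∑ φ ∈ O, φ from funext fun a => by
            simp [hres a], Chars.classInner_sum_left]
          rw [Finset.sum_congr rfl fun φ hφ => show classInner φ (l' : A → ℂ)
              = if φ = (l' : A → ℂ) then 1 else 0 by
            by_cases hφl : φ = (l' : A → ℂ)
            · rw [if_pos hφl, hφl, Chars.classInner_irr_self]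
            · rw [if_neg hφl]
              exact Chars.classInner_irr_of_ne (χ := ⟨φ, hOirr φ hφ⟩)
                fun h => hφl (congrArg Subtype.val h), Finset.sum_ite_eq']
        have h3 : ∑ θ', k θ' * r θ' ≤ 1 := by
          rw [h1] at h2
          split_ifs at h2
          · exact le_of_eq (by exact_mod_cast h2)
          · exact le_of_eq_of_le (by exact_mod_cast h2) zero_le_one
        have h4 : r θ = c l' := by
          have := hr θ
          rw [show (fun a : A => (θ : C → ℂ) (Subgroup.inclusion hAC a)) = θA from rfl, hcdec,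
            Chars.classInner_sum_smul_irr] at this
          exact_mod_cast this.symm
        exact h4 ▸ le_trans (Finset.single_le_sum (f := fun θ' => k θ' * r θ')
          (fun _ _ => Nat.zero_le _) (Finset.mem_univ θ)) h3
      have hc1 : ∀ l', c l' ≤ 1 := fun l' =>
        le_trans (Nat.le_mul_of_pos_left _ (Nat.pos_of_ne_zero hθ)) (hle l')
      have hsumc : ∑ l', c l' = t := by
        have h := congrFun hcdec 1
        rw [show θA 1 = (θ : C → ℂ) 1 from rfl, ht, Finset.sum_apply] at h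
        have h' : ((∑ l', c l' : ℕ) : ℂ) = (t : ℂ) := by
          push_cast
          rw [h]
          exact Finset.sum_congr rfl fun l' _ => by
            simp [Chars.irr_apply_one_of_comm l']
        exact_mod_cast h'
      have hsq : ∑ l', c l' ^ 2 = t ^ 2 := by
        have h : classInner θA θA = ((∑ l', c l' ^ 2 : ℕ) : ℂ) := by
          conv_lhs => arg 1; rw [hcdec]
          rw [Chars.classInner_sum_left]
          push_cast
          refine Finset.sum_congr rfl fun l' _ => ?_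
          rw [Chars.classInner_smul_left, hcdec, ← Chars.conj_classInner,
            Chars.classInner_sum_smul_irr, Complex.conj_natCast, sq]
        exact_mod_cast h.symm.trans hnorm
      have h5 : ∑ l', c l' ^ 2 = ∑ l', c l' := Finset.sum_congr rfl fun l' _ => by
        have := hc1 l'
        interval_cases (c l') <;> rfl
      rw [h5, hsumc] at hsq
      have : t = 1 := by nlinarith
      rw [ht, this, Nat.cast_one]
    refine ⟨⟨fun a b' => ?_⟩⟩
    refine commutatorElement_eq_one_iff_mul_comm.1 (Subtype.ext (hfaith _ ?_))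
    have h := congrFun hk (a * b' * a⁻¹ * b'⁻¹)
    have h1 := congrFun hk 1
    show (χ : G → ℂ) ((a * b' * a⁻¹ * b'⁻¹ : C) : G) = (χ : G → ℂ) ((1 : C) : G)
    refine h.trans (Eq.trans ?_ h1.symm)
    rw [Finset.sum_apply, Finset.sum_apply]
    refine Finset.sum_congr rfl fun θ _ => ?_
    by_cases h0 : k θ = 0
    · simp [h0]
    · obtain ⟨f, hf⟩ := Chars.exists_hom_of_degree_one (Chars.irr_isCharacter θ) (hdeg θ h0)
      show (k θ : ℂ) * (θ : C → ℂ) _ = (k θ : ℂ) * (θ : C → ℂ) _
      simp only [hf]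
      simp [mul_comm (f a) (f b')]
  exact hCcomm

/-- The index of the `p`-core has at most one factor `p`. -/
theorem not_sq_dvd_index (h7 : 7 ≤ p) (hn2 : n < 2 * p) (hnp : n ≠ p) (P : Sylow p G)
    (hnc : ∃ x ∈ (P : Subgroup G), ∃ y ∈ (P : Subgroup G), x * y ≠ y * x) :
    ¬ p ^ 2 ∣ (pCore p G).index := by
  haveI : Fact p.Prime := ⟨hp⟩
  obtain ⟨hpn, u, hup, hu⟩ := exists_pattern χ hfaith hn hp hn2 P hnc
  haveI hcommA := exists_abelian_normal χ hfaith hn hp h7 hup hu
  set A : Subgroup G := Subgroup.normalClosure {u} with hA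
  obtain ⟨O, hcard, hO, hstable, hres⟩ := exists_constituents χ hfaith hn hp hn2 hnp A
    (Subgroup.subset_normalClosure rfl) hup hu
  have hOirr := fun φ hφ => (hO φ hφ).1
  have hO1 := fun φ hφ => (hO φ hφ).2
  haveI hCcomm := centralizer_comm χ hfaith A hOirr hres
  set C : Subgroup G := Subgroup.centralizer (A : Set G) with hC
  haveI : C.Normal := Subgroup.normal_centralizer
  -- the quotient by C permutes the constituents on A
  let act : G →* Equiv.Perm {φ : A → ℂ // φ ∈ O} :=
    { toFun := fun g =>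
        { toFun := fun φ => ⟨conjFun g⁻¹ φ.1, hstable _ _ φ.2⟩
          invFun := fun φ => ⟨conjFun g φ.1, hstable _ _ φ.2⟩
          left_inv := fun φ => Subtype.ext (by
            show conjFun g (conjFun g⁻¹ φ.1) = φ.1
            rw [← Clifford.conjFun_mul, inv_mul_cancel, Clifford.conjFun_one])
          right_inv := fun φ => Subtype.ext (by
            show conjFun g⁻¹ (conjFun g φ.1) = φ.1
            rw [← Clifford.conjFun_mul, mul_inv_cancel, Clifford.conjFun_one]) }
      map_one' := Equiv.ext fun φ => Subtype.ext (by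
        show conjFun (1 : G)⁻¹ φ.1 = φ.1
        rw [inv_one, Clifford.conjFun_one])
      map_mul' := fun g h => Equiv.ext fun φ => Subtype.ext (by
        show conjFun (g * h)⁻¹ φ.1 = conjFun g⁻¹ (conjFun h⁻¹ φ.1)
        rw [mul_inv_rev, Clifford.conjFun_mul]) }
  have hker : act.ker ≤ C := by
    intro g hg
    rw [hC, Subgroup.mem_centralizer_iff]
    intro a ha
    have hfix : ∀ φ ∈ O, conjFun g φ = φ := by
      intro φ hφ
      have h : act g ⟨φ, hφ⟩ = ⟨φ, hφ⟩ := by rw [MonoidHom.mem_ker.1 hg]; rfl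
      have h' : conjFun g⁻¹ φ = φ := congrArg Subtype.val h
      conv_lhs => rw [← h', ← Clifford.conjFun_mul, inv_mul_cancel, Clifford.conjFun_one]
    set b' : A := ⟨g * a * g⁻¹, (Subgroup.normalClosure_normal).conj_mem a ha g⟩
    have h1 : a⁻¹ * (g * a * g⁻¹) = 1 := by
      refine hfaith _ ?_
      have e1 : (χ : G → ℂ) (a⁻¹ * (g * a * g⁻¹)) = (χ : G → ℂ) ((⟨a, ha⟩⁻¹ * b' : A) : G) := rfl
      rw [e1, hres, ← OneMemClass.coe_one A, hres]
      refine Finset.sum_congr rfl fun φ hφ => ?_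
      obtain ⟨f, hf⟩ := Chars.exists_hom_of_degree_one
        (Chars.isCharacter_of_isIrrCharacter (hOirr φ hφ)) (hO1 φ hφ)
      have h2 : φ b' = φ ⟨a, ha⟩ := congrFun (hfix φ hφ) ⟨a, ha⟩
      simp only [hf] at h2 ⊢
      rw [map_mul, map_inv, Units.ext h2, inv_mul_cancel, map_one]
    exact eq_mul_inv_iff_mul_eq.1 (inv_mul_eq_one.1 h1)
  have hfact : C.index ∣ n.factorial := by
    refine (Subgroup.index_dvd_of_le hker).trans ?_
    rw [Subgroup.index_ker, show n = Nat.card {φ : A → ℂ // φ ∈ O} by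
      rw [Nat.card_eq_fintype_card, Fintype.card_coe, hcard], ← Nat.card_perm]
    exact Subgroup.card_subgroup_dvd_card _
  -- the Sylow subgroup of C lies in the core
  haveI := hCcomm
  let S : Sylow p C := default
  have hSn : (S : Subgroup C).Normal := inferInstance
  have hSchar : (S : Subgroup C).Characteristic := Sylow.characteristic_of_normal S hSn
  have hK : (S : Subgroup C).map C.subtype ≤ pCore p G :=
    le_sSup ⟨inferInstance, S.2.map C.subtype⟩
  intro hdvd
  have h1 : p ^ 2 ∣ ((S : Subgroup C).map C.subtype).index :=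
    hdvd.trans (Subgroup.index_dvd_of_le hK)
  rw [Subgroup.index_map_subtype] at h1
  have h2 : p ^ 2 ∣ C.index :=
    (((Nat.Prime.coprime_iff_not_dvd hp).2 S.not_dvd_index).pow_left 2).dvd_of_dvd_mul_left h1
  have h3 := (hp.pow_dvd_iff_le_factorization (Nat.factorial_ne_zero n)).1 (h2.trans hfact)
  rw [Nat.factorization_factorial hp (b := 2) ((Nat.log_lt_of_lt_pow' (by norm_num)
    (by nlinarith : n < p ^ 2)))] at h3
  simp only [Finset.sum_Ico_succ_top (le_refl 1), Finset.Ico_self, Finset.sum_empty, zero_add,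
    pow_one] at h3
  have : n / p < 2 := Nat.div_lt_of_lt_mul (by omega)
  omega

end

/-- Both conclusions. -/
theorem main {G : Type u} [Group G] [Finite G] (χ : IrrCharacter G)
    (hfaith : ∀ g : G, (χ : G → ℂ) g = (χ : G → ℂ) 1 → g = 1) {n p : ℕ}
    (hn : (χ : G → ℂ) 1 = n) (hp : p.Prime) (h7 : 7 ≤ p) (hn2 : n < 2 * p) (hnp : n ≠ p) :
    ((∃ P : Sylow p G, ∃ x ∈ (P : Subgroup G), ∃ y ∈ (P : Subgroup G), x * y ≠ y * x) →
      ¬ p ^ 2 ∣ (pCore p G).index) ∧
    ∀ Q : Sylow p (G ⧸ pCore p G), ∀ x ∈ (Q : Subgroup (G ⧸ pCore p G)),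
      ∀ y ∈ (Q : Subgroup (G ⧸ pCore p G)), x * y = y * x := by
  haveI : Fact p.Prime := ⟨hp⟩
  haveI : Fintype G := Fintype.ofFinite G
  have h1 : (∃ P : Sylow p G, ∃ x ∈ (P : Subgroup G), ∃ y ∈ (P : Subgroup G), x * y ≠ y * x) →
      ¬ p ^ 2 ∣ (pCore p G).index :=
    fun ⟨P, hP⟩ => not_sq_dvd_index χ hfaith hn hp h7 hn2 hnp P hP
  refine ⟨h1, fun Q x hx y hy => ?_⟩
  obtain ⟨P, hP⟩ := Sylow.mapSurjective_surjective
    (QuotientGroup.mk'_surjective (pCore p G)) p Q
  by_cases hPc : ∀ a ∈ (P : Subgroup G), ∀ b ∈ (P : Subgroup G), a * b = b * a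
  · rw [← hP, Sylow.coe_mapSurjective] at hx hy
    obtain ⟨a, ha, rfl⟩ := hx
    obtain ⟨b, hb, rfl⟩ := hy
    rw [← map_mul, ← map_mul, hPc a ha b hb]
  · push Not at hPc
    obtain ⟨a, ha, b, hb, hab⟩ := hPc
    have h2 := h1 ⟨P, a, ha, b, hb, hab⟩
    obtain ⟨k, hk⟩ := Q.2.exists_card_eq
    have hk1 : k ≤ 1 := by
      by_contra h
      exact h2 (((pow_dvd_pow p (by omega : 2 ≤ k)).trans (hk ▸ dvd_rfl)).trans
        (Subgroup.card_subgroup_dvd_card (Q : Subgroup (G ⧸ pCore p G))))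
    haveI : IsCyclic (Q : Subgroup (G ⧸ pCore p G)) := by
      interval_cases k
      · haveI : Subsingleton (Q : Subgroup (G ⧸ pCore p G)) :=
          (Nat.card_eq_one_iff_unique.1 (by simpa using hk)).1
        exact isCyclic_of_subsingleton
      · exact isCyclic_of_prime_card (p := p) (by simpa using hk)
    exact congrArg Subtype.val ((IsCyclic.commGroup (α := (Q : Subgroup (G ⧸ pCore p G)))).mul_comm
      ⟨x, hx⟩ ⟨y, hy⟩)

end Cfsg.Agent.Lib.SmallDegree.BelowTwoP
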