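import Mathlib
import Cfsg.Agent.Lib.Chars.Ops
import Cfsg.Agent.Lib.Chars.Completeness

/-!
# Isotypic components of a character on a product `P × V` with `P` abelian.

For a character `ζ` of `G`, commuting subgroups `P`, `V` and a linear character `a` of `P`,
`part P V ζ a` is the character of `V` afforded by the `a`-eigenspace.
-/

set_option autoImplicit false

namespace Cfsg.Agent.Lib.SmallDegree

open scoped ComplexConjugate
open Cfsg Cfsg.Agent.Lib.Chars

universe u

section Duality

variable {A : Type u} [Group A] [Finite A]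

theorem finite_lin : Finite (A →* ℂˣ) := by
  refine Nat.finite_of_card_ne_zero ?_
  rw [card_monoidHom_units]
  exact Subgroup.index_ne_zero_of_finite

theorem card_lin [IsMulCommutative A] : Nat.card (A →* ℂˣ) = Nat.card A := by
  have h : commutator A = ⊥ := by
    rw [commutator_def, Subgroup.commutator_eq_bot_iff_le_centralizer]
    exact fun a _ => Subgroup.mem_centralizer_iff.mpr fun b _ => Std.Commutative.comm b a
  rw [card_monoidHom_units, h, Subgroup.index_bot]

theorem sum_lin_apply [IsMulCommutative A] [Fintype (A →* ℂˣ)] [DecidableEq A] (y : A) :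
    ∑ f : A →* ℂˣ, (f y : ℂ) = if y = 1 then (Nat.card A : ℂ) else 0 := by
  split
  · next h =>
    subst h
    simp [← card_lin (A := A), Nat.card_eq_fintype_card]
  · next h =>
    letI : CommGroup A := { (inferInstance : Group A) with mul_comm := fun a b => Std.Commutative.comm a b }
    obtain ⟨m, hm⟩ := CommGroup.exists_apply_ne_one_of_hasEnoughRootsOfUnity A ℂ h
    have h1 : ∑ f : A →* ℂˣ, (f y : ℂ) = (m y : ℂ) * ∑ f : A →* ℂˣ, (f y : ℂ) := by
      rw [Finset.mul_sum]
      exact (Fintype.sum_equiv (Equiv.mulLeft m) _ _ fun f => by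
        simp [MonoidHom.mul_apply]).symm
    by_contra h0
    exact hm (Units.ext (by simpa using (mul_right_eq_self₀.mp ((mul_comm _ _).trans h1.symm)).resolve_right h0))

theorem conj_lin (f : A →* ℂˣ) (y : A) : conj (f y : ℂ) = (f y⁻¹ : ℂ) := by
  rw [map_inv, Units.val_inv_eq_inv_val, Complex.inv_eq_conj (norm_hom_apply f y)]

theorem sum_apply_lin [IsMulCommutative A] [Fintype A] (f : A →* ℂˣ) [DecidableEq (A →* ℂˣ)] :
    ∑ y : A, (f y : ℂ) = if f = 1 then (Nat.card A : ℂ) else 0 := by
  split
  · next h => subst h; simp [Nat.card_eq_fintype_card]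
  · next h =>
    obtain ⟨a, ha⟩ : ∃ a, f a ≠ 1 := by
      by_contra hc; push Not at hc; exact h (MonoidHom.ext fun y => by simpa using hc y)
    have h1 : ∑ y : A, (f y : ℂ) = (f a : ℂ) * ∑ y : A, (f y : ℂ) := by
      rw [Finset.mul_sum]
      exact (Fintype.sum_equiv (Equiv.mulLeft a) _ _ fun y => by simp).symm
    by_contra h0
    exact ha (Units.ext (by simpa using (mul_right_eq_self₀.mp ((mul_comm _ _).trans h1.symm)).resolve_right h0))

end Duality

section Part

variable {G : Type u} [Group G] [Fintype G]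

/-- The component of `ζ` on `V` belonging to the linear character `a` of `P`. -/
noncomputable def part (P V : Subgroup G) [Fintype P] (ζ : G → ℂ) (a : P →* ℂˣ) : V → ℂ :=
  fun v => (Nat.card P : ℂ)⁻¹ * ∑ y : P, conj (a y : ℂ) * ζ ((y : G) * (v : G))

variable {P V : Subgroup G} [Fintype P] [Fintype V]

theorem part_add (φ ψ : G → ℂ) (a : P →* ℂˣ) :
    part P V (φ + ψ) a = part P V φ a + part P V ψ a := by
  funext v
  simp only [part, Pi.add_apply, mul_add, Finset.sum_add_distrib]

theorem part_sum {ι : Type*} (s : Finset ι) (c : ι → ℂ) (f : ι → G → ℂ) (a : P →* ℂˣ) (v : V) :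
    part P V (fun g => ∑ i ∈ s, c i * f i g) a v = ∑ i ∈ s, c i * part P V (f i) a v := by
  simp only [part, Finset.mul_sum]
  rw [Finset.sum_comm]
  exact Finset.sum_congr rfl fun i _ => Finset.sum_congr rfl fun y _ => by ring

/-- Fourier inversion. -/
theorem sum_part [IsMulCommutative P] [Fintype (P →* ℂˣ)] (ζ : G → ℂ) (y : P) (v : V) :
    ∑ a : P →* ℂˣ, (a y : ℂ) * part P V ζ a v = ζ ((y : G) * v) := by
  classical
  calc ∑ a : P →* ℂˣ, (a y : ℂ) * part P V ζ a v
      = ∑ x : P, ∑ a : P →* ℂˣ,
          (Nat.card P : ℂ)⁻¹ * ζ ((x : G) * v) * (a (y * x⁻¹) : ℂ) := by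
        rw [Finset.sum_comm]
        refine Finset.sum_congr rfl fun a _ => ?_
        simp only [part, Finset.mul_sum]
        refine Finset.sum_congr rfl fun x _ => ?_
        rw [map_mul, Units.val_mul, ← conj_lin]
        ring
    _ = ζ ((y : G) * v) := by
        simp only [← Finset.mul_sum, sum_lin_apply, mul_inv_eq_one, mul_ite, mul_zero,
          Finset.sum_ite_eq, Finset.mem_univ, if_true]
        field_simp

/-- Parseval. -/
theorem sum_normSq_part [IsMulCommutative P] [Fintype (P →* ℂˣ)] (ζ : G → ℂ) (v : V) :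
    ∑ y : P, Complex.normSq (ζ ((y : G) * v))
      = (Nat.card P : ℝ) * ∑ a : P →* ℂˣ, Complex.normSq (part P V ζ a v) := by
  have key : ∑ y : P, (ζ ((y : G) * v) * conj (ζ ((y : G) * v)))
      = (Nat.card P : ℂ) * ∑ a : P →* ℂˣ, part P V ζ a v * conj (part P V ζ a v) := by
    calc ∑ y : P, (ζ ((y : G) * v) * conj (ζ ((y : G) * v)))
        = ∑ y : P, ∑ a : P →* ℂˣ,
            conj (part P V ζ a v) * (conj (a y : ℂ) * ζ ((y : G) * v)) := by
          refine Finset.sum_congr rfl fun y _ => ?_
          conv_lhs => arg 2; rw [← sum_part ζ y v, map_sum, ]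
          rw [Finset.mul_sum]
          exact Finset.sum_congr rfl fun a _ => by rw [map_mul]; ring
      _ = ∑ a : P →* ℂˣ, conj (part P V ζ a v) * ((Nat.card P : ℂ) * part P V ζ a v) := by
          rw [Finset.sum_comm]
          refine Finset.sum_congr rfl fun a _ => ?_
          rw [← Finset.mul_sum]
          congr 1
          simp only [part]
          field_simp
      _ = _ := by
          rw [Finset.mul_sum]
          exact Finset.sum_congr rfl fun a _ => by ring
  apply Complex.ofReal_injective
  push_cast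
  simpa [Complex.mul_conj] using key

variable (hcomm : ∀ y ∈ P, ∀ v ∈ V, y * v = v * y)
include hcomm

/-- The multiplication map. -/
def mulHom : P × V →* G where
  toFun x := (x.1 : G) * (x.2 : G)
  map_one' := by simp
  map_mul' x y := by
    have := hcomm _ y.1.2 _ x.2.2
    simp only [Prod.fst_mul, Prod.snd_mul, Subgroup.coe_mul]
    rw [mul_assoc, ← mul_assoc (y.1 : G), this, mul_assoc, mul_assoc]

theorem isCharacter_part {ζ : G → ℂ} (hζ : IsCharacter G ζ) (a : P →* ℂˣ) :
    IsCharacter V (part P V ζ a) := by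
  classical
  refine isCharacter_of_isClassFunction_of_nat (fun v u => ?_) fun θ => ?_
  · simp only [part]
    refine congrArg _ (Finset.sum_congr rfl fun y _ => ?_)
    have e : (y : G) * ((u * v * u⁻¹ : V) : G) = (u : G) * ((y : G) * v) * (u : G)⁻¹ := by
      have h := hcomm _ y.2 _ u.2
      simp only [Subgroup.coe_mul, Subgroup.coe_inv, ← mul_assoc, h]
    rw [e, isClassFunction_of_isCharacter hζ]
  · have h1 : IsCharacter (P × V) (fun x => ζ (mulHom hcomm x)) := isCharacter_comp _ hζ
    have h2 : IsCharacter (P × V) ((fun x : P × V => (a x.1 : ℂ)) * fun x => (θ : V → ℂ) x.2) :=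
      isCharacter_mul (isCharacter_comp (MonoidHom.fst P V) (isCharacter_hom a))
        (isCharacter_comp (MonoidHom.snd P V) (irr_isCharacter θ))
    obtain ⟨k, hk⟩ := isCharacter_classInner_nat h1 h2
    refine ⟨k, hk ▸ ?_⟩
    simp only [classInner, part, Fintype.sum_prod_type_right, Nat.card_prod, Nat.cast_mul,
      mul_inv, Finset.mul_sum, Finset.sum_mul, Pi.mul_apply, map_mul]
    refine Finset.sum_congr rfl fun v _ => Finset.sum_congr rfl fun y _ => ?_
    change _ = _ * (ζ ((y : G) * v) * _)
    ring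

/-- The multiplicity of `a` in `ζ` restricted to `P`. -/
theorem exists_part_one_eq {ζ : G → ℂ} (hζ : IsCharacter G ζ) (a : P →* ℂˣ) :
    ∃ k : ℕ, part P V ζ a 1 = k :=
  isCharacter_exists_degree (isCharacter_part hcomm hζ a)

theorem norm_part_le {ζ : G → ℂ} (hζ : IsCharacter G ζ) (a : P →* ℂˣ) (v : V) :
    ‖part P V ζ a v‖ ≤ (part P V ζ a 1).re := by
  obtain ⟨n, ρ, h⟩ := isCharacter_part hcomm hζ a
  rw [← h, Representation.char_one, Module.finrank_fin_fun, Complex.natCast_re]
  simpa using norm_char_le ρ v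

/-- The sum of squared absolute values of a component is a multiple of `|V|`. -/
theorem exists_sum_normSq_part {ζ : G → ℂ} (hζ : IsCharacter G ζ) (a : P →* ℂˣ) :
    ∃ k : ℕ, ∑ v : V, Complex.normSq (part P V ζ a v) = k * Nat.card V ∧
      (part P V ζ a 1 ≠ 0 → 1 ≤ k) := by
  obtain ⟨k, hk⟩ := isCharacter_classInner_nat (isCharacter_part hcomm hζ a)
    (isCharacter_part hcomm hζ a)
  have hV : (Nat.card V : ℂ) ≠ 0 := natCard_ne_zero
  have h1 : ∑ v : V, Complex.normSq (part P V ζ a v) = k * (Nat.card V : ℝ) := by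
    apply Complex.ofReal_injective
    push_cast
    simp only [classInner, Complex.mul_conj] at hk
    rw [← hk]
    field_simp
  refine ⟨k, h1, fun h0 => Nat.one_le_iff_ne_zero.mpr fun hk0 => ?_⟩
  rw [hk0, Nat.cast_zero, zero_mul, Finset.sum_eq_zero_iff_of_nonneg fun v _ => Complex.normSq_nonneg _] at h1
  exact h0 (Complex.normSq_eq_zero.mp (h1 1 (Finset.mem_univ _)))

end Part

end Cfsg.Agent.Lib.SmallDegree
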