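import Mathlib
import Cfsg.Agent.Lib.SmallDegree.FTBound
import Cfsg.Agent.Lib.CharsElem

/-!
# Feit–Thompson: faithful representations of degree `n` with `(n+1)² ≤ p` force a normal Sylow
`p`-subgroup.
-/

set_option autoImplicit false

namespace Cfsg.Agent.Lib.SmallDegree

open scoped ComplexConjugate
open Cfsg Cfsg.Agent.Lib.Chars
open scoped commutatorElement

universe u

/-- The hypothesis on `(G, n, p)`. -/
def FTHyp (p n : ℕ) (G : Type u) [Group G] : Prop :=
  (n + 1) ^ 2 ≤ p ∨ (n + 1 < p ∧ ∀ K : Subgroup G, ¬ p ^ 2 ∣ Nat.card K →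
    ∀ Q : Sylow p K, (Q : Subgroup K).Normal)

variable {G : Type u} [Group G] [Finite G] {p : ℕ} [Fact p.Prime]

theorem FTHyp.subgroup {n : ℕ} (h : FTHyp p n G) (H : Subgroup G) : FTHyp p n H := by
  refine h.imp id fun ⟨h1, h2⟩ => ⟨h1, fun K hK Q => ?_⟩
  let e : K ≃* (K.map H.subtype : Subgroup G) := K.equivMapOfInjective _ H.subtype_injective
  have hcard : Nat.card (K.map H.subtype : Subgroup G) = Nat.card K := Nat.card_congr e.symm.toEquiv
  have hK' : ¬ p ^ 2 ∣ Nat.card (K.map H.subtype : Subgroup G) := hcard ▸ hK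
  have hQ' : IsPGroup p ((Q : Subgroup K).map e.toMonoidHom) := Q.2.map e.toMonoidHom
  obtain ⟨R, hR⟩ := hQ'.exists_le_sylow
  haveI := h2 _ hK' R
  have hback : (Q : Subgroup K) = (R : Subgroup _).comap e.toMonoidHom := by
    refine (Q.3 (R.2.comap_of_injective e.toMonoidHom e.injective) ?_).symm
    intro x hx
    exact hR ⟨x, hx, rfl⟩
  rw [hback]
  exact Subgroup.Normal.comap ‹_› _

/-- A subgroup with normal Sylow subgroups containing a Sylow subgroup of `G`. -/
theorem le_sylow_of_closed (K : Subgroup G) (hK : ∀ Q : Sylow p K, (Q : Subgroup K).Normal)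
    (R : Sylow p G) (hR : (R : Subgroup G) ≤ K) (Y : Subgroup G) (hY : IsPGroup p Y) (hYK : Y ≤ K) :
    Y ≤ (R : Subgroup G) := by
  obtain ⟨Q, hQ⟩ := (hY.of_equiv (Subgroup.subgroupOfEquivOfLe hYK).symm).exists_le_sylow
  haveI := hK (R.subtype hR)
  have : Q = R.subtype hR := by
    haveI := Sylow.unique_of_normal (R.subtype hR) (hK _)
    exact Subsingleton.elim _ _
  rw [this] at hQ
  intro y hy
  exact hQ (show (⟨y, hYK hy⟩ : K) ∈ Y.subgroupOf K from hy)

theorem sum_normSq_irr [Fintype G] (ψ : IrrCharacter G) :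
    ∑ g : G, Complex.normSq ((ψ : G → ℂ) g) = Nat.card G := by
  have h := classInner_irr_self ψ
  simp only [classInner, Complex.mul_conj] at h
  rw [inv_mul_eq_one₀ natCard_ne_zero] at h
  apply Complex.ofReal_injective
  push_cast
  exact h.symm

/-- The case of a normal `p`-complement. -/
theorem degree_eq_one_of_complement (P : Sylow p G) (M : Subgroup G)
    [M.Normal] (hPM : M.IsComplement' (P : Subgroup G)) (hcopM : ¬ p ∣ Nat.card M)
    (hnn : ¬ (P : Subgroup G).Normal)
    (hab : ∀ a ∈ (P : Subgroup G), ∀ b ∈ (P : Subgroup G), a * b = b * a)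
    (hnor : ∀ N : Subgroup G, N.Normal → (P : Subgroup G) ≤ N → N = ⊤)
    (hclosed : ∀ K : Subgroup G, K ≠ ⊤ → ∀ Q : Sylow p K, (Q : Subgroup K).Normal)
    (ψ : IrrCharacter G) (hd : charDegree (ψ : G → ℂ) + 1 < p) :
    charDegree (ψ : G → ℂ) = 1 := by
  classical
  haveI : Fintype G := Fintype.ofFinite G
  have hp : p.Prime := Fact.out
  have hsur : ∀ g : G, ∃ m ∈ M, ∃ y ∈ (P : Subgroup G), g = m * y := fun g => by
    obtain ⟨⟨m, y⟩, h⟩ := hPM.surjective g
    exact ⟨m, m.2, y, y.2, h.symm⟩
  have hMPone : ∀ a ∈ M, a ∈ (P : Subgroup G) → a = 1 := fun a ha ha' =>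
    Subgroup.mem_bot.mp (hPM.disjoint.le_bot ⟨ha, ha'⟩)
  -- subgroups `R ≤ M` normalised by `P`, other than `M`, are centralised by `P`
  have hsmall : ∀ R : Subgroup G, R ≤ M → R ≠ M →
      (∀ y ∈ (P : Subgroup G), ∀ r ∈ R, y * r * y⁻¹ ∈ R) →
      ∀ y ∈ (P : Subgroup G), ∀ r ∈ R, y * r = r * y := by
    intro R hRM hRne hinv y hy r hr
    let K : Subgroup G :=
      { carrier := {g | ∃ a ∈ R, ∃ b ∈ (P : Subgroup G), g = a * b}
        one_mem' := ⟨1, R.one_mem, 1, Subgroup.one_mem _, (mul_one 1).symm⟩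
        mul_mem' := by
          rintro _ _ ⟨a, ha, b, hb, rfl⟩ ⟨a', ha', b', hb', rfl⟩
          exact ⟨a * (b * a' * b⁻¹), R.mul_mem ha (hinv b hb a' ha'), b * b',
            Subgroup.mul_mem _ hb hb', by group⟩
        inv_mem' := by
          rintro _ ⟨a, ha, b, hb, rfl⟩
          exact ⟨b⁻¹ * a⁻¹ * b, by simpa using hinv b⁻¹ (Subgroup.inv_mem _ hb) _ (R.inv_mem ha),
            b⁻¹, Subgroup.inv_mem _ hb, by group⟩ }
    have hK : K ≠ ⊤ := by
      intro h
      apply hRne
      refine le_antisymm hRM fun m hm => ?_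
      obtain ⟨a, ha, b, hb, hab⟩ : m ∈ K := h ▸ Subgroup.mem_top m
      have hb1 : b = 1 := hMPone b (by
        rw [show b = a⁻¹ * m by rw [hab]; group]
        exact M.mul_mem (M.inv_mem (hRM ha)) hm) hb
      rwa [hab, hb1, mul_one]
    have hPK : (P : Subgroup G) ≤ K := fun b hb => ⟨1, R.one_mem, b, hb, (one_mul b).symm⟩
    have hrK : r ∈ K := ⟨r, hr, 1, Subgroup.one_mem _, (mul_one r).symm⟩
    haveI := hclosed K hK (P.subtype hPK)
    have hn : r⁻¹ * y * r ∈ (P : Subgroup G) := by
      have := Subgroup.Normal.conj_mem (inferInstance : ((P.subtype hPK : Sylow p K) : Subgroup K).Normal)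
        ⟨y, hPK hy⟩ hy ⟨r⁻¹, K.inv_mem hrK⟩
      simpa [Sylow.coe_subtype, Subgroup.mem_subgroupOf] using this
    have h1 := hMPone (y⁻¹ * (r⁻¹ * y * r)) (by
      rw [show y⁻¹ * (r⁻¹ * y * r) = (y⁻¹ * r⁻¹ * y⁻¹⁻¹) * r by group]
      exact M.mul_mem (Subgroup.Normal.conj_mem inferInstance _ (M.inv_mem (hRM hr)) _) (hRM hr))
      (Subgroup.mul_mem _ (Subgroup.inv_mem _ hy) hn)
    have h2 : r⁻¹ * y * r = y := (inv_mul_eq_one.mp h1).symm
    calc y * r = r * (r⁻¹ * y * r) := by group
      _ = r * y := by rw [h2]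
  by_contra hd1
  obtain ⟨hd0, hd⟩ := charDegree_spec ψ
  set d := charDegree (ψ : G → ℂ) with hddef
  -- `P` does not centralise `M`
  obtain ⟨x, hx, m0, hm0, hxm0⟩ : ∃ x ∈ (P : Subgroup G), ∃ m ∈ M, x * m ≠ m * x := by
    by_contra hcon
    push Not at hcon
    exact hnn ⟨fun y hy g => by
      obtain ⟨m, hm, b, hb, rfl⟩ := hsur g
      have hz : b * y * b⁻¹ ∈ (P : Subgroup G) :=
        Subgroup.mul_mem _ (Subgroup.mul_mem _ hb hy) (Subgroup.inv_mem _ hb)
      rw [show m * b * y * (m * b)⁻¹ = m * (b * y * b⁻¹) * m⁻¹ by group,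
        ← hcon _ hz m hm, mul_inv_cancel_right]
      exact hz⟩
  have hpp : ∀ a : G, a ∈ M → ∀ k : ℕ, a ^ p ^ k = 1 → a = 1 := by
    intro a ha k hk
    have h1 : a ^ Nat.card M = 1 := congrArg Subtype.val (pow_card_eq_one' (x := (⟨a, ha⟩ : M)))
    have h2 : orderOf a ∣ 1 := by
      rw [← (Nat.Coprime.pow_left k (hp.coprime_iff_not_dvd.mpr hcopM)).gcd_eq_one]
      exact Nat.dvd_gcd (orderOf_dvd_of_pow_eq_one hk) (orderOf_dvd_of_pow_eq_one h1)
    exact orderOf_eq_one_iff.mp (Nat.eq_one_of_dvd_one h2)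
  have hcentral : ∀ y ∈ (P : Subgroup G), (∀ m ∈ M, y * m = m * y) → y ∈ Subgroup.center G := by
    intro y hy h
    refine Subgroup.mem_center_iff.mpr fun g => ?_
    obtain ⟨m, hm, b, hb, rfl⟩ := hsur g
    rw [mul_assoc, hab b hb y hy, ← mul_assoc, ← h m hm, mul_assoc]
  -- non-central elements of `P` generate it
  have hgen : ∀ y ∈ (P : Subgroup G), y ∉ Subgroup.center G →
      Subgroup.zpowers y = (P : Subgroup G) := by
    intro y hy hyc
    by_contra hne
    apply hyc
    apply hcentral y hy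
    intro m hm
    let K : Subgroup G :=
      { carrier := {g | ∃ a ∈ M, ∃ b ∈ Subgroup.zpowers y, g = a * b}
        one_mem' := ⟨1, M.one_mem, 1, Subgroup.one_mem _, (mul_one 1).symm⟩
        mul_mem' := by
          rintro _ _ ⟨a, ha, b, hb, rfl⟩ ⟨a', ha', b', hb', rfl⟩
          exact ⟨a * (b * a' * b⁻¹), M.mul_mem ha (Subgroup.Normal.conj_mem inferInstance _ ha' _),
            b * b', Subgroup.mul_mem _ hb hb', by group⟩
        inv_mem' := by
          rintro _ ⟨a, ha, b, hb, rfl⟩
          exact ⟨b⁻¹ * a⁻¹ * b⁻¹⁻¹, Subgroup.Normal.conj_mem inferInstance _ (M.inv_mem ha) _,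
            b⁻¹, Subgroup.inv_mem _ hb, by group⟩ }
    have hyP : Subgroup.zpowers y ≤ (P : Subgroup G) := Subgroup.zpowers_le.mpr hy
    have hK : K ≠ ⊤ := by
      intro h
      apply hne
      refine le_antisymm hyP fun z hz => ?_
      obtain ⟨a, ha, b, hb, hab'⟩ : z ∈ K := h ▸ Subgroup.mem_top z
      have ha1 : a = 1 := hMPone a ha (by
        rw [show a = z * b⁻¹ by rw [hab']; group]
        exact Subgroup.mul_mem _ hz (Subgroup.inv_mem _ (hyP hb)))
      rw [hab', ha1, one_mul]
      exact hb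
    have hyK : y ∈ K := ⟨1, M.one_mem, y, Subgroup.mem_zpowers y, (one_mul y).symm⟩
    have hmK : m ∈ K := ⟨m, hm, 1, Subgroup.one_mem _, (mul_one m).symm⟩
    have hYp : IsPGroup p (Subgroup.zpowers (⟨y, hyK⟩ : K)) := by
      obtain ⟨k, hk⟩ := P.2 ⟨y, hy⟩
      have hk' : (⟨y, hyK⟩ : K) ^ p ^ k = 1 :=
        Subtype.ext (show y ^ p ^ k = 1 from congrArg Subtype.val hk)
      obtain ⟨j, -, hj⟩ := (Nat.dvd_prime_pow hp).mp (orderOf_dvd_of_pow_eq_one hk')
      exact IsPGroup.of_card (n := j) (by rw [Nat.card_zpowers, hj])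
    obtain ⟨Q, hQ⟩ := hYp.exists_le_sylow
    haveI := hclosed K hK Q
    have hyQ := hQ (Subgroup.mem_zpowers (⟨y, hyK⟩ : K))
    have hcQ : (⟨y, hyK⟩ : K) * (⟨m, hmK⟩ * ⟨y, hyK⟩⁻¹ * ⟨m, hmK⟩⁻¹) ∈ (Q : Subgroup K) :=
      Subgroup.mul_mem _ hyQ (Subgroup.Normal.conj_mem inferInstance _ (Subgroup.inv_mem _ hyQ) _)
    obtain ⟨k, hk⟩ := Q.2 ⟨_, hcQ⟩
    have hcomm : y * (m * y⁻¹ * m⁻¹) = 1 := by
      refine hpp _ ?_ k (by simpa [Subtype.ext_iff] using hk)
      rw [← mul_assoc, ← mul_assoc]
      exact M.mul_mem (Subgroup.Normal.conj_mem inferInstance m hm y) (M.inv_mem hm)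
    calc y * m = y * (m * y⁻¹ * m⁻¹) * (m * y) := by group
      _ = m * y := by rw [hcomm, one_mul]
  have hxc : x ∉ Subgroup.center G := fun h => hxm0 (Subgroup.mem_center_iff.mp h m0).symm
  -- `M` is an `r`-group
  have hMr : ∃ r : ℕ, r.Prime ∧ IsPGroup r M := by
    by_contra hcon
    push Not at hcon
    apply hxm0
    set D := M ⊓ Subgroup.centralizer ((P : Subgroup G) : Set G) with hD
    have hDM : D = M := by
      refine Subgroup.eq_of_le_of_card_ge inf_le_left (Nat.le_of_dvd Nat.card_pos ?_)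
      refine (Nat.factorization_le_iff_dvd Nat.card_pos.ne' Nat.card_pos.ne').mp ?_
      intro r
      by_cases hr : r.Prime
      swap
      · simp [Nat.factorization_eq_zero_of_not_prime _ hr]
      haveI := Fact.mk hr
      let S : Sylow r M := default
      set N := Subgroup.normalizer ((((S : Subgroup M)).map M.subtype : Subgroup G) : Set G)
      have hNM : N ⊔ M = ⊤ := Sylow.normalizer_sup_eq_top S
      let Q : Sylow p N := default
      have hQidx : ¬ p ∣ N.index := by
        intro hdvd
        apply hcopM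
        refine hdvd.trans ⟨Nat.card (N ⊓ M : Subgroup G), ?_⟩
        have h1 : M.index = M.relIndex N := by
          rw [← Subgroup.relIndex_top_right, ← hNM, Subgroup.relIndex_sup_right]
        have h2 : Nat.card (N ⊓ M : Subgroup G) * M.relIndex N = Nat.card N := by
          rw [← Subgroup.inf_relIndex_left, ← Subgroup.relIndex_bot_left, ← Subgroup.relIndex_bot_left]
          exact Subgroup.relIndex_mul_relIndex _ _ _ bot_le inf_le_left
        have h3 := N.card_mul_index
        rw [← M.card_mul_index, ← h2, ← h1, mul_right_comm] at h3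
        rw [mul_comm N.index]
        exact (Nat.eq_of_mul_eq_mul_right (Nat.pos_of_ne_zero Subgroup.index_ne_zero_of_finite) h3).symm
      have hQcard : Nat.card ((Q : Subgroup N).map N.subtype) = p ^ (Nat.card G).factorization p := by
        rw [Nat.card_congr ((Q : Subgroup N).equivMapOfInjective _ N.subtype_injective).toEquiv.symm,
          Q.card_eq_multiplicity, ← N.card_mul_index,
          Nat.factorization_mul Nat.card_pos.ne' Subgroup.index_ne_zero_of_finite,
          Finsupp.add_apply, Nat.factorization_eq_zero_of_not_dvd hQidx, add_zero]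
      obtain ⟨g, hg⟩ := MulAction.exists_smul_eq G (Sylow.ofCard _ hQcard) P
      set S' := ((S : Subgroup M).map M.subtype).map (MulAut.conj g).toMonoidHom with hS'
      have hS'M : S' ≤ M := by
        rintro _ ⟨a, ha, rfl⟩
        exact Subgroup.Normal.conj_mem inferInstance a (Subgroup.map_subtype_le _ ha) g
      have hinv : ∀ y ∈ (P : Subgroup G), ∀ a ∈ S', y * a * y⁻¹ ∈ S' := by
        intro y hy a ha
        rw [← hg] at hy
        rw [Sylow.coe_subgroup_smul] at hy
        obtain ⟨q0, hq0, rfl⟩ := hy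
        obtain ⟨a0, ha0, rfl⟩ := ha
        obtain ⟨q1, -, rfl⟩ := hq0
        refine ⟨(q1 : G) * a0 * (q1 : G)⁻¹, (Subgroup.mem_normalizer_iff.mp q1.2 a0).mp ha0, ?_⟩
        simp [mul_assoc]
      have hle : S' ≤ D := by
        intro a ha
        refine ⟨hS'M ha, Subgroup.mem_centralizer_iff.mpr fun y hy => ?_⟩
        refine hsmall S' hS'M (fun h => ?_) hinv y hy a ha
        refine hcon r hr ?_
        rw [← h]
        exact (S.2.map M.subtype).map _
      have hc : Nat.card S' = r ^ (Nat.card M).factorization r := by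
        rw [hS', Nat.card_congr (((S : Subgroup M).map M.subtype).equivMapOfInjective _
          (MulEquiv.injective _)).toEquiv.symm,
          Nat.card_congr ((S : Subgroup M).equivMapOfInjective _ M.subtype_injective).toEquiv.symm,
          S.card_eq_multiplicity]
      have := Subgroup.card_dvd_of_le hle
      rw [hc] at this
      exact (hr.pow_dvd_iff_le_factorization Nat.card_pos.ne').mp this
    have hm0D : m0 ∈ D := hDM.symm ▸ hm0
    exact Subgroup.mem_centralizer_iff.mp hm0D.2 x hx
  obtain ⟨r, hr, hMr⟩ := hMr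
  haveI := Fact.mk hr
  -- `C = C_M(x)` is central
  set C := M ⊓ Subgroup.centralizer ({x} : Set G) with hC
  have hxP : Subgroup.zpowers x = (P : Subgroup G) := hgen x hx hxc
  have hCP : ∀ c ∈ C, ∀ y ∈ (P : Subgroup G), y * c = c * y := by
    intro c hc y hy
    rw [← hxP] at hy
    obtain ⟨j, rfl⟩ := Subgroup.mem_zpowers_iff.mp hy
    exact (Commute.zpow_left (show Commute x c from
      Subgroup.mem_centralizer_iff.mp hc.2 x rfl) j)
  have hcomm : ∀ a ∈ M, ∀ b ∈ M, a * b * a⁻¹ * b⁻¹ ∈ C := by
    set R := (commutator M).map M.subtype with hR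
    have hRM : R ≤ M := Subgroup.map_subtype_le _
    intro a ha b hb
    have hmem : a * b * a⁻¹ * b⁻¹ ∈ R :=
      ⟨⁅(⟨a, ha⟩ : M), (⟨b, hb⟩ : M)⁆, Subgroup.commutator_mem_commutator (Subgroup.mem_top _)
        (Subgroup.mem_top _), by simp [commutatorElement_def]⟩
    refine ⟨hRM hmem, Subgroup.mem_centralizer_iff.mpr fun w hw => ?_⟩
    rw [Set.mem_singleton_iff.mp hw]
    haveI : R.Normal := by rw [hR]; infer_instance
    refine hsmall R hRM (fun h => ?_) (fun y _ r hr => Subgroup.Normal.conj_mem inferInstance r hr y)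
      x hx _ hmem
    haveI : Nontrivial M := ⟨⟨⟨m0, hm0⟩, 1, fun h1 => hxm0 (by
      rw [show m0 = 1 from congrArg Subtype.val h1, mul_one, one_mul])⟩⟩
    haveI : Group.IsNilpotent M := hMr.isNilpotent
    haveI : Group.IsSolvable M := inferInstance
    refine Group.IsSolvable.commutator_lt_top_of_nontrivial M |>.ne (eq_top_iff.mpr fun z _ => ?_)
    have hz : (z : G) ∈ R := by rw [h]; exact z.2
    obtain ⟨w, hw, hwz⟩ := hz
    exact (Subtype.ext hwz : w = z) ▸ hw
  have hnormal : ∀ a ∈ M, ∀ c ∈ C, a * c * a⁻¹ ∈ C := fun a ha c hc => by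
    rw [show a * c * a⁻¹ = (a * c * a⁻¹ * c⁻¹) * c by group]
    exact C.mul_mem (hcomm a ha c hc.1) hc
  have hCcentral : ∀ c ∈ C, c ∈ Subgroup.center G := by
    set L := M ⊓ Subgroup.centralizer (C : Set G) with hL
    have hLinv : ∀ y ∈ (P : Subgroup G), ∀ a ∈ L, y * a * y⁻¹ ∈ L := by
      intro y hy a ha
      refine ⟨Subgroup.Normal.conj_mem inferInstance a ha.1 y,
        Subgroup.mem_centralizer_iff.mpr fun c hc => ?_⟩
      have h1 : Commute y c := hCP c hc y hy
      exact ((h1.symm.mul_right (Subgroup.mem_centralizer_iff.mp ha.2 c hc)).mul_right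
        h1.symm.inv_right).eq
    have hk : ∀ m ∈ M, x * m * x⁻¹ * m⁻¹ ∈ L := by
      intro m hm
      refine ⟨M.mul_mem (Subgroup.Normal.conj_mem inferInstance m hm x) (M.inv_mem hm),
        Subgroup.mem_centralizer_iff.mpr fun c hc => ?_⟩
      have hxc' : Commute x c := hCP c hc x hx
      have hc' : m⁻¹ * c * m ∈ C := by simpa using hnormal m⁻¹ (M.inv_mem hm) c hc
      have hxc'' : Commute x (m⁻¹ * c * m) := hCP _ hc' x hx
      calc c * (x * m * x⁻¹ * m⁻¹) = (c * x) * m * x⁻¹ * m⁻¹ := by group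
        _ = (x * c) * m * x⁻¹ * m⁻¹ := by rw [hxc'.eq]
        _ = x * m * (m⁻¹ * c * m * x⁻¹) * m⁻¹ := by group
        _ = x * m * (x⁻¹ * (m⁻¹ * c * m)) * m⁻¹ := by rw [hxc''.symm.inv_right.eq]
        _ = x * m * x⁻¹ * m⁻¹ * c := by group
    have hLM : L = M := by
      by_contra hne
      apply hxm0
      have hxk := hsmall L inf_le_left hne hLinv x hx _ (hk m0 hm0)
      set k := x * m0 * x⁻¹ * m0⁻¹ with hkdef
      have hiter : ∀ j : ℕ, x ^ j * m0 * (x ^ j)⁻¹ = k ^ j * m0 := by
        intro j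
        induction j with
        | zero => simp
        | succ j ih =>
          have hkx : Commute x (k ^ j) := Commute.pow_right hxk j
          calc x ^ (j + 1) * m0 * (x ^ (j + 1))⁻¹ = x * (x ^ j * m0 * (x ^ j)⁻¹) * x⁻¹ := by
                rw [pow_succ']; group
            _ = x * (k ^ j * m0) * x⁻¹ := by rw [ih]
            _ = (x * k ^ j) * m0 * x⁻¹ := by group
            _ = k ^ j * x * m0 * x⁻¹ := by rw [hkx.eq]
            _ = k ^ j * (k * m0) := by
                rw [show k * m0 = x * m0 * x⁻¹ by rw [hkdef]; group]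
                simp only [mul_assoc]
            _ = k ^ (j + 1) * m0 := by rw [pow_succ]; exact (mul_assoc (k ^ j) k m0).symm
      obtain ⟨e, he⟩ := P.2 ⟨x, hx⟩
      have he' : x ^ p ^ e = 1 := congrArg Subtype.val he
      have h1 := hiter (p ^ e)
      rw [he', one_mul, inv_one, mul_one] at h1
      have hk1 : k = 1 := hpp k (hk m0 hm0).1 e (mul_eq_right.mp h1.symm)
      calc x * m0 = k * (m0 * x) := by rw [hkdef]; group
        _ = m0 * x := by rw [hk1, one_mul]
    intro c hc
    refine Subgroup.mem_center_iff.mpr fun g => ?_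
    obtain ⟨m, hm, b, hb, rfl⟩ := hsur g
    have hmL : m ∈ L := hLM.symm ▸ hm
    rw [mul_assoc, hCP c hc b hb, ← mul_assoc, ← Subgroup.mem_centralizer_iff.mp hmL.2 c hc,
      mul_assoc]
  -- the values on `M y`
  set f : G → ℝ := fun g => Complex.normSq ((ψ : G → ℂ) g) with hf
  have hscal : ∀ z ∈ Subgroup.center G, ∀ g, f (z * g) = f g := by
    intro z hz g
    obtain ⟨w, hw, hwg⟩ := exists_central_scalar ψ hz
    simp only [hf, hwg, Complex.normSq_eq_norm_sq, norm_mul, hw, one_mul]
  have hcoset : ∀ y ∈ (P : Subgroup G), y ∉ Subgroup.center G → ∀ m ∈ M, f (m * y) = f y := by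
    intro y hy hyc m hm
    have hgy := hgen y hy hyc
    have hxy : x ∈ Subgroup.zpowers y := hgy.symm ▸ hx
    let F : M × C → M := fun ac => ⟨(ac.2 : G) * ((ac.1 : G) * y * (ac.1 : G)⁻¹ * y⁻¹),
      M.mul_mem ac.2.2.1 (by
        rw [show (ac.1 : G) * y * (ac.1 : G)⁻¹ * y⁻¹
          = (ac.1 : G) * (y * (ac.1 : G)⁻¹ * y⁻¹) by group]
        exact M.mul_mem ac.1.2 (Subgroup.Normal.conj_mem inferInstance _ (M.inv_mem ac.1.2) y))⟩
    have hsurj : (Finset.univ.image F) = Finset.univ := by
      have hfib : ∀ w ∈ Finset.univ.image F,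
          ((Finset.univ : Finset (M × C)).filter fun ac => F ac = w).card ≤ Nat.card C := by
        intro w hw
        obtain ⟨⟨b, c'⟩, -, rfl⟩ := Finset.mem_image.mp hw
        have key : ∀ ac : M × C, F ac = F (b, c') →
            ((b : G))⁻¹ * ac.1 ∈ C ∧ (ac.1 = b → ac.2 = c') := by
          rintro ⟨a, c⟩ h
          have h0 : (c : G) * ((a : G) * y * (a : G)⁻¹ * y⁻¹)
              = (c' : G) * ((b : G) * y * (b : G)⁻¹ * y⁻¹) := congrArg Subtype.val h
          refine ⟨?_, fun hab2 => ?_⟩
          swap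
          · simp only at hab2
            rw [hab2] at h0
            exact Subtype.ext (mul_right_cancel h0)
          have hcc : ((c : G))⁻¹ * c' ∈ C := C.mul_mem (C.inv_mem c.2) c'.2
          have hz := Subgroup.mem_center_iff.mp (hCcentral _ hcc)
          set c'' := (c : G)⁻¹ * c' with hc''
          set t := (b : G)⁻¹ * a with ht
          have h1 : (a : G) * y * (a : G)⁻¹ = c'' * ((b : G) * y * (b : G)⁻¹) := by
            calc (a : G) * y * (a : G)⁻¹
                = (c : G)⁻¹ * ((c : G) * ((a : G) * y * (a : G)⁻¹ * y⁻¹)) * y := by group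
              _ = _ := by rw [h0, hc'']; group
          have h2 : t * y * t⁻¹ = c'' * y := by
            calc t * y * t⁻¹ = (b : G)⁻¹ * ((a : G) * y * (a : G)⁻¹) * b := by rw [ht]; group
              _ = ((b : G)⁻¹ * c'') * ((b : G) * y * (b : G)⁻¹) * b := by rw [h1]; group
              _ = _ := by rw [hz (b : G)⁻¹]; group
          obtain ⟨e, he⟩ := P.2 ⟨y, hy⟩
          have he' : y ^ p ^ e = 1 := congrArg Subtype.val he
          have h3 := congrArg (· ^ p ^ e) h2
          simp only [conj_pow, (show Commute c'' y from (hz y).symm).mul_pow, he', mul_one,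
            mul_inv_cancel] at h3
          have h4 : c'' = 1 := hpp c'' hcc.1 e h3.symm
          rw [h4, one_mul] at h2
          refine ⟨M.mul_mem (M.inv_mem b.2) a.2, Subgroup.mem_centralizer_iff.mpr fun v hv => ?_⟩
          rw [Set.mem_singleton_iff.mp hv]
          obtain ⟨j, hj⟩ := Subgroup.mem_zpowers_iff.mp hxy
          rw [← hj]
          exact (Commute.zpow_left (show Commute y t from (mul_inv_eq_iff_eq_mul.mp h2).symm) j).eq
        rw [Nat.card_eq_fintype_card, Fintype.card_subtype]
        refine Finset.card_le_card_of_injOn (fun ac => ((b : G))⁻¹ * ac.1) ?_ ?_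
        · intro ac hac
          simp only [Finset.coe_filter, Finset.mem_univ, true_and, Set.mem_ofPred_eq] at hac ⊢
          exact (key ac hac).1
        · intro ac hac ac' hac' h
          simp only [Finset.coe_filter, Finset.mem_univ, true_and, Set.mem_ofPred_eq] at hac hac'
          have h1 : ac.1 = ac'.1 := Subtype.ext (mul_left_cancel h)
          refine Prod.ext h1 ?_
          have e1 := congrArg Subtype.val (hac.trans hac'.symm)
          simp only [F, h1] at e1
          exact Subtype.ext (mul_right_cancel e1)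
      have h := Finset.card_le_mul_card_image (Finset.univ : Finset (M × C)) (Nat.card C) hfib
      rw [Finset.card_univ, ← Nat.card_eq_fintype_card, Nat.card_prod, mul_comm] at h
      apply Finset.eq_univ_of_card
      refine le_antisymm (Finset.card_le_univ _) ?_
      rw [← Nat.card_eq_fintype_card]
      exact Nat.le_of_mul_le_mul_left h Nat.card_pos
    obtain ⟨⟨a, c⟩, -, hac⟩ := Finset.mem_image.mp
      (hsurj.symm ▸ Finset.mem_univ (⟨m, hm⟩ : M) : (⟨m, hm⟩ : M) ∈ Finset.univ.image F)
    have hm' : m * y = (c : G) * ((a : G) * y * (a : G)⁻¹) := by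
      have := congrArg Subtype.val hac
      simp only [F] at this
      rw [← this]; group
    rw [hm', hscal _ (hCcentral _ c.2)]
    simp only [hf, irr_isClassFunction ψ y (a : G)]
  -- the norm on `M`
  have hdp : d.Coprime M.index := by
    obtain ⟨k, hk⟩ := IsPGroup.iff_card.mp P.2
    rw [hPM.symm.index_eq_card, hk]
    refine Nat.Coprime.pow_right k ((Nat.Prime.coprime_iff_not_dvd hp).mpr fun h => ?_).symm
    have := Nat.le_of_dvd hd0 h
    omega
  have hMsum : ∑ a : M, f a = Nat.card M := by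
    have := sum_normSq_irr (⟨_, restrict_irr_of_coprime M ψ hdp.symm⟩ : IrrCharacter M)
    simpa [hf, Clifford.resFun] using this
  have hG : ∑ g : G, f g = ∑ y : (P : Subgroup G), ∑ a : M, f ((a : G) * y) := by
    rw [Finset.sum_comm, ← Fintype.sum_prod_type']
    exact (Fintype.sum_equiv (Equiv.ofBijective _ hPM) _ _ fun _ => rfl).symm
  set Zs : Finset ↥(P : Subgroup G) := Finset.filter
    (fun y : ↥(P : Subgroup G) => (y : G) ∈ Subgroup.center G) Finset.univ with hZs
  have hs : ∀ F : ↥(P : Subgroup G) → ℝ,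
      ∑ y, F y = ∑ y ∈ Finset.univ \ Zs, F y + ∑ y ∈ Zs, F y := fun F =>
    (Finset.sum_sdiff (Finset.subset_univ Zs)).symm
  set T := ∑ y ∈ Finset.univ \ Zs, f (y : G) with hT
  have hGval : (Nat.card G : ℝ) = Nat.card M * (Zs.card + T) := by
    rw [← sum_normSq_irr ψ]
    show ∑ g : G, f g = _
    rw [hG]
    rw [hs,
      Finset.sum_congr rfl (s₁ := Zs) (g := fun _ => (Nat.card M : ℝ)) fun y hy => ?_,
      Finset.sum_congr rfl (s₁ := Finset.univ \ Zs) (g := fun y : (P : Subgroup G) =>
        (Nat.card M : ℝ) * f (y : G)) fun y hy => ?_, ← Finset.mul_sum, Finset.sum_const, nsmul_eq_mul,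
      ← hT]
    · ring
    · have hyc : (y : G) ∉ Subgroup.center G := fun h =>
        (Finset.mem_sdiff.mp hy).2 (Finset.mem_filter.mpr ⟨Finset.mem_univ _, h⟩)
      rw [Finset.sum_congr rfl (g := fun _ : M => f (y : G))
        fun (a : M) _ => hcoset y y.2 hyc (a : G) a.2, Finset.sum_const, Finset.card_univ,
        nsmul_eq_mul, Nat.card_eq_fintype_card]
    · have hyc := (Finset.mem_filter.mp hy).2
      rw [← hMsum]
      exact Finset.sum_congr rfl fun a _ => by
        rw [Subgroup.mem_center_iff.mp hyc a, hscal _ hyc]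
  obtain ⟨A, hA⟩ := isCharacter_classInner_nat
    (isCharacter_restrict (P : Subgroup G) (irr_isCharacter ψ))
    (isCharacter_restrict (P : Subgroup G) (irr_isCharacter ψ))
  set q := Nat.card (P : Subgroup G) with hq
  have hPsum : (Zs.card : ℝ) * (d : ℝ) ^ 2 + T = (q : ℝ) * A := by
    have hPs : ∑ y : (P : Subgroup G), f (y : G) = (q : ℝ) * A := by
      apply Complex.ofReal_injective
      push_cast
      simp only [hf, ← Complex.mul_conj, ← hA, classInner, hq]
      rw [mul_inv_cancel_left₀ natCard_ne_zero]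
    rw [← hPs, hs,
      Finset.sum_congr rfl (s₁ := Zs) (g := fun _ => (d : ℝ) ^ 2) fun y hy => ?_,
      Finset.sum_const, nsmul_eq_mul, ← hT, add_comm]
    have := hscal _ (Finset.mem_filter.mp hy).2 1
    rw [mul_one] at this
    rw [this]
    simp only [hf, hd, Complex.normSq_natCast]
    ring
  have hqG : (Nat.card G : ℝ) = Nat.card M * q := by
    rw [← hPM.card_mul]; push_cast; rfl
  have hq' : (q : ℝ) = Zs.card + T := by
    rw [hqG] at hGval
    exact mul_left_cancel₀ (Nat.cast_ne_zero.mpr Nat.card_pos.ne') hGval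
  have hZcard : q = p * Zs.card := by
    set Zp := (P : Subgroup G) ⊓ Subgroup.center G with hZp
    have hc : Zs.card = Nat.card Zp := by
      rw [← Nat.card_congr (Subgroup.subgroupOfEquivOfLe (inf_le_left : Zp ≤ (P : Subgroup G))).toEquiv,
        Nat.card_eq_fintype_card]
      refine (Fintype.card_of_subtype (p := fun y : (P : Subgroup G) => y ∈ Zp.subgroupOf (P : Subgroup G)) Zs
        fun y => ?_).symm
      simp [hZs, Zp, Subgroup.mem_subgroupOf]
    obtain ⟨k, hk⟩ := IsPGroup.iff_card.mp P.2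
    rw [← hq] at hk
    have hox : orderOf x = p ^ k := by rw [← Nat.card_zpowers, hxP, ← hq, hk]
    have hsub : Subgroup.zpowers (x ^ p) ≤ Zp := by
      rw [Subgroup.zpowers_le]
      refine ⟨Subgroup.pow_mem _ hx _, ?_⟩
      by_contra hnc
      have h := hgen _ (Subgroup.pow_mem _ hx _) hnc
      have h2 : orderOf (x ^ p) = p ^ k := by rw [← Nat.card_zpowers, h, ← hq, hk]
      have h3 := orderOf_pow_dvd (x := x) p
      rcases k with _ | k
      · have : x = 1 := orderOf_eq_one_iff.mp (by simpa using hox)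
        exact hxc (this ▸ Subgroup.one_mem _)
      · rw [orderOf_pow, hox, Nat.gcd_eq_right (dvd_pow_self p (Nat.succ_ne_zero k))] at h2
        have h4 : p ^ (k + 1) / p < p ^ (k + 1) := Nat.div_lt_self (pow_pos hp.pos _) hp.one_lt
        omega
    obtain ⟨j, hjk, hj⟩ : ∃ j ≤ k, Nat.card Zp = p ^ j :=
      (Nat.dvd_prime_pow hp).mp (hk ▸ hq ▸ Subgroup.card_dvd_of_le inf_le_left)
    have hlt : j < k := by
      by_contra h
      have : Zp = (P : Subgroup G) := Subgroup.eq_of_le_of_card_ge inf_le_left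
        (by rw [hj, ← hq, hk, show j = k by omega])
      exact hxc (this.symm ▸ hx : x ∈ Zp).2
    have hge : p ^ (k - 1) ∣ p ^ j := by
      refine dvd_trans ?_ (hj ▸ Subgroup.card_dvd_of_le hsub)
      rw [Nat.card_zpowers, orderOf_pow, hox,
        Nat.gcd_eq_right (dvd_pow_self p (show k ≠ 0 by omega))]
      rw [← Nat.pow_div (show 1 ≤ k by omega) hp.pos, pow_one]
    have : k - 1 ≤ j := (Nat.pow_dvd_pow_iff_le_right hp.one_lt).mp hge
    rw [hc, hj, hk, ← pow_succ', show j + 1 = k by omega]
  have hfinal : (p : ℝ) + (d : ℝ) ^ 2 = 1 + p * A := by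
    have hz0 : (0 : ℝ) < Zs.card := by
      refine Nat.cast_pos.mpr (Finset.card_pos.mpr ⟨1, ?_⟩)
      simp [hZs, Subgroup.one_mem]
    have hqz : (q : ℝ) = p * Zs.card := by exact_mod_cast hZcard
    have h : ((p : ℝ) + (d : ℝ) ^ 2) * Zs.card = (1 + p * A) * Zs.card := by
      linear_combination (norm := (push_cast; ring_nf)) (1 : ℝ) * hq' + hPsum + (-1 + (A : ℝ)) * hqz
    exact mul_right_cancel₀ hz0.ne' h
  have hN : p + d ^ 2 = 1 + p * A := by exact_mod_cast hfinal
  have hdvd : (p : ℤ) ∣ ((d : ℤ) - 1) * ((d : ℤ) + 1) := by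
    refine ⟨(A : ℤ) - 1, ?_⟩
    have : (p : ℤ) + (d : ℤ) ^ 2 = 1 + p * A := by exact_mod_cast hN
    linear_combination this
  rcases (Nat.prime_iff_prime_int.mp hp).dvd_mul.mp hdvd with h | h
  · have := Int.le_of_dvd (by omega) h
    omega
  · have := Int.le_of_dvd (by omega) h
    omega

/-- Feit–Thompson. -/
theorem sylow_normal_of_small_rep_aux (m : ℕ) :
    ∀ (G : Type u) [Group G] [Finite G], Nat.card G = m → ∀ (n : ℕ)
      (ρ : Representation ℂ G (Fin n → ℂ)), Function.Injective ρ → FTHyp p n G →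
      ∀ P : Sylow p G, (P : Subgroup G).Normal := by
  induction m using Nat.strong_induction_on with
  | _ m ih =>
    intro G _ _ hm n ρ hρ hyp P
    classical
    haveI : Fintype G := Fintype.ofFinite G
    have hp : p.Prime := Fact.out
    have hn1 : n + 1 < p := by
      rcases hyp with h | h
      · rcases Nat.eq_zero_or_pos n with rfl | hn
        · exact hp.one_lt
        · nlinarith
      · exact h.1
    by_contra hnn
    have hclosed : ∀ K : Subgroup G, K ≠ ⊤ → ∀ Q : Sylow p K, (Q : Subgroup K).Normal := by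
      intro K hK Q
      refine ih _ ?_ K rfl n (ρ.comp K.subtype) (hρ.comp K.subtype_injective) (hyp.subgroup K) Q
      rw [← hm]
      exact lt_of_le_of_ne K.card_le_card_group fun h => hK (Subgroup.eq_top_of_card_eq K h)
    have hnor : ∀ N : Subgroup G, N.Normal → (P : Subgroup G) ≤ N → N = ⊤ := by
      intro N hN hPN
      by_contra hne
      haveI := hclosed N hne (P.subtype hPN)
      haveI := Sylow.characteristic_of_normal (P.subtype hPN) inferInstance
      have hchar : (((P.subtype hPN : Sylow p N) : Subgroup N).map N.subtype).Normal := inferInstance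
      rw [show ((P.subtype hPN : Sylow p N) : Subgroup N) = (P : Subgroup G).subgroupOf N from rfl,
        Subgroup.map_subgroupOf_eq_of_le hPN] at hchar
      exact hnn hchar
    -- decompositions into linear characters
    have hlin : ∀ (H : Subgroup G), (∀ θ : IrrCharacter H,
        charDegree (θ : H → ℂ) ≤ n → charDegree (θ : H → ℂ) = 1) →
        ∀ a ∈ H, ∀ b ∈ H, a * b = b * a := by
      intro H hH a ha b hb
      haveI : Fintype H := Fintype.ofFinite H
      have hσ : IsCharacter H (fun h : H => ρ.character h) :=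
        isCharacter_restrict H ⟨n, ρ, rfl⟩
      obtain ⟨c, hc⟩ := isCharacter_exists_nat_decomp hσ
      have hval : ∀ g : H, ρ.character (g : G) = ∑ θ : IrrCharacter H, (c θ : ℂ) * (θ : H → ℂ) g := by
        intro g
        have := congrFun hc g
        simpa using this
      have hsum : n = ∑ θ : IrrCharacter H, c θ * charDegree (θ : H → ℂ) := by
        have h := hval 1
        simp only [OneMemClass.coe_one, Representation.char_one, Module.finrank_fin_fun,
          (charDegree_spec _).2] at h
        exact_mod_cast h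
      have hcomm : ⁅(⟨a, ha⟩ : H), (⟨b, hb⟩ : H)⁆ = 1 := by
        apply Subtype.ext
        apply hρ
        rw [OneMemClass.coe_one, map_one]
        refine (rep_eq_one_iff ρ _).mpr ?_
        rw [hval, ← OneMemClass.coe_one H, hval]
        refine Finset.sum_congr rfl fun θ _ => ?_
        by_cases hz : c θ = 0
        · simp [hz]
        · have hle : charDegree (θ : H → ℂ) ≤ n := by
            rw [hsum]
            exact (Nat.le_mul_of_pos_left _ (Nat.pos_of_ne_zero hz)).trans
              (Finset.single_le_sum (f := fun θ : IrrCharacter H => c θ * charDegree (θ : H → ℂ))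
                (fun _ _ => Nat.zero_le _) (Finset.mem_univ θ))
          have h1 : (θ : H → ℂ) 1 = 1 := by rw [(charDegree_spec θ).2, hH θ hle, Nat.cast_one]
          rw [h1, Cfsg.Agent.Lib.CharsElem.eq_one_of_mem_commutator (irr_isCharacter θ) h1
            (Subgroup.commutator_mem_commutator (Subgroup.mem_top _) (Subgroup.mem_top _))]
      exact congrArg Subtype.val (commutatorElement_eq_one_iff_mul_comm.mp hcomm)
    have hPab : ∀ a ∈ (P : Subgroup G), ∀ b ∈ (P : Subgroup G), a * b = b * a := by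
      refine hlin _ fun θ hθ => ?_
      obtain ⟨e, he, he1, hdvd⟩ := irr_degree_dvd_card θ
      have hed : charDegree (θ : ↥(P : Subgroup G) → ℂ) = e := Codegree.charDegree_eq he1
      obtain ⟨k, hk⟩ := IsPGroup.iff_card.mp P.2
      obtain ⟨j, -, hj⟩ := (Nat.dvd_prime_pow hp).mp (hk ▸ hdvd)
      rcases j with _ | j
      · rw [hed, hj, pow_zero]
      · exfalso
        have : p ≤ p ^ (j + 1) := Nat.le_self_pow (Nat.succ_ne_zero j) p
        omega
    obtain ⟨ψ, hψn, hψ1⟩ : ∃ ψ : IrrCharacter G, charDegree (ψ : G → ℂ) ≤ n ∧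
        charDegree (ψ : G → ℂ) ≠ 1 := by
      by_contra hcon
      push Not at hcon
      apply hnn
      have hab : ∀ a b : G, a * b = b * a := fun a b => by
        refine hlin ⊤ (fun θ hθ => ?_) a (Subgroup.mem_top a) b (Subgroup.mem_top b)
        let ψ : IrrCharacter G := ⟨fun g => (θ : ↥(⊤ : Subgroup G) → ℂ) (Subgroup.topEquiv.symm g),
          isIrrCharacter_comp_surjective (Subgroup.topEquiv (G := G)).symm.toMonoidHom
            (Subgroup.topEquiv (G := G)).symm.surjective θ.2⟩
        have he : charDegree (ψ : G → ℂ) = charDegree (θ : ↥(⊤ : Subgroup G) → ℂ) := rfl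
        rw [← he] at hθ ⊢
        exact hcon ψ hθ
      exact ⟨fun y hy g => by rwa [hab g y, mul_inv_cancel_right]⟩
    set d := charDegree (ψ : G → ℂ)
    by_cases hZ : (P : Subgroup G) ⊓ Subgroup.center G = ⊥
    · -- the trivial intersection case
      have hone : ∀ g : G, g ∉ Subgroup.center G → ∀ a b : G,
          Subgroup.centralizer ({g} : Set G) ⊓ (P : Subgroup G).map (MulAut.conj a).toMonoidHom ≠ ⊥ →
          Subgroup.centralizer ({g} : Set G) ⊓ (P : Subgroup G).map (MulAut.conj b).toMonoidHom ≠ ⊥ →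
          (P : Subgroup G).map (MulAut.conj a).toMonoidHom
            = (P : Subgroup G).map (MulAut.conj b).toMonoidHom := by
        have hsyl : ∀ a : G, ∃ R : Sylow p G,
            (R : Subgroup G) = (P : Subgroup G).map (MulAut.conj a).toMonoidHom := fun a =>
          ⟨a • P, by rw [Sylow.coe_subgroup_smul]; rfl⟩
        have hproper : ∀ g : G, g ∉ Subgroup.center G → Subgroup.centralizer ({g} : Set G) ≠ ⊤ :=
          fun g hg h => hg (Subgroup.mem_center_iff.mpr fun k => by
            have hk : k ∈ Subgroup.centralizer ({g} : Set G) := by rw [h]; exact Subgroup.mem_top k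
            exact (Subgroup.mem_centralizer_iff.mp hk g rfl).symm)
        have hnc : ∀ (R : Sylow p G), ∀ y ∈ (R : Subgroup G), y ≠ 1 → y ∉ Subgroup.center G := by
          intro R y hy hy1 hyc
          obtain ⟨k, hk⟩ := MulAction.exists_smul_eq G R P
          have : k * y * k⁻¹ ∈ (P : Subgroup G) := by
            rw [← hk, Sylow.coe_subgroup_smul]; exact ⟨y, hy, rfl⟩
          rw [Subgroup.mem_center_iff.mp hyc k, mul_inv_cancel_right] at this
          exact hy1 (Subgroup.mem_bot.mp (hZ ▸ ⟨this, hyc⟩))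
        have hRab : ∀ (R : Sylow p G), ∀ u ∈ (R : Subgroup G), ∀ v ∈ (R : Subgroup G),
            u * v = v * u := by
          intro R
          obtain ⟨k, hk⟩ := MulAction.exists_smul_eq G P R
          rw [← hk, Sylow.coe_subgroup_smul]
          rintro _ ⟨u, hu, rfl⟩ _ ⟨v, hv, rfl⟩
          show MulAut.conj k u * MulAut.conj k v = MulAut.conj k v * MulAut.conj k u
          rw [← map_mul, hPab u hu v hv, map_mul]
        have hcent : ∀ (R : Sylow p G), ∀ y ∈ (R : Subgroup G),
            (R : Subgroup G) ≤ Subgroup.centralizer ({y} : Set G) := fun R y hy u hu =>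
          Subgroup.mem_centralizer_iff.mpr fun v hv => by
            rw [Set.mem_singleton_iff.mp hv]; exact hRab R y hy u hu
        intro g hg a b ha hb
        obtain ⟨Ra, hRa⟩ := hsyl a
        obtain ⟨Rb, hRb⟩ := hsyl b
        rw [← hRa] at ha ⊢
        rw [← hRb] at hb ⊢
        set K := Subgroup.centralizer ({g} : Set G)
        obtain ⟨y, hy, hy1⟩ := (Subgroup.ne_bot_iff_exists_ne_one.mp ha) |>
          (fun ⟨⟨y, hy⟩, h⟩ => (⟨y, hy, fun h1 => h (Subtype.ext h1)⟩ : ∃ y, y ∈ K ⊓ (Ra : Subgroup G) ∧ y ≠ 1))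
        obtain ⟨z, hz, hz1⟩ := (Subgroup.ne_bot_iff_exists_ne_one.mp hb) |>
          (fun ⟨⟨y, hy⟩, h⟩ => (⟨y, hy, fun h1 => h (Subtype.ext h1)⟩ : ∃ y, y ∈ K ⊓ (Rb : Subgroup G) ∧ y ≠ 1))
        -- the normal Sylow subgroup of `K`
        let Q : Sylow p K := default
        haveI := hclosed K (hproper g hg) Q
        haveI := Sylow.unique_of_normal Q inferInstance
        have hin : ∀ (R : Sylow p G) (w : G) (hwK : w ∈ K), w ∈ (R : Subgroup G) →
            w ∈ (Q : Subgroup K).map K.subtype := by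
          intro R w hwK hwR
          have hw : IsPGroup p (((R : Subgroup G).subgroupOf K)) :=
            R.2.comap_subtype
          obtain ⟨Q', hQ'⟩ := hw.exists_le_sylow
          rw [Subsingleton.elim Q' Q] at hQ'
          exact ⟨⟨w, hwK⟩, hQ' hwR, rfl⟩
        have hyQ := hin Ra y hy.1 hy.2
        have hzQ := hin Rb z hz.1 hz.2
        obtain ⟨R0, hR0⟩ := (Q.2.map K.subtype).exists_le_sylow
        have hcy := hproper y (hnc Ra y hy.2 hy1)
        have hzA : z ∈ (Ra : Subgroup G) :=
          le_sylow_of_closed _ (hclosed _ hcy) Ra (hcent Ra y hy.2) _ (Q.2.map K.subtype)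
            (hR0.trans (hcent R0 y (hR0 hyQ))) hzQ
        have hcz := hproper z (hnc Rb z hz.2 hz1)
        exact le_antisymm
          (le_sylow_of_closed _ (hclosed _ hcz) Rb (hcent Rb z hz.2) _ Ra.2 (hcent Ra z hzA))
          (le_sylow_of_closed _ (hclosed _ hcz) Ra (hcent Ra z hzA) _ Rb.2 (hcent Rb z hz.2))
      have hlt := card_lt_succ_sq (P : Subgroup G) hPab hZ hone hnor ψ hψ1
      have hle : (d + 1) ^ 2 ≤ (n + 1) ^ 2 := Nat.pow_le_pow_left (by omega) 2
      have hP1 : p ≤ Nat.card (P : Subgroup G) := by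
        have hP : (P : Subgroup G) ≠ ⊥ := fun h => hnn (h ▸ inferInstance)
        obtain ⟨k, hk⟩ := IsPGroup.iff_card.mp P.2
        rcases k with _ | k
        · exact absurd (Subgroup.card_eq_one.mp (by simpa using hk)) hP
        · rw [hk]; exact Nat.le_self_pow (Nat.succ_ne_zero k) p
      rcases hyp with h | ⟨h, h'⟩
      · exact absurd (hlt.trans_le (hle.trans (h.trans hP1))) (lt_irrefl _)
      · have hP2 : p ^ 2 ∣ Nat.card G := by
          by_contra hc
          apply hnn
          have htop : Nat.card (⊤ : Subgroup G) = Nat.card G := Nat.card_congr Subgroup.topEquiv.toEquiv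
          haveI := h' ⊤ (htop.symm ▸ hc) (P.subtype le_top)
          have hN : ((P : Subgroup G).subgroupOf ⊤).Normal := ‹_›
          rw [← Subgroup.normalizer_eq_top_iff]
          rw [Subgroup.normal_subgroupOf_iff_le_normalizer le_top] at hN
          exact top_le_iff.mp hN
        have hp2' : p ^ 2 ≤ Nat.card (P : Subgroup G) := by
          rw [P.card_eq_multiplicity]
          exact Nat.pow_le_pow_right hp.pos ((hp.pow_dvd_iff_le_factorization Nat.card_pos.ne').mp hP2)
        have hn2 : (n + 1) ^ 2 < p ^ 2 := Nat.pow_lt_pow_left h (by norm_num)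
        exact absurd ((hlt.trans_le hle).trans (hn2.trans_le hp2')) (lt_irrefl _)
    · -- a central element of `P`: there is a normal `p`-complement
      haveI : IsMulCommutative (P : Subgroup G) :=
        ⟨⟨fun a b => Subtype.ext (hPab a a.2 b b.2)⟩⟩
      letI : CommGroup (P : Subgroup G) :=
        { (inferInstance : Group (P : Subgroup G)) with mul_comm := fun a b => Std.Commutative.comm a b }
      let v : G →* (P : Subgroup G) := MonoidHom.transfer (MonoidHom.id (P : Subgroup G))
      have hv : ∀ z ∈ (P : Subgroup G), z ∈ Subgroup.center G → z ≠ 1 → v z ≠ 1 := by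
        intro z hz hzc hz1 h
        have key : ∀ (k : ℕ) (g : G), g⁻¹ * z ^ k * g ∈ (P : Subgroup G) →
            g⁻¹ * z ^ k * g = z ^ k := fun k g _ => by
          rw [mul_assoc, ← Subgroup.mem_center_iff.mp (pow_mem hzc k) g, inv_mul_cancel_left]
        have h1 : ((⟨z ^ (P : Subgroup G).index,
            MonoidHom.transfer_eq_pow_aux z key⟩ : (P : Subgroup G))) = 1 := by
          rw [← h]
          exact (MonoidHom.transfer_eq_pow (MonoidHom.id (P : Subgroup G)) z key).symm
        have h2 : z ^ (P : Subgroup G).index = 1 := congrArg Subtype.val h1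
        obtain ⟨k, hk⟩ := P.2 ⟨z, hz⟩
        have hk' : z ^ p ^ k = 1 := congrArg Subtype.val hk
        apply hz1
        refine orderOf_eq_one_iff.mp (Nat.eq_one_of_dvd_one ?_)
        rw [← (Nat.Coprime.pow_left k (hp.coprime_iff_not_dvd.mpr P.not_dvd_index)).gcd_eq_one]
        exact Nat.dvd_gcd (orderOf_dvd_of_pow_eq_one hk') (orderOf_dvd_of_pow_eq_one h2)
      set M := v.ker with hM
      have hMtop : M ≠ ⊤ := by
        intro h
        obtain ⟨⟨z, hz⟩, hz1⟩ := Subgroup.ne_bot_iff_exists_ne_one.mp hZ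
        exact hv z hz.1 hz.2 (fun h1 => hz1 (Subtype.ext h1))
          (MonoidHom.mem_ker.mp (by rw [← hM, h]; exact Subgroup.mem_top z))
      let Q : Sylow p M := default
      haveI := hclosed M hMtop Q
      haveI := Sylow.characteristic_of_normal Q inferInstance
      set Q' := (Q : Subgroup M).map M.subtype with hQ'
      haveI hQ'n : Q'.Normal := inferInstance
      have hQ'P : Q' ≤ (P : Subgroup G) := by
        have hsup : IsPGroup p ((P : Subgroup G) ⊔ Q' : Subgroup G) :=
          P.2.to_sup_of_normal_right (Q.2.map M.subtype)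
        exact le_sup_right.trans (P.3 hsup le_sup_left).le
      have hQcent : ∀ w ∈ Q', w ∈ Subgroup.center G := by
        haveI : (Subgroup.centralizer (Q' : Set G)).Normal := inferInstance
        have htop := hnor (Subgroup.centralizer (Q' : Set G)) inferInstance fun u hu =>
          Subgroup.mem_centralizer_iff.mpr fun w hw => hPab w (hQ'P hw) u hu
        intro w hw
        exact Subgroup.mem_center_iff.mpr fun k =>
          (Subgroup.mem_centralizer_iff.mp (htop ▸ Subgroup.mem_top k) w hw).symm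
      have hQ1 : (Q : Subgroup M) = ⊥ := by
        rw [Subgroup.eq_bot_iff_forall]
        intro w hw
        by_contra hw1
        have hwQ : (w : G) ∈ Q' := ⟨w, hw, rfl⟩
        exact hv w (hQ'P hwQ) (hQcent _ hwQ) (fun h => hw1 (Subtype.ext h))
          (MonoidHom.mem_ker.mp w.2)
      have hcopM : ¬ p ∣ Nat.card M := by
        intro h
        have h1 := Q.card_eq_multiplicity
        rw [hQ1, Subgroup.card_bot] at h1
        have := hp.factorization_pos_of_dvd Nat.card_pos.ne' h
        have h2 := Nat.pow_eq_one.mp h1.symm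
        rcases h2 with h2 | h2
        · exact hp.ne_one h2
        · omega
      have hPM : M.IsComplement' (P : Subgroup G) := by
        refine Subgroup.isComplement'_of_disjoint_and_mul_eq_univ ?_ ?_
        · rw [disjoint_iff, Subgroup.eq_bot_iff_forall]
          rintro w ⟨hwM, hwP⟩
          obtain ⟨k, hk⟩ := P.2 ⟨w, hwP⟩
          have hk' : w ^ p ^ k = 1 := congrArg Subtype.val hk
          have h1 : w ^ Nat.card M = 1 := congrArg Subtype.val (pow_card_eq_one' (x := (⟨w, hwM⟩ : M)))
          refine orderOf_eq_one_iff.mp (Nat.eq_one_of_dvd_one ?_)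
          rw [← (Nat.Coprime.pow_left k (hp.coprime_iff_not_dvd.mpr hcopM)).gcd_eq_one]
          exact Nat.dvd_gcd (orderOf_dvd_of_pow_eq_one hk') (orderOf_dvd_of_pow_eq_one h1)
        · have htop : M ⊔ (P : Subgroup G) = ⊤ := by
            refine hnor _ ?_ le_sup_right
            refine Subgroup.Normal.mk fun w hw g => ?_
            have hcl : ∀ a b : G, a * b * a⁻¹ * b⁻¹ ∈ M := fun a b => by
              rw [hM, MonoidHom.mem_ker]
              simp
            rw [show g * w * g⁻¹ = (g * w * g⁻¹ * w⁻¹) * w by group]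
            exact Subgroup.mul_mem _ (Subgroup.mem_sup_left (hcl g w)) hw
          rw [← Subgroup.normal_mul M (P : Subgroup G), htop, Subgroup.coe_top]
      exact hψ1 (degree_eq_one_of_complement P M hPM hcopM hnn hPab hnor hclosed ψ (by omega))

end Cfsg.Agent.Lib.SmallDegree
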