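import Mathlib
import Cfsg.Agent.Lib.SmallDegree.Components
import Cfsg.Agent.Lib.Codegree

/-!
# Local bounds for characters when all non-identity `p`-elements have the centraliser `P × V`.
-/

set_option autoImplicit false

namespace Cfsg.Agent.Lib.SmallDegree

open scoped ComplexConjugate
open Cfsg Cfsg.Agent.Lib.Chars

universe u

/-- An abelian subgroup `P` with centraliser `C = P × V`, normaliser `N`, such that `C` is the
centraliser of every non-identity element of `P` and `(P ∖ 1) V` has trivial intersections. -/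
structure Setting (G : Type u) [Group G] where
  P : Subgroup G
  V : Subgroup G
  N : Subgroup G
  C : Subgroup G
  abel : IsMulCommutative P
  comm : ∀ y ∈ P, ∀ v ∈ V, y * v = v * y
  normP : ∀ g ∈ N, ∀ y ∈ P, g * y * g⁻¹ ∈ P
  normV : ∀ g ∈ N, ∀ v ∈ V, g * v * g⁻¹ ∈ V
  le : C ≤ N
  central : ∀ c ∈ C, ∀ y ∈ P, c * y = y * c
  free : ∀ g ∈ N, ∀ y ∈ P, y ≠ 1 → g * y = y * g → g ∈ C
  card_C : Nat.card C = Nat.card P * Nat.card V
  fus : ∀ g : G, ∀ y ∈ P, ∀ y' ∈ P, ∀ v ∈ V, ∀ v' ∈ V, y ≠ 1 →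
    g * (y * v) * g⁻¹ = y' * v' → g ∈ N
  inj : ∀ y ∈ P, y ∈ V → y = 1

variable {G : Type u} [Group G] (T : Setting G)

/-- The linear character `y ↦ a (g y g⁻¹)`. -/
def Setting.twist (g : T.N) (a : T.P →* ℂˣ) : T.P →* ℂˣ where
  toFun y := a ⟨(g : G) * y * (g : G)⁻¹, T.normP g g.2 y y.2⟩
  map_one' := by
    rw [← map_one a]; exact congrArg a (Subtype.ext (by simp))
  map_mul' y z := by
    rw [← map_mul a]; exact congrArg a (Subtype.ext (by simp [mul_assoc]))

theorem Setting.twist_twist (g h : T.N) (a : T.P →* ℂˣ) :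
    T.twist h (T.twist g a) = T.twist (g * h) a := by
  ext y
  exact congrArg (fun z => ((a z : ℂˣ) : ℂ)) (Subtype.ext (by simp [mul_assoc]))

variable [Fintype G]

theorem Setting.twist_eq_self_iff {a : T.P →* ℂˣ} (ha : a ≠ 1) (g : T.N) :
    T.twist g a = a ↔ (g : G) ∈ T.C := by
  haveI := T.abel
  constructor
  · intro h
    by_contra hg
    let d : T.P → T.P := fun y => y⁻¹ * ⟨(g : G) * y * (g : G)⁻¹, T.normP g g.2 y y.2⟩
    have hinj : Function.Injective d := by
      intro y z hyz
      have h1 : ((y : G))⁻¹ * ((g : G) * y * (g : G)⁻¹) = (z : G)⁻¹ * ((g : G) * z * (g : G)⁻¹) :=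
        congrArg Subtype.val hyz
      by_contra hne
      apply hg
      refine T.free g g.2 (z * y⁻¹ : T.P) (Subtype.coe_prop _) (fun h0 => hne ?_) ?_
      · exact (mul_inv_eq_one.mp (Subtype.ext (by simpa using h0) : z * y⁻¹ = 1)).symm
      · have h2 : (g : G) * ((z : G) * (y : G)⁻¹) * (g : G)⁻¹ = (z : G) * (y : G)⁻¹ := by
          have h3 : (g : G) * y * (g : G)⁻¹ = (y : G) * ((z : G)⁻¹ * ((g : G) * z * (g : G)⁻¹)) := by
            rw [← h1]; group
          have h4 : (y : G) * (z : G)⁻¹ = (z : G)⁻¹ * y :=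
            congrArg Subtype.val (Std.Commutative.comm y z⁻¹ : y * z⁻¹ = z⁻¹ * y)
          calc (g : G) * ((z : G) * (y : G)⁻¹) * (g : G)⁻¹
              = ((g : G) * z * (g : G)⁻¹) * ((g : G) * y * (g : G)⁻¹)⁻¹ := by group
            _ = (z : G) * (y : G)⁻¹ := by
              rw [h3]
              group
        exact mul_inv_eq_iff_eq_mul.mp h2
    apply ha
    refine MonoidHom.ext fun x => ?_
    obtain ⟨y, rfl⟩ := (Finite.injective_iff_surjective.mp hinj) x
    have h5 := DFunLike.congr_fun h y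
    change a (y⁻¹ * _) = 1
    rw [map_mul, map_inv]
    exact inv_mul_eq_one.mpr h5.symm
  · intro hg
    ext y
    exact congrArg (fun z => ((a z : ℂˣ) : ℂ)) (Subtype.ext (by simp [T.central g hg y y.2]))

/-- A set of non-trivial linear characters closed under twisting has size divisible by `[N : C]`. -/
theorem Setting.dvd_card_of_closed {e : ℕ} (he : Nat.card T.N = e * Nat.card T.C) :
    ∀ L : Finset (T.P →* ℂˣ), (∀ a ∈ L, a ≠ 1) → (∀ a ∈ L, ∀ g : T.N, T.twist g a ∈ L) →
      e ∣ L.card := by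
  classical
  intro L
  induction L using Finset.strongInduction with
  | _ L ih =>
    intro h1 hcl
    rcases L.eq_empty_or_nonempty with rfl | ⟨a, ha⟩
    · simp
    set O := (Finset.univ : Finset T.N).image fun g => T.twist g a with hO
    have hOL : O ⊆ L := fun b hb => by
      obtain ⟨g, -, rfl⟩ := Finset.mem_image.mp hb
      exact hcl a ha g
    have haO : a ∈ O := Finset.mem_image.mpr ⟨1, Finset.mem_univ _,
      (T.twist_eq_self_iff (h1 a ha) 1).mpr (by simp)⟩
    have hfib : ∀ b ∈ O, ((Finset.univ : Finset T.N).filter fun g => T.twist g a = b).card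
        = Nat.card T.C := by
      intro b hb
      obtain ⟨g0, -, rfl⟩ := Finset.mem_image.mp hb
      rw [← Fintype.card_subtype, ← Nat.card_eq_fintype_card]
      refine Nat.card_congr ⟨fun g => ⟨(g.1 * g0⁻¹ : T.N), ?_⟩,
        fun c => ⟨⟨c.1, T.le c.2⟩ * g0, ?_⟩, ?_, ?_⟩
      · rw [← T.twist_eq_self_iff (h1 a ha), ← T.twist_twist, g.2, T.twist_twist, mul_inv_cancel]
        exact (T.twist_eq_self_iff (h1 a ha) 1).mpr (by simp)
      · rw [← T.twist_twist, (T.twist_eq_self_iff (h1 a ha) _).mpr c.2]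
      · intro g; exact Subtype.ext (Subtype.ext (by simp))
      · intro c; exact Subtype.ext (by simp)
    have hcard : O.card = e := by
      have h := Finset.card_eq_sum_card_image (fun g => T.twist g a) (Finset.univ : Finset T.N)
      rw [Finset.sum_congr rfl hfib, Finset.sum_const, smul_eq_mul, Finset.card_univ,
        ← Nat.card_eq_fintype_card, he] at h
      exact (Nat.eq_of_mul_eq_mul_right Nat.card_pos h).symm
    rw [← Finset.card_sdiff_add_card_eq_card hOL, hcard]
    refine Nat.dvd_add (ih _ (Finset.sdiff_ssubset hOL ⟨a, haO⟩)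
      (fun b hb => h1 b (Finset.mem_sdiff.mp hb).1) fun b hb g => ?_) dvd_rfl
    obtain ⟨hbL, hbO⟩ := Finset.mem_sdiff.mp hb
    refine Finset.mem_sdiff.mpr ⟨hcl b hbL g, fun hmem => hbO ?_⟩
    obtain ⟨h, -, hh⟩ := Finset.mem_image.mp hmem
    refine Finset.mem_image.mpr ⟨h * g⁻¹, Finset.mem_univ _, ?_⟩
    rw [← T.twist_twist, hh, T.twist_twist, mul_inv_cancel]
    exact (T.twist_eq_self_iff (h1 b hbL) 1).mpr (by simp)

theorem Setting.part_twist {ζ : G → ℂ} (hζ : IsClassFunction G ζ) [Fintype T.P] (g : T.N)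
    (a : T.P →* ℂˣ) :
    part T.P T.V ζ (T.twist g a) 1 = part T.P T.V ζ a 1 := by
  simp only [part, OneMemClass.coe_one, mul_one]
  congr 1
  let σ : T.P → T.P := fun y => ⟨(g : G) * y * (g : G)⁻¹, T.normP g g.2 y y.2⟩
  have hσ : Function.Bijective σ := Finite.injective_iff_bijective.mp fun y z h =>
    Subtype.ext (mul_left_cancel (mul_right_cancel (congrArg Subtype.val h)))
  refine Fintype.sum_bijective σ hσ _ _ fun y => ?_
  show conj (a (σ y) : ℂ) * ζ y = conj (a (σ y) : ℂ) * ζ ((g : G) * y * (g : G)⁻¹)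
  rw [hζ]

/-- The local inequality for a non-negative class function. -/
theorem Setting.local_le [Fintype T.P] [Fintype T.V] (f : G → ℝ)
    (hf : ∀ g h : G, f (h * g * h⁻¹) = f g) (h0 : ∀ g, 0 ≤ f g) :
    (Nat.card G : ℝ) * (∑ y : T.P, ∑ v : T.V, f ((y : G) * v) - ∑ v : T.V, f v)
        + (Nat.card T.N : ℝ) * f 1
      ≤ (Nat.card T.N : ℝ) * ∑ g : G, f g := by
  classical
  have hmain : ∑ y : T.P, ∑ v : T.V, f ((y : G) * v) - ∑ v : T.V, f v
      = ∑ x ∈ (Finset.univ.erase (1 : T.P)) ×ˢ (Finset.univ : Finset T.V),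
          f ((x.1 : G) * x.2) := by
    rw [Finset.sum_product, ← Finset.sum_erase_add _ _ (Finset.mem_univ (1 : T.P))]
    simp
  rw [hmain]
  set X := (Finset.univ : Finset G) ×ˢ ((Finset.univ.erase (1 : T.P)) ×ˢ (Finset.univ : Finset T.V))
  let Φ : G × (T.P × T.V) → G := fun x => x.1 * ((x.2.1 : G) * x.2.2) * x.1⁻¹
  have h1 : (Nat.card G : ℝ) * ∑ x ∈ (Finset.univ.erase (1 : T.P)) ×ˢ (Finset.univ : Finset T.V),
      f ((x.1 : G) * x.2) = ∑ x ∈ X, f (Φ x) := by
    simp only [X]
    rw [Finset.sum_product (s := (Finset.univ : Finset G)), Finset.sum_congr rfl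
      fun (g : G) _ => Finset.sum_congr rfl fun (x : T.P × T.V) _ => hf ((x.1 : G) * x.2) g,
      Finset.sum_const, Finset.card_univ, nsmul_eq_mul, Nat.card_eq_fintype_card]
  have hfib : ∀ s : G, (X.filter fun x => Φ x = s).card ≤
      if s = 1 then 0 else Nat.card T.N := by
    intro s
    split
    · next hs =>
      subst hs
      refine le_of_eq (Finset.card_eq_zero.mpr (Finset.filter_eq_empty_iff.mpr ?_))
      rintro ⟨g, y, v⟩ hx h
      simp only [X, Finset.mem_product, Finset.mem_erase] at hx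
      apply hx.2.1.1
      have h2 : (y : G) * v = 1 := by
        have := h
        simp only [Φ] at this
        exact mul_left_cancel (mul_right_cancel (this.trans (by group) :
          g * ((y : G) * v) * g⁻¹ = g * 1 * g⁻¹))
      refine Subtype.ext (T.inj y y.2 ?_)
      rw [eq_inv_of_mul_eq_one_left h2]
      exact T.V.inv_mem v.2
    · rcases (X.filter fun x => Φ x = s).eq_empty_or_nonempty with h | ⟨x0, hx0⟩
      · rw [h]; simp
      · rw [Nat.card_eq_fintype_card, Fintype.card_subtype]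
        obtain ⟨hx0X, hx0s⟩ := Finset.mem_filter.mp hx0
        simp only [X, Finset.mem_product, Finset.mem_erase] at hx0X
        refine Finset.card_le_card_of_injOn (fun x => x0.1⁻¹ * x.1) ?_ ?_
        · intro x hx
          obtain ⟨hxX, hxs⟩ := Finset.mem_filter.mp hx
          simp only [X, Finset.mem_product, Finset.mem_erase] at hxX
          simp only [Finset.coe_filter, Finset.mem_univ, true_and, Set.mem_setOf_eq]
          refine T.fus _ x.2.1 x.2.1.2 x0.2.1 x0.2.1.2 x.2.2 x.2.2.2 x0.2.2 x0.2.2.2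
            (fun h => hxX.2.1.1 (Subtype.ext h)) ?_
          have := hxs.trans hx0s.symm
          simp only [Φ] at this
          calc x0.1⁻¹ * x.1 * ((x.2.1 : G) * x.2.2) * (x0.1⁻¹ * x.1)⁻¹
              = x0.1⁻¹ * (x.1 * ((x.2.1 : G) * x.2.2) * x.1⁻¹) * x0.1 := by group
            _ = (x0.2.1 : G) * x0.2.2 := by rw [this]; group
        · intro x hx x' hx' h
          simp only at h
          have hg : x.1 = x'.1 := mul_left_cancel h
          obtain ⟨-, hxs⟩ := Finset.mem_filter.mp hx
          obtain ⟨-, hxs'⟩ := Finset.mem_filter.mp hx'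
          have h3 : (x.2.1 : G) * x.2.2 = (x'.2.1 : G) * x'.2.2 := by
            have := hxs.trans hxs'.symm
            simp only [Φ, ← hg] at this
            exact mul_left_cancel (mul_right_cancel this)
          have h4 : (x'.2.1 : G)⁻¹ * x.2.1 = (x'.2.2 : G) * (x.2.2 : G)⁻¹ := by
            rw [eq_mul_inv_iff_mul_eq, mul_assoc, h3]; group
          have h5 := T.inj _ (T.P.mul_mem (T.P.inv_mem x'.2.1.2) x.2.1.2)
            (h4 ▸ T.V.mul_mem x'.2.2.2 (T.V.inv_mem x.2.2.2))
          have h6 : (x.2.1 : G) = x'.2.1 := (inv_mul_eq_one.mp h5).symm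
          rw [h6] at h3
          exact Prod.ext hg (Prod.ext (Subtype.ext h6) (Subtype.ext (mul_left_cancel h3)))
  rw [h1, ← Finset.sum_fiberwise_of_maps_to (t := (Finset.univ : Finset G)) (g := Φ) fun _ _ => Finset.mem_univ _,
    Finset.mul_sum, ← Finset.sum_erase_add _ _ (Finset.mem_univ (1 : G)),
    ← Finset.sum_erase_add _ (fun g => (Nat.card T.N : ℝ) * f g) (Finset.mem_univ (1 : G))]
  have h1' : ∑ x ∈ X.filter (fun x => Φ x = 1), f (Φ x) = 0 := by
    have h := hfib 1
    rw [if_pos rfl] at h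
    rw [Finset.card_eq_zero.mp (Nat.le_zero.mp h), Finset.sum_empty]
  rw [h1', add_zero]
  refine add_le_add (Finset.sum_le_sum fun s hs => ?_) le_rfl
  rw [Finset.sum_congr rfl fun x hx => by rw [(Finset.mem_filter.mp hx).2], Finset.sum_const,
    nsmul_eq_mul]
  refine mul_le_mul_of_nonneg_right ?_ (h0 s)
  have := hfib s
  rw [if_neg (Finset.mem_erase.mp hs).1] at this
  exact_mod_cast this

end Cfsg.Agent.Lib.SmallDegree
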