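import Mathlib
import Cfsg.Agent.Lib.SmallDegree.Local
import Cfsg.Agent.Lib.Chars.PResidualDegree

/-!
# Irreducible characters of degree `x` with `x² + 1 < |P|` in a trivial intersection setting:
either a proper normal subgroup contains `P`, or `x = 1` and `N = C`.
-/

set_option autoImplicit false

namespace Cfsg.Agent.Lib.SmallDegree

open scoped ComplexConjugate
open Cfsg Cfsg.Agent.Lib.Chars

universe u

theorem arith_core {q e k o S x : ℕ} (hq : q = k * e + 1) (hxq : x ^ 2 + 1 < q) (hex : e ≤ x)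
    (ho : 1 ≤ o) (hoe : o * e ≤ e * e - e) (htS : o * e + 1 ≤ S)
    (h : q * S < q * e + (o * e + 1) * S) :
    q = e * e + e + 1 ∧ o = 1 ∧ S = e + 1 ∧ x ≤ e := by
  have h2e : 2 ≤ e := by
    rcases e with _ | _ | e
    · simp at hq; omega
    · simp at hoe; omega
    · omega
  have hk : e + 1 ≤ k := by
    by_contra hc
    push Not at hc
    nlinarith
  have hoe' : o + 1 ≤ e := by
    have h' : o * e + e ≤ e * e := by
      have := Nat.le_mul_self e
      omega
    nlinarith
  obtain ⟨j, rfl⟩ := Nat.exists_eq_add_of_le (show o ≤ k by omega)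
  have h1 : j * (o * e + 1) < (o + j) * e + 1 := by
    by_contra hc
    push Not at hc
    subst hq
    have : j * (o * e + 1) * e ≤ j * S * e := by gcongr
    nlinarith
  rcases Nat.lt_or_ge o 2 with ho2 | ho2
  · have ho1 : o = 1 := by omega
    subst ho1
    have hj : j = e := by
      have : j ≤ e := by nlinarith
      omega
    subst hj
    have hq' : q = j * j + j + 1 := by rw [hq]; ring
    refine ⟨hq', rfl, ?_, ?_⟩
    · subst hq'
      by_contra hc
      have : j + 2 ≤ S := by omega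
      nlinarith
    · by_contra hc
      have : (j + 1) * (j + 1) ≤ x * x := Nat.mul_le_mul (by omega) (by omega)
      nlinarith
  · exfalso
    have hj : 2 ≤ j := by omega
    obtain ⟨o', rfl⟩ := Nat.exists_eq_add_of_le ho2
    have h5 := Nat.mul_le_mul_right ((1 + o') * e + 1) hj
    nlinarith

variable {G : Type u} [Group G] [Fintype G] (T : Setting G) [Fintype T.P] [Fintype T.V]
  [Fintype (T.P →* ℂˣ)]

/-- The numerical data of an irreducible character. -/
theorem Setting.exists_data {e : ℕ} (he : Nat.card T.N = e * Nat.card T.C) (ψ : IrrCharacter G) :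
    ∃ m k : (T.P →* ℂˣ) → ℕ,
      (∀ a, part T.P T.V (ψ : G → ℂ) a 1 = m a) ∧
      (∀ a, m a ≠ 0 → 1 ≤ k a) ∧
      (∀ a, ∑ v : T.V, Complex.normSq (part T.P T.V (ψ : G → ℂ) a v) = k a * Nat.card T.V) ∧
      (∀ a, ∀ g : T.N, m (T.twist g a) = m a) ∧
      ∑ a, m a = charDegree (ψ : G → ℂ) ∧
      Nat.card T.P * ∑ a, k a < Nat.card T.P * e + charDegree (ψ : G → ℂ) ^ 2 ∧
      Nat.card T.P * ∑ a, k a <
        Nat.card T.P * e + (Finset.univ.filter fun a => m a ≠ 0).card * ∑ a, k a := by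
  classical
  haveI := T.abel
  have hψ := irr_isCharacter ψ
  choose m hm using exists_part_one_eq T.comm hψ
  choose k hk hk1 using exists_sum_normSq_part T.comm hψ
  obtain ⟨hd0, hd⟩ := charDegree_spec ψ
  set d := charDegree (ψ : G → ℂ) with hd_def
  have htw : ∀ a, ∀ g : T.N, m (T.twist g a) = m a := fun a g => by
    have := T.part_twist (irr_isClassFunction ψ) g a
    rw [hm, hm] at this
    exact_mod_cast this
  have hz : ∀ a, m a = 0 → ∀ v, part T.P T.V (ψ : G → ℂ) a v = 0 := fun a ha v => by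
    have h := norm_part_le T.comm hψ a v
    rw [hm, ha, Nat.cast_zero, Complex.zero_re] at h
    exact norm_le_zero_iff.mp h
  have hsum : ∑ a, m a = d := by
    have h := sum_part (P := T.P) (V := T.V) (ψ : G → ℂ) 1 1
    simp only [map_one, Units.val_one, one_mul, hm, OneMemClass.coe_one, hd] at h
    exact_mod_cast h
  have hV : (0 : ℝ) < Nat.card T.V := Nat.cast_pos.mpr Nat.card_pos
  -- the local inequality
  have hG : ∑ g : G, Complex.normSq ((ψ : G → ℂ) g) = Nat.card G := by
    have h := classInner_irr_self ψ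
    simp only [classInner, Complex.mul_conj] at h
    rw [inv_mul_eq_one₀ natCard_ne_zero] at h
    apply Complex.ofReal_injective
    push_cast
    exact h.symm
  have hf : ∀ g h : G, Complex.normSq ((ψ : G → ℂ) (h * g * h⁻¹))
      = Complex.normSq ((ψ : G → ℂ) g) := fun g h => by
    rw [irr_isClassFunction ψ g h]
  have hloc := T.local_le (fun g => Complex.normSq ((ψ : G → ℂ) g)) hf
    (fun g => Complex.normSq_nonneg _)
  have hPV : ∑ y : T.P, ∑ v : T.V, Complex.normSq ((ψ : G → ℂ) ((y : G) * v))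
      = (Nat.card T.P : ℝ) * ((∑ a, k a : ℕ) * Nat.card T.V) := by
    rw [Finset.sum_comm, Finset.sum_congr rfl fun v _ => sum_normSq_part (ψ : G → ℂ) v,
      ← Finset.mul_sum, Finset.sum_comm, Finset.sum_congr rfl fun a _ => hk a, ← Finset.sum_mul,
      Nat.cast_sum]
  rw [hG, hPV, hd, he, T.card_C] at hloc
  push_cast at hloc
  set W := ∑ v : T.V, Complex.normSq ((ψ : G → ℂ) v) with hW
  have hpos : (0 : ℝ) < Complex.normSq ((d : ℂ)) :=
    Complex.normSq_pos.mpr (Nat.cast_ne_zero.mpr hd0.ne')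
  have hN : (0 : ℝ) < (e : ℝ) * ((Nat.card T.P : ℝ) * Nat.card T.V) := by
    have : 0 < Nat.card T.N := Nat.card_pos
    rw [he, T.card_C] at this
    exact_mod_cast this
  have hmain : (Nat.card T.P : ℝ) * ((∑ a, (k a : ℝ)) * Nat.card T.V) - W
      < (e : ℝ) * ((Nat.card T.P : ℝ) * Nat.card T.V) := by
    have : (0 : ℝ) < Nat.card G := Nat.cast_pos.mpr Nat.card_pos
    nlinarith [mul_pos hN hpos]
  have hW1 : W ≤ Nat.card T.V * (d : ℝ) ^ 2 := by
    rw [hW]
    refine (Finset.sum_le_sum fun v _ => (?_ : _ ≤ (d : ℝ) ^ 2)).trans (le_of_eq ?_)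
    · obtain ⟨n, ρ, hρ⟩ := hψ
      have h1 : ρ.character 1 = (ψ : G → ℂ) 1 := by rw [hρ]
      rw [Representation.char_one, hd, Nat.cast_inj, Module.finrank_fin_fun] at h1
      rw [Complex.normSq_eq_norm_sq, ← hρ, ← h1]
      have := norm_char_le ρ (v : G)
      rw [Module.finrank_fin_fun] at this
      gcongr
    · rw [Finset.sum_const, Finset.card_univ, nsmul_eq_mul, ← Nat.card_eq_fintype_card]
  set t := (Finset.univ.filter fun a => m a ≠ 0).card with ht
  have hW2 : W ≤ (t : ℝ) * ((∑ a, (k a : ℝ)) * Nat.card T.V) := by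
    rw [hW, Finset.sum_mul, ← Finset.sum_congr rfl fun a _ => hk a, Finset.sum_comm,
      Finset.mul_sum]
    refine Finset.sum_le_sum fun v _ => ?_
    have h := sum_part (P := T.P) (V := T.V) (ψ : G → ℂ) 1 v
    simp only [map_one, Units.val_one, one_mul, OneMemClass.coe_one] at h
    rw [← h, ← Finset.sum_filter_of_ne (p := fun a => m a ≠ 0) fun a _ ha h0 => ha (hz a h0 v),
      Complex.normSq_eq_norm_sq]
    refine (pow_le_pow_left₀ (norm_nonneg _) (norm_sum_le _ _) 2).trans ?_
    refine sq_sum_le_card_mul_sum_sq.trans ?_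
    rw [← ht]
    refine mul_le_mul_of_nonneg_left ?_ (Nat.cast_nonneg _)
    simp only [← Complex.normSq_eq_norm_sq]
    exact Finset.sum_le_sum_of_subset_of_nonneg (Finset.filter_subset _ _)
      fun a _ _ => Complex.normSq_nonneg _
  refine ⟨m, k, hm, fun a ha => hk1 a (by rw [hm]; exact_mod_cast ha), hk, htw, hsum, ?_, ?_⟩
  · have : ((Nat.card T.P : ℝ) * (∑ a, (k a : ℝ))) < (Nat.card T.P : ℝ) * e + (d : ℝ) ^ 2 :=
      lt_of_mul_lt_mul_right (by nlinarith) hV.le
    exact_mod_cast this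
  · have : ((Nat.card T.P : ℝ) * (∑ a, (k a : ℝ)))
        < (Nat.card T.P : ℝ) * e + (t : ℝ) * ∑ a, (k a : ℝ) :=
      lt_of_mul_lt_mul_right (by nlinarith) hV.le
    exact_mod_cast this

/-- If only the trivial character of `P` occurs, then `P` is in the kernel. -/
theorem Setting.le_ker {ψ : IrrCharacter G} {m : (T.P →* ℂˣ) → ℕ}
    (hm : ∀ a, part T.P T.V (ψ : G → ℂ) a 1 = m a) (h : ∀ a, a ≠ 1 → m a = 0) :
    T.P ≤ Codegree.kerIrr ψ := by
  classical
  haveI := T.abel
  intro y hy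
  rw [Codegree.mem_kerIrr]
  have h1 := sum_part (P := T.P) (V := T.V) (ψ : G → ℂ) ⟨y, hy⟩ 1
  have h2 := sum_part (P := T.P) (V := T.V) (ψ : G → ℂ) 1 1
  rw [Finset.sum_eq_single 1 (fun a _ ha => by rw [hm, h a ha, Nat.cast_zero, mul_zero]) (by simp)]
    at h1 h2
  simp only [OneMemClass.coe_one, mul_one, MonoidHom.one_apply, Units.val_one, one_mul] at h1 h2
  exact h1.symm.trans h2

/-- The dichotomy. -/
theorem Setting.dichotomy {e : ℕ} (he : Nat.card T.N = e * Nat.card T.C) (χ : IrrCharacter G)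
    (h1 : (χ : G → ℂ) ≠ fun _ => 1)
    (hdeg : charDegree (χ : G → ℂ) ^ 2 + 1 < Nat.card T.P) :
    (∃ K : Subgroup G, K.Normal ∧ K ≠ ⊤ ∧ T.P ≤ K) ∨
      (charDegree (χ : G → ℂ) = 1 ∧ e = 1) := by
  classical
  haveI := T.abel
  rw [or_iff_not_imp_left]
  intro hno
  have htriv : ∀ ψ : IrrCharacter G, ψ ≠ trivialIrr G → ∀ m : (T.P →* ℂˣ) → ℕ,
      (∀ a, part T.P T.V (ψ : G → ℂ) a 1 = m a) → ∃ a, a ≠ 1 ∧ m a ≠ 0 := by
    intro ψ hψ m hm
    by_contra hc
    push Not at hc
    exact hno ⟨Codegree.kerIrr ψ, Codegree.kerIrr_normal ψ,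
      fun h => hψ (Codegree.eq_trivial_of_kerIrr_eq_top h), T.le_ker hm hc⟩
  set q := Nat.card T.P with hq
  have he0 : 0 < e := by
    have : 0 < Nat.card T.N := Nat.card_pos
    rw [he] at this
    exact Nat.pos_of_mul_pos_right this
  obtain ⟨kk, hkk⟩ : e ∣ ((Finset.univ : Finset (T.P →* ℂˣ)).erase 1).card :=
    T.dvd_card_of_closed he _ (fun a ha => (Finset.mem_erase.mp ha).1) fun a ha g =>
      Finset.mem_erase.mpr ⟨fun h => (Finset.mem_erase.mp ha).1 (by
        have h2 : T.twist g⁻¹ (T.twist g a) = T.twist g⁻¹ 1 := by rw [h]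
        rw [T.twist_twist, mul_inv_cancel,
          (T.twist_eq_self_iff (Finset.mem_erase.mp ha).1 1).mpr (by simp)] at h2
        exact h2.trans (by ext y; rfl)), Finset.mem_univ _⟩
  have hqk : q = kk * e + 1 := by
    have h := Finset.card_erase_add_one (Finset.mem_univ (1 : T.P →* ℂˣ))
    rw [hkk, Finset.card_univ, ← Nat.card_eq_fintype_card, card_lin] at h
    rw [hq, ← h, mul_comm]
  -- the small character
  obtain ⟨m, k, hm, hk1, hk, htw, hsum, hloc, -⟩ := T.exists_data he χ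
  set x := charDegree (χ : G → ℂ) with hx
  have hχne : χ ≠ trivialIrr G := fun h => h1 (by rw [h]; funext g; simp [trivialIrr_apply])
  set Λ := Finset.univ.filter fun a : T.P →* ℂˣ => a ≠ 1 ∧ m a ≠ 0 with hΛ
  have hΛ' : e ∣ Λ.card := T.dvd_card_of_closed he Λ (fun a ha => (Finset.mem_filter.mp ha).2.1)
    fun a ha g => by
      obtain ⟨-, ha1, ha2⟩ := Finset.mem_filter.mp ha
      refine Finset.mem_filter.mpr ⟨Finset.mem_univ _, fun h => ha1 ?_, by rwa [htw]⟩
      have h2 : T.twist g⁻¹ (T.twist g a) = T.twist g⁻¹ 1 := by rw [h]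
      rw [T.twist_twist, mul_inv_cancel, (T.twist_eq_self_iff ha1 1).mpr (by simp)] at h2
      exact h2.trans (by ext y; rfl)
  have hΛpos : 0 < Λ.card := by
    obtain ⟨a, ha, ha'⟩ := htriv χ hχne m hm
    exact Finset.card_pos.mpr ⟨a, by simp [hΛ, ha, ha']⟩
  have heΛ : e ≤ Λ.card := Nat.le_of_dvd hΛpos hΛ'
  have hkle : (Finset.univ.filter fun a => m a ≠ 0).card ≤ ∑ a, k a := by
    rw [Finset.card_eq_sum_ones]
    exact (Finset.sum_le_sum fun a ha => hk1 a (Finset.mem_filter.mp ha).2).trans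
      (Finset.sum_le_sum_of_subset (Finset.filter_subset _ _))
  have hSe : (∑ a, k a) ≤ e := by
    by_contra hc
    have : q * (e + 1) ≤ q * ∑ a, k a := Nat.mul_le_mul_left _ (by omega)
    nlinarith
  have hΛsub : Λ ⊆ Finset.univ.filter fun a => m a ≠ 0 := fun a ha => by
    simp only [hΛ, Finset.mem_filter] at ha ⊢
    exact ⟨ha.1, ha.2.2⟩
  have hΛe : Λ.card = e := le_antisymm ((Finset.card_le_card hΛsub).trans (hkle.trans hSe)) heΛ
  have hsupp : (Finset.univ.filter fun a => m a ≠ 0) = Λ :=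
    (Finset.eq_of_subset_of_card_le hΛsub (by omega)).symm
  have hm0 : ∀ a, a ∉ Λ → m a = 0 := fun a ha => by
    by_contra h
    exact ha (hsupp ▸ Finset.mem_filter.mpr ⟨Finset.mem_univ _, h⟩)
  have hsumΛ : ∑ a ∈ Λ, m a = x := by
    rw [← hsum]
    exact Finset.sum_subset (Finset.subset_univ _) fun a _ ha => hm0 a ha
  have hΛm : ∀ a ∈ Λ, 1 ≤ m a := fun a ha =>
    Nat.one_le_iff_ne_zero.mpr (Finset.mem_filter.mp ha).2.2
  have hex : e ≤ x := by
    rw [← hΛe, ← hsumΛ, Finset.card_eq_sum_ones]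
    exact Finset.sum_le_sum hΛm
  rcases Nat.lt_or_ge x 2 with hx2 | hx2
  · exact ⟨by omega, by omega⟩
  exfalso
  -- the product with the conjugate
  set Φ : G → ℂ := (χ : G → ℂ) * fun g => conj ((χ : G → ℂ) g) with hΦ
  have hΦc : IsCharacter G Φ :=
    isCharacter_mul (irr_isCharacter χ) (isCharacter_star (irr_isCharacter χ))
  have hdec := isCharacter_eq_sum_classInner hΦc
  choose c hc using fun ψ : IrrCharacter G =>
    isCharacter_classInner_nat hΦc (irr_isCharacter ψ)
  have hc1 : c (trivialIrr G) = 1 := by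
    have h : classInner Φ (trivialIrr G : G → ℂ) = classInner (χ : G → ℂ) (χ : G → ℂ) := by
      simp [classInner, hΦ, trivialIrr_apply]
    rw [hc, classInner_irr_self] at h
    exact_mod_cast h
  have hpart : ∀ a v, part T.P T.V Φ a v
      = ∑ ψ : IrrCharacter G, (c ψ : ℂ) * part T.P T.V (ψ : G → ℂ) a v := by
    intro a v
    rw [← part_sum]
    refine congrArg (fun F => part T.P T.V F a v) ?_
    funext g
    conv_lhs => rw [hdec]
    simp [hc]
  -- components of the product
  have hΦ1 : ∀ a, part T.P T.V Φ a 1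
      = ∑ b ∈ Λ, ∑ b' ∈ Λ, if b * b'⁻¹ * a⁻¹ = 1 then (m b * m b' : ℂ) else 0 := by
    intro a
    have hval : ∀ y : T.P, (χ : G → ℂ) y = ∑ b ∈ Λ, (b y : ℂ) * m b := fun y => by
      have h := sum_part (P := T.P) (V := T.V) (χ : G → ℂ) y 1
      simp only [OneMemClass.coe_one, mul_one, hm] at h
      rw [← h]
      refine (Finset.sum_subset (Finset.subset_univ _) fun b _ hb => ?_).symm
      rw [hm0 b hb, Nat.cast_zero, mul_zero]
    simp only [part, OneMemClass.coe_one, mul_one, hΦ, Pi.mul_apply, hval, map_sum, map_mul,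
      Complex.conj_natCast, Finset.sum_mul, Finset.mul_sum]
    rw [Finset.sum_comm]
    refine (Finset.sum_congr rfl fun b _ => Finset.sum_comm).trans ?_
    rw [Finset.sum_comm]
    refine Finset.sum_congr rfl fun b hb => Finset.sum_congr rfl fun b' hb' => ?_
    have hterm : ∀ y : T.P, (Nat.card T.P : ℂ)⁻¹ * (conj (a y : ℂ) * ((b y : ℂ) * m b *
        (conj (b' y : ℂ) * m b'))) = (Nat.card T.P : ℂ)⁻¹ * (m b * m b') *
          ((b * b'⁻¹ * a⁻¹) y : ℂˣ) := fun y => by
      rw [conj_lin, conj_lin]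
      simp only [MonoidHom.mul_apply, MonoidHom.inv_apply, Units.val_mul, map_inv]
      ring
    rw [Finset.sum_congr rfl fun y _ => hterm y, ← Finset.mul_sum, sum_apply_lin]
    split
    · field_simp
    · rw [mul_zero]
  have hT0 : part T.P T.V Φ 1 1 = ((∑ b ∈ Λ, m b ^ 2 : ℕ) : ℂ) := by
    rw [hΦ1]
    push_cast
    refine Finset.sum_congr rfl fun b hb => ?_
    rw [Finset.sum_eq_single b (fun b' _ hne => if_neg fun h => hne (MonoidHom.ext fun y => ?_))
      (fun h => absurd hb h), if_pos (MonoidHom.ext fun y => by simp), sq]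
    have h2 := DFunLike.congr_fun h y
    simp [mul_inv_eq_one] at h2
    exact h2.symm
  choose M K hM hK1 hK hMtw hMsum hMloc hMloc' using fun ψ => T.exists_data he ψ
  have hbsum : ∑ ψ, c ψ * M ψ 1 = ∑ b ∈ Λ, m b ^ 2 := by
    have h := hpart 1 1
    rw [hT0] at h
    simp only [hM] at h
    exact_mod_cast h.symm
  have hMtriv : M (trivialIrr G) 1 = 1 := by
    have h := hM (trivialIrr G) 1
    simp only [part, trivialIrr_apply, MonoidHom.one_apply, Units.val_one, map_one, mul_one,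
      Finset.sum_const, Finset.card_univ, nsmul_eq_mul, ← Nat.card_eq_fintype_card,
      inv_mul_cancel₀ (natCard_ne_zero (G := T.P))] at h
    exact_mod_cast h.symm
  obtain ⟨ζ, hζne, hζc, hζb⟩ : ∃ ζ, ζ ≠ trivialIrr G ∧ c ζ ≠ 0 ∧ M ζ 1 ≠ 0 := by
    by_contra hno'
    push Not at hno'
    rw [Finset.sum_eq_single (trivialIrr G) (fun ψ _ hne => by
      rcases Nat.eq_zero_or_pos (c ψ) with h | h
      · simp [h]
      · simp [hno' ψ hne h.ne']) (by simp), hc1, hMtriv, one_mul] at hbsum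
    have : ∑ b ∈ Λ, m b ≤ ∑ b ∈ Λ, m b ^ 2 :=
      Finset.sum_le_sum fun b _ => Nat.le_self_pow (by norm_num) _
    omega
  -- the support of `ζ`
  set L := Finset.univ.filter fun a : T.P →* ℂˣ => a ≠ 1 ∧ M ζ a ≠ 0 with hL
  have hLsub : L ⊆ Λ.offDiag.image fun bb => bb.1 * bb.2⁻¹ := by
    intro a ha
    obtain ⟨-, ha1, ha2⟩ := Finset.mem_filter.mp ha
    by_contra hcon
    have h0 : part T.P T.V Φ a 1 = 0 := by
      rw [hΦ1]
      refine Finset.sum_eq_zero fun b hb => Finset.sum_eq_zero fun b' hb' => if_neg fun h => ?_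
      have hab : a = b * b'⁻¹ := (mul_inv_eq_one.mp h).symm
      refine hcon (Finset.mem_image.mpr ⟨(b, b'), Finset.mem_offDiag.mpr ⟨hb, hb', ?_⟩, hab.symm⟩)
      intro hbb
      simp only at hbb
      exact ha1 (hab.trans (MonoidHom.ext fun y => by simp [hbb]))
    rw [hpart] at h0
    simp only [hM] at h0
    have h0' : ∑ ψ, c ψ * M ψ a = 0 := by exact_mod_cast h0
    exact ha2 ((Nat.mul_eq_zero.mp (Finset.sum_eq_zero_iff.mp h0' ζ (Finset.mem_univ _))).resolve_left hζc)
  have hLle : L.card ≤ e * e - e := by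
    refine (Finset.card_le_card hLsub).trans (Finset.card_image_le.trans (le_of_eq ?_))
    rw [Finset.offDiag_card, hΛe]
  obtain ⟨o, ho⟩ : e ∣ L.card := T.dvd_card_of_closed he L
    (fun a ha => (Finset.mem_filter.mp ha).2.1) fun a ha g => by
      obtain ⟨-, ha1, ha2⟩ := Finset.mem_filter.mp ha
      refine Finset.mem_filter.mpr ⟨Finset.mem_univ _, fun h => ha1 ?_, by rwa [hMtw]⟩
      have h2 : T.twist g⁻¹ (T.twist g a) = T.twist g⁻¹ 1 := by rw [h]
      rw [T.twist_twist, mul_inv_cancel, (T.twist_eq_self_iff ha1 1).mpr (by simp)] at h2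
      exact h2.trans (by ext y; rfl)
  have ho1 : 1 ≤ o := by
    obtain ⟨a, ha, ha'⟩ := htriv ζ hζne _ (hM ζ)
    have : 0 < L.card := Finset.card_pos.mpr ⟨a, by simp [hL, ha, ha']⟩
    rw [ho] at this
    exact Nat.pos_of_mul_pos_left this
  have hsuppζ : (Finset.univ.filter fun a => M ζ a ≠ 0) = insert 1 L := by
    ext a
    simp only [hL, Finset.mem_filter, Finset.mem_insert, Finset.mem_univ, true_and]
    constructor
    · intro h; exact (em (a = 1)).imp_right fun h' => ⟨h', h⟩
    · rintro (rfl | ⟨-, h⟩) <;> assumption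
  have htζ : (Finset.univ.filter fun a => M ζ a ≠ 0).card = o * e + 1 := by
    rw [hsuppζ, Finset.card_insert_of_notMem (by simp [hL]), ho, mul_comm]
  have hSζ : ∑ a ∈ Finset.univ.filter (fun a => M ζ a ≠ 0), 1
      ≤ ∑ a, K ζ a := (Finset.sum_le_sum fun a ha => hK1 ζ a (Finset.mem_filter.mp ha).2).trans
        (Finset.sum_le_sum_of_subset (Finset.filter_subset _ _))
  rw [← Finset.card_eq_sum_ones, htζ] at hSζ
  have hloc2 := hMloc' ζ
  rw [htζ] at hloc2
  obtain ⟨hqe, rfl, hS, hxe⟩ := arith_core hqk hdeg hex ho1 (by rw [mul_comm, ← ho]; exact hLle)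
    hSζ hloc2
  rw [one_mul] at htζ
  have hΛone : ∀ b ∈ Λ, m b = 1 := by
    intro b hb
    by_contra hne
    have h2 : ∑ b ∈ Λ, 1 < ∑ b ∈ Λ, m b :=
      Finset.sum_lt_sum hΛm ⟨b, hb, by have := hΛm b hb; omega⟩
    rw [← Finset.card_eq_sum_ones, hΛe, hsumΛ] at h2
    omega
  have hT0e : ∑ b ∈ Λ, m b ^ 2 = e := by
    rw [Finset.sum_congr rfl fun b hb => by rw [hΛone b hb, one_pow], ← Finset.card_eq_sum_ones,
      hΛe]
  have hKone : ∀ a, (K ζ a : ℝ) ≤ 1 := by
    intro a
    have h2 : ∀ a ∈ Finset.univ.filter (fun a => M ζ a ≠ 0), 1 ≤ K ζ a :=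
      fun a ha => hK1 ζ a (Finset.mem_filter.mp ha).2
    have h3 : K ζ a ≤ 1 := by
      by_contra hcon
      rw [not_le] at hcon
      have h4 : (Finset.univ.filter (fun a => M ζ a ≠ 0)).card < ∑ b, K ζ b := by
        rw [Finset.card_eq_sum_ones, Finset.sum_filter]
        refine Finset.sum_lt_sum (fun b _ => ?_) ⟨a, Finset.mem_univ _, ?_⟩
        · split
          · next hb => exact hK1 ζ b hb
          · exact Nat.zero_le _
        · split <;> omega
      omega
    exact_mod_cast h3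
  set nV : ℝ := (Nat.card T.V : ℝ) with hnV
  have hnV0 : 0 < nV := Nat.cast_pos.mpr Nat.card_pos
  have hre : ∀ a, ∑ v : T.V, (part T.P T.V (ζ : G → ℂ) a v).re ≤ nV := by
    intro a
    have h2 : ∑ v : T.V, (part T.P T.V (ζ : G → ℂ) a v).re
        ≤ ∑ v : T.V, (Complex.normSq (part T.P T.V (ζ : G → ℂ) a v) + 1) / 2 :=
      Finset.sum_le_sum fun v _ => by
        rw [Complex.normSq_apply]
        nlinarith [sq_nonneg ((part T.P T.V (ζ : G → ℂ) a v).re - 1),
          mul_self_nonneg ((part T.P T.V (ζ : G → ℂ) a v).im)]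
    rw [← Finset.sum_div, Finset.sum_add_distrib, hK, Finset.sum_const, Finset.card_univ,
      nsmul_eq_mul, mul_one, ← Nat.card_eq_fintype_card, ← hnV] at h2
    nlinarith [hKone a]
  -- the trivial component of `ζ` is constant
  have hbe : ∑ v : T.V, (part T.P T.V (ζ : G → ℂ) 1 v).re = (M ζ 1 : ℝ) * nV := by
    have hlow : (e : ℝ) * nV ≤ ∑ v : T.V, (part T.P T.V Φ 1 v).re := by
      have heq : ∀ v : T.V, (part T.P T.V Φ 1 v).re
          = ∑ a, Complex.normSq (part T.P T.V (χ : G → ℂ) a v) := fun v => by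
        have h := sum_normSq_part (P := T.P) (χ : G → ℂ) v
        have h2 : part T.P T.V Φ 1 v = (Nat.card T.P : ℂ)⁻¹ *
            ((∑ y : T.P, Complex.normSq ((χ : G → ℂ) ((y : G) * v)) : ℝ) : ℂ) := by
          simp [part, hΦ, Complex.mul_conj]
        rw [h2, h, ← Complex.ofReal_natCast, ← Complex.ofReal_inv, ← Complex.ofReal_mul,
          Complex.ofReal_re, inv_mul_cancel_left₀ (Nat.cast_ne_zero.mpr Nat.card_pos.ne')]
      simp only [heq]
      rw [Finset.sum_comm, Finset.sum_congr rfl fun a _ => hk a, ← Finset.sum_mul]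
      refine mul_le_mul_of_nonneg_right ?_ hnV0.le
      rw [← Nat.cast_sum, Nat.cast_le, ← hΛe, ← hsupp]
      exact hkle
    have hup : ∀ ψ : IrrCharacter G,
        ∑ v : T.V, (part T.P T.V (ψ : G → ℂ) 1 v).re ≤ (M ψ 1 : ℝ) * nV := by
      intro ψ
      refine (Finset.sum_le_sum fun v _ => (Complex.re_le_norm _).trans
        ((norm_part_le T.comm (irr_isCharacter ψ) 1 v).trans (le_of_eq (by
          rw [hM, Complex.natCast_re])))).trans (le_of_eq ?_)
      rw [Finset.sum_const, Finset.card_univ, nsmul_eq_mul, ← Nat.card_eq_fintype_card, mul_comm]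
    have htot : ∑ v : T.V, (part T.P T.V Φ 1 v).re
        = ∑ ψ, (c ψ : ℝ) * ∑ v : T.V, (part T.P T.V (ψ : G → ℂ) 1 v).re := by
      simp only [hpart, Complex.re_sum, Complex.mul_re, Complex.natCast_re, Complex.natCast_im,
        zero_mul, sub_zero, Finset.mul_sum]
      exact Finset.sum_comm
    have hsumR : ∑ ψ, (c ψ : ℝ) * ((M ψ 1 : ℝ) * nV) = (e : ℝ) * nV := by
      simp only [← mul_assoc, ← Finset.sum_mul]
      congr 1
      exact_mod_cast hbsum.trans hT0e
    rw [htot, ← hsumR] at hlow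
    have h := (Finset.sum_eq_sum_iff_of_le fun ψ _ =>
      mul_le_mul_of_nonneg_left (hup ψ) (Nat.cast_nonneg (c ψ))).mp
      (le_antisymm (Finset.sum_le_sum fun ψ _ =>
        mul_le_mul_of_nonneg_left (hup ψ) (Nat.cast_nonneg (c ψ))) hlow) ζ (Finset.mem_univ _)
    exact mul_left_cancel₀ (Nat.cast_ne_zero.mpr hζc) h
  have hb1 : M ζ 1 = 1 := by
    have h := hre 1
    rw [hbe] at h
    have : (M ζ 1 : ℝ) ≤ 1 := le_of_mul_le_mul_right (by linarith) hnV0
    have : M ζ 1 ≤ 1 := by exact_mod_cast this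
    omega
  -- the Gram inequality with the trivial character
  set E : ℝ := (e : ℝ) with hE
  have hE0 : 0 < E := Nat.cast_pos.mpr he0
  set f : G → ℝ := fun g => Complex.normSq ((ζ : G → ℂ) g) + 2 / E * ((ζ : G → ℂ) g).re + 1 / E ^ 2
    with hf
  have hfsq : ∀ g, f g = Complex.normSq ((ζ : G → ℂ) g + ((1 / E : ℝ) : ℂ)) := fun g => by
    simp only [hf, Complex.normSq_add, Complex.normSq_ofReal, Complex.conj_ofReal, Complex.mul_re,
      Complex.ofReal_re, Complex.ofReal_im]
    ring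
  have hloc3 := T.local_le f (fun g h => by simp only [hf, irr_isClassFunction ζ g h])
    (fun g => hfsq g ▸ Complex.normSq_nonneg _)
  obtain ⟨hd0, hd⟩ := charDegree_spec ζ
  have hf1 : 0 < f 1 := by
    rw [hfsq, hd]
    refine Complex.normSq_pos.mpr fun h => ?_
    have h2 := congrArg Complex.re h
    simp only [Complex.add_re, Complex.natCast_re, Complex.ofReal_re, Complex.zero_re] at h2
    have : (0 : ℝ) < charDegree (ζ : G → ℂ) := Nat.cast_pos.mpr hd0
    have : (0 : ℝ) < 1 / E := by positivity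
    linarith
  have hG : ∑ g : G, f g = (Nat.card G : ℝ) * (1 + 1 / E ^ 2) := by
    have h := classInner_irr_self ζ
    simp only [classInner, Complex.mul_conj] at h
    rw [inv_mul_eq_one₀ natCard_ne_zero] at h
    have hsq : ∑ g : G, Complex.normSq ((ζ : G → ℂ) g) = Nat.card G := by
      apply Complex.ofReal_injective
      push_cast
      exact h.symm
    have h0 := classInner_irr_of_ne hζne
    simp only [classInner, trivialIrr_apply, map_one, mul_one, mul_eq_zero, inv_eq_zero,
      natCard_ne_zero, false_or] at h0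
    have hlin : ∑ g : G, ((ζ : G → ℂ) g).re = 0 := by rw [← Complex.re_sum, h0, Complex.zero_re]
    simp only [hf, Finset.sum_add_distrib, ← Finset.mul_sum, hsq, hlin, Finset.sum_const,
      Finset.card_univ, nsmul_eq_mul, ← Nat.card_eq_fintype_card]
    ring
  have hPVsq : ∑ y : T.P, ∑ v : T.V, Complex.normSq ((ζ : G → ℂ) ((y : G) * v))
      = (q : ℝ) * ((E + 1) * nV) := by
    rw [Finset.sum_comm, Finset.sum_congr rfl fun v _ => sum_normSq_part (ζ : G → ℂ) v,
      ← Finset.mul_sum, Finset.sum_comm, Finset.sum_congr rfl fun a _ => hK ζ a, ← Finset.sum_mul,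
      ← Nat.cast_sum, hS]
    simp [hq, hE, hnV]
  have hPVre : ∑ y : T.P, ∑ v : T.V, ((ζ : G → ℂ) ((y : G) * v)).re = (q : ℝ) * nV := by
    have h2 : ∀ v : T.V, ∑ y : T.P, (ζ : G → ℂ) ((y : G) * v)
        = (q : ℂ) * part T.P T.V (ζ : G → ℂ) 1 v := fun v => by
      simp [part, hq]
    rw [Finset.sum_comm]
    simp only [← Complex.re_sum, h2, Complex.mul_re, Complex.natCast_re, Complex.natCast_im,
      zero_mul, sub_zero, ← Finset.mul_sum]
    rw [Complex.re_sum, hbe, hb1, Nat.cast_one, one_mul]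
  have hVre : ∑ v : T.V, ((ζ : G → ℂ) v).re ≤ (E + 1) * nV := by
    have h2 : ∀ v : T.V, ((ζ : G → ℂ) v).re = ∑ a, (part T.P T.V (ζ : G → ℂ) a v).re := fun v => by
      have h := sum_part (P := T.P) (V := T.V) (ζ : G → ℂ) 1 v
      simp only [map_one, Units.val_one, one_mul, OneMemClass.coe_one] at h
      rw [← h, Complex.re_sum]
    simp only [h2]
    rw [Finset.sum_comm, ← Finset.sum_filter_of_ne (p := fun a => M ζ a ≠ 0) fun a _ ha h0 => ha ?_]
    · refine (Finset.sum_le_sum fun a _ => hre a).trans (le_of_eq ?_)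
      rw [Finset.sum_const, htζ, nsmul_eq_mul]
      push_cast [hE]
      ring
    · refine Finset.sum_eq_zero fun v _ => ?_
      have h := norm_part_le T.comm (irr_isCharacter ζ) a v
      rw [hM, h0, Nat.cast_zero, Complex.zero_re] at h
      rw [norm_le_zero_iff.mp h, Complex.zero_re]
  have hVsq : ∑ v : T.V, Complex.normSq ((ζ : G → ℂ) v) ≤ (E + 1) ^ 2 * nV := by
    have hz : ∀ a, M ζ a = 0 → ∀ v, part T.P T.V (ζ : G → ℂ) a v = 0 := fun a ha v => by
      have h := norm_part_le T.comm (irr_isCharacter ζ) a v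
      rw [hM, ha, Nat.cast_zero, Complex.zero_re] at h
      exact norm_le_zero_iff.mp h
    calc ∑ v : T.V, Complex.normSq ((ζ : G → ℂ) v)
        ≤ ∑ v : T.V, (E + 1) * ∑ a, Complex.normSq (part T.P T.V (ζ : G → ℂ) a v) := by
          refine Finset.sum_le_sum fun v _ => ?_
          have h := sum_part (P := T.P) (V := T.V) (ζ : G → ℂ) 1 v
          simp only [map_one, Units.val_one, one_mul, OneMemClass.coe_one] at h
          rw [← h, ← Finset.sum_filter_of_ne (p := fun a => M ζ a ≠ 0)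
            fun a _ ha h0 => ha (hz a h0 v), Complex.normSq_eq_norm_sq]
          refine (pow_le_pow_left₀ (norm_nonneg _) (norm_sum_le _ _) 2).trans ?_
          refine sq_sum_le_card_mul_sum_sq.trans ?_
          rw [htζ]
          push_cast [hE]
          refine mul_le_mul_of_nonneg_left ?_ (by positivity)
          simp only [← Complex.normSq_eq_norm_sq]
          exact Finset.sum_le_sum_of_subset_of_nonneg (Finset.filter_subset _ _)
            fun a _ _ => Complex.normSq_nonneg _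
      _ = (E + 1) * ((∑ a, (K ζ a : ℝ)) * nV) := by
          rw [← Finset.mul_sum, Finset.sum_comm, Finset.sum_congr rfl fun a _ => hK ζ a,
            ← Finset.sum_mul]
      _ = (E + 1) ^ 2 * nV := by
          rw [← Nat.cast_sum, hS]; push_cast [hE]; ring
  rw [hG, he, T.card_C] at hloc3
  simp only [hf, Finset.sum_add_distrib, ← Finset.mul_sum, hPVsq, hPVre, Finset.sum_const,
    Finset.card_univ, nsmul_eq_mul, ← Nat.card_eq_fintype_card, ← hq, ← hnV] at hloc3
  push_cast at hloc3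
  have hG0 : (0 : ℝ) < Nat.card G := Nat.cast_pos.mpr Nat.card_pos
  have hqR : (q : ℝ) = E * E + E + 1 := by rw [hqe]; push_cast [hE]; ring
  have hN0 : (0 : ℝ) < E * ((q : ℝ) * nV) := by rw [hqR]; positivity
  have key : (q : ℝ) * ((E + 1) * nV) + 2 / E * ((q : ℝ) * nV) + (q : ℝ) * nV * (1 / E ^ 2)
      - ((E + 1) ^ 2 * nV + 2 / E * ((E + 1) * nV) + nV * (1 / E ^ 2))
      = E * ((q : ℝ) * nV) * (1 + 1 / E ^ 2) := by
    rw [hqR]; field_simp; ring
  have h2E : (0 : ℝ) ≤ 2 / E := by positivity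
  have hV' := mul_le_mul_of_nonneg_left hVre h2E
  simp only [hf] at hf1
  nlinarith [mul_pos hN0 hf1]

end Cfsg.Agent.Lib.SmallDegree
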