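import Cfsg.Agent.Lib.Glauberman.Cyclic
import Cfsg.Agent.Lib.Glauberman.Residue
import Cfsg.Agent.Lib.Coprime.Glauberman
import Cfsg.Agent.Lib.KGV.Knorr
import Cfsg.Agent.Lib.BSW.Order
import Cfsg.Agent.Lib.PSolvable.DualHallHigman
import Cfsg.Agent.Lib.Codegree
import Mathlib

/-!
# The index of `O_p` in a `p`-soluble group with a faithful character of degree `n`

A Sylow `p`-subgroup modulo `O_p` has a faithful rational character of degree `n`: the canonical
extensions of the constituents on an invariant `p'`-subgroup.  Schur's divisibility bound follows.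
-/

set_option autoImplicit false

namespace Cfsg.Agent.Lib.SmallDegree.SchurBound

open Cfsg
open Cfsg.Agent.Lib
open Cfsg.Agent.Lib.Clifford (conjFun resFun)
open scoped Classical ComplexConjugate commutatorElement Pointwise

universe u

/-- Schur's products are divisible by the group order. -/
theorem exists_int_sum_mul_prod {P : Type u} [Group P] [Fintype P] {π : P → ℂ}
    (hπ : IsCharacter P π) (v : ℕ → ℤ) : ∀ (T : ℕ) (θ : P → ℂ), IsCharacter P θ →
    ∃ z : ℤ, ∑ g : P, θ g * ∏ t ∈ Finset.range T, (π g - (v t : ℂ))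
      = (Nat.card P : ℂ) * (z : ℂ) := by
  intro T
  induction T with
  | zero =>
    intro θ hθ
    obtain ⟨k, hk⟩ := Chars.isCharacter_classInner_nat hθ
      (Chars.irr_isCharacter (Chars.trivialIrr P))
    simp only [classInner, Chars.trivialIrr_apply, map_one, mul_one] at hk
    rw [inv_mul_eq_iff_eq_mul₀ Chars.natCard_ne_zero] at hk
    exact ⟨k, by simpa using hk⟩
  | succ T ih =>
    intro θ hθ
    obtain ⟨z₁, h₁⟩ := ih (θ * π) (Chars.isCharacter_mul hθ hπ)
    obtain ⟨z₂, h₂⟩ := ih θ hθ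
    refine ⟨z₁ - v T * z₂, ?_⟩
    push_cast
    rw [mul_sub, ← h₁, mul_left_comm, ← h₂, Finset.mul_sum, ← Finset.sum_sub_distrib]
    refine Finset.sum_congr rfl fun g _ => ?_
    rw [Finset.prod_range_succ, Pi.mul_apply]
    ring

/-- The values of a rational character at elements of `p`-power order. -/
theorem exists_value {P : Type u} [Group P] [Fintype P] {p : ℕ} (hp : p.Prime)
    (hP : IsPGroup p P) {π : P → ℂ} (hπ : IsCharacter P π) {n : ℕ} (hn : π 1 = n)
    (hrat : ∀ g : P, ∀ k : ℕ, ¬ p ∣ k → π (g ^ k) = π g) (g : P) :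
    ∃ t : ℕ, t ≤ n / (p - 1) ∧ π g = (n : ℂ) - (p : ℂ) * (t : ℂ) := by
  haveI : Fact p.Prime := ⟨hp⟩
  obtain ⟨a, ha⟩ := hP g
  obtain ⟨N, ρ, hρ⟩ := id hπ
  obtain ⟨ι, _, b, μ, hμ, hb⟩ := Chars.exists_eigenbasis ρ g
  have hcard : Fintype.card ι = n := by
    have h1 : ρ.character 1 = (n : ℂ) := by rw [hρ]; exact hn
    rw [Representation.char_one, Nat.cast_inj] at h1
    rw [← h1, Module.finrank_eq_card_basis b]
  have hval : ∀ j : ℕ, π (g ^ j) = ∑ i, μ i ^ j := by
    intro j
    rw [← hρ]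
    refine Chars.trace_eq_sum_of_eigenbasis _ b _ fun i => ?_
    induction j with
    | zero => simp
    | succ j ih =>
      rw [pow_succ', map_mul, Module.End.mul_apply, ih, map_smul, hb, smul_smul, ← pow_succ]
  have hμp : ∀ i, μ i ^ p ^ (a + 1) = 1 := by
    intro i
    obtain ⟨c, hc⟩ := orderOf_dvd_of_pow_eq_one
      (show g ^ p ^ (a + 1) = 1 by rw [pow_succ, pow_mul, ha, one_pow])
    rw [hc, pow_mul, hμ, one_pow]
  set A := (Finset.univ.filter fun i => μ i = 1).card with hA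
  set B := (Finset.univ.filter fun i => μ i ^ p = 1).card with hB
  have hAB : A ≤ B := Finset.card_le_card fun i hi => by
    simp only [Finset.mem_filter, Finset.mem_univ, true_and] at hi ⊢
    rw [hi, one_pow]
  have hBn : B ≤ n := hcard ▸ (Finset.card_filter_le _ _).trans (le_of_eq Finset.card_univ)
  -- the average over the primitive exponents
  have hsplit : ∀ (f : ℕ → ℂ), ∑ k ∈ (Finset.range (p ^ (a + 1))).filter (fun k => p ∣ k), f k
      = ∑ j ∈ Finset.range (p ^ a), f (p * j) := by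
    intro f
    rw [← Finset.sum_image (f := f) (g := fun j => p * j)
      (fun x _ y _ h => Nat.eq_of_mul_eq_mul_left hp.pos h)]
    congr 1
    ext k
    simp only [Finset.mem_filter, Finset.mem_range, Finset.mem_image]
    constructor
    · rintro ⟨hk, ⟨j, rfl⟩⟩
      refine ⟨j, ?_, rfl⟩
      rw [pow_succ'] at hk
      exact Nat.lt_of_mul_lt_mul_left hk
    · rintro ⟨j, hj, rfl⟩
      exact ⟨by rw [pow_succ']; exact Nat.mul_lt_mul_of_pos_left hj hp.pos, dvd_mul_right _ _⟩
  have hgeom : ∀ (w : ℂ) (m : ℕ), w ^ m = 1 →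
      ∑ j ∈ Finset.range m, w ^ j = if w = 1 then (m : ℂ) else 0 := by
    intro w m hw
    split_ifs with h
    · simp [h]
    · rw [geom_sum_eq h, hw, sub_self, zero_div]
  have hfull : ∑ k ∈ Finset.range (p ^ (a + 1)), π (g ^ k) = ((p ^ (a + 1) * A : ℕ) : ℂ) := by
    simp only [hval]
    rw [Finset.sum_comm, Finset.sum_congr rfl fun i _ => hgeom _ _ (hμp i), Finset.sum_ite,
      Finset.sum_const_zero, add_zero, Finset.sum_const, nsmul_eq_mul, Nat.cast_mul, hA]
    ring
  have hsub : ∑ k ∈ (Finset.range (p ^ (a + 1))).filter (fun k => p ∣ k), π (g ^ k)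
      = ((p ^ a * B : ℕ) : ℂ) := by
    rw [hsplit]
    simp only [hval]
    simp only [pow_mul]
    rw [Finset.sum_comm, Finset.sum_congr rfl fun i _ => hgeom (μ i ^ p) _
      (by rw [← pow_mul, ← pow_succ']; exact hμp i), Finset.sum_ite,
      Finset.sum_const_zero, add_zero, Finset.sum_const, nsmul_eq_mul, Nat.cast_mul, hB]
    ring
  have hcount : ((Finset.range (p ^ (a + 1))).filter (fun k => ¬ p ∣ k)).card + p ^ a
      = p ^ (a + 1) := by
    have h1 := Finset.card_filter_add_card_filter_not (s := Finset.range (p ^ (a + 1)))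
      (fun k => p ∣ k)
    rw [Finset.card_range] at h1
    have h2 : ((Finset.range (p ^ (a + 1))).filter (fun k => p ∣ k)).card = p ^ a := by
      have := hsplit (fun _ => 1)
      simp only [Finset.sum_const, nsmul_one, Finset.card_range] at this
      exact_mod_cast this
    omega
  have hmain : ((p : ℂ) - 1) * π g = (p : ℂ) * A - B := by
    have h1 := (Finset.sum_filter_add_sum_filter_not (Finset.range (p ^ (a + 1)))
      (fun k => p ∣ k) (fun k => π (g ^ k))).trans hfull
    rw [hsub, Finset.sum_congr rfl (fun k hk => hrat g k (Finset.mem_filter.1 hk).2),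
      Finset.sum_const, nsmul_eq_mul] at h1
    have h2 : (((Finset.range (p ^ (a + 1))).filter (fun k => ¬ p ∣ k)).card : ℂ) + (p : ℂ) ^ a
        = (p : ℂ) ^ (a + 1) := by exact_mod_cast hcount
    have hpa : (p : ℂ) ^ a ≠ 0 := pow_ne_zero _ (by exact_mod_cast hp.ne_zero)
    refine mul_left_cancel₀ hpa ?_
    push_cast at h1
    linear_combination h1 - π g * h2
  obtain ⟨z, hz⟩ : ∃ z : ℤ, π g = (z : ℂ) := by
    refine BSW.exists_int_of_isIntegral_rat (Chars.isCharacter_isIntegral hπ g)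
      (r := ((p : ℚ) * A - B) / ((p : ℚ) - 1)) ?_
    have hp1 : ((p : ℂ) - 1) ≠ 0 := sub_ne_zero.2 (by exact_mod_cast hp.one_lt.ne')
    push_cast
    rw [eq_div_iff hp1, mul_comm, hmain]
  obtain ⟨M, hM⟩ := Glauberman.exists_isPModular hp
  haveI := Blocks.isPModular_isPrime hM
  have hdvd : (p : ℤ) ∣ (n : ℤ) - z := by
    rw [← Blocks.memLocalIdeal_intCast_iff hM]
    have h1 := KGV.memLocalIdeal_char_sub_degree hM hπ ha
    rw [hz, hn] at h1
    have h2 := Blocks.memLocalIdeal_neg h1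
    rw [neg_sub] at h2
    push_cast
    exact h2
  obtain ⟨t, ht⟩ := hdvd
  have hmainZ : ((p : ℤ) - 1) * z = (p : ℤ) * A - B := by
    rw [hz] at hmain; exact_mod_cast hmain
  have hp2 : (2 : ℤ) ≤ p := by exact_mod_cast hp.two_le
  have hAB' : (A : ℤ) ≤ B := by exact_mod_cast hAB
  have hBn' : (B : ℤ) ≤ n := by exact_mod_cast hBn
  have hnz : ((p : ℤ) - 1) * ((p : ℤ) * t) = ((p : ℤ) - 1) * n - (p : ℤ) * A + B := by
    rw [← ht, mul_sub, hmainZ]; ring
  have ht0 : 0 ≤ t := by
    by_contra h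
    have h' : t ≤ -1 := by omega
    have h1 := mul_le_mul_of_nonneg_left h' (show (0 : ℤ) ≤ ((p : ℤ) - 1) * p by nlinarith)
    have h2 := mul_nonneg (sub_nonneg.2 (show (1 : ℤ) ≤ p by omega))
      (sub_nonneg.2 (show (A : ℤ) ≤ n by omega))
    nlinarith
  have htn : ((p : ℤ) - 1) * t ≤ n := by
    have h1 : (p : ℤ) * (((p : ℤ) - 1) * t) ≤ (p : ℤ) * n := by
      nlinarith [Int.natCast_nonneg A]
    exact le_of_mul_le_mul_left h1 (by omega)
  refine ⟨t.toNat, ?_, ?_⟩
  · rw [Nat.le_div_iff_mul_le (by have := hp.two_le; omega)]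
    have h1 : ((t.toNat * (p - 1) : ℕ) : ℤ) ≤ n := by
      rw [Nat.cast_mul, Int.toNat_of_nonneg ht0, Nat.cast_sub hp.one_le, Nat.cast_one]
      linarith
    exact_mod_cast h1
  · rw [hz]
    have : z = (n : ℤ) - (p : ℤ) * (t.toNat : ℤ) := by rw [Int.toNat_of_nonneg ht0]; linarith
    rw [this]; push_cast; ring

/-- Schur: a rational character of degree `n` of a `p`-group bounds the index of its kernel. -/
theorem factorization_index_le {P : Type u} [Group P] [Fintype P] {p : ℕ} (hp : p.Prime)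
    (hP : IsPGroup p P) {π : P → ℂ} (hπ : IsCharacter P π) {n : ℕ} (hn : π 1 = n)
    (hrat : ∀ g : P, ∀ k : ℕ, ¬ p ∣ k → π (g ^ k) = π g) (K : Subgroup P)
    (hK : ∀ g, g ∈ K ↔ π g = π 1) :
    K.index.factorization p ≤ ∑ i ∈ Finset.range (n + 1), n / ((p - 1) * p ^ i) := by
  haveI : Fact p.Prime := ⟨hp⟩
  set T := n / (p - 1) with hT
  obtain ⟨z, hz⟩ := exists_int_sum_mul_prod hπ (fun t => (n : ℤ) - p * (t + 1)) T (fun _ => 1)
    (by simpa using Chars.isCharacter_hom (1 : P →* ℂˣ))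
  have hsum : ∑ g : P, (1 : ℂ) * ∏ t ∈ Finset.range T, (π g - (((n : ℤ) - p * (t + 1) : ℤ) : ℂ))
      = ((Nat.card K * (p ^ T * T.factorial) : ℕ) : ℂ) := by
    rw [← Finset.sum_subset (Finset.subset_univ (Finset.univ.filter fun g => g ∈ K))
      (fun g _ hg => by
        rw [one_mul]
        obtain ⟨t, ht, htv⟩ := exists_value hp hP hπ hn hrat g
        have ht0 : t ≠ 0 := by
          rintro rfl
          exact hg (Finset.mem_filter.2 ⟨Finset.mem_univ _, (hK g).2 (by rw [htv, hn]; simp)⟩)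
        refine Finset.prod_eq_zero (i := t - 1) (Finset.mem_range.2 (by omega)) ?_
        rw [htv, sub_eq_zero]
        have : ((t - 1 : ℕ) : ℤ) + 1 = t := by omega
        rw [this]; push_cast; ring),
      Finset.sum_congr rfl (g := fun _ => ((p ^ T * T.factorial : ℕ) : ℂ)) (fun g hg => by
        rw [one_mul, (hK g).1 (Finset.mem_filter.1 hg).2, hn]
        rw [Finset.prod_congr rfl (g := fun t : ℕ => ((p * (t + 1) : ℕ) : ℂ))
          (fun t _ => by push_cast; ring), ← Nat.cast_prod, Finset.prod_mul_distrib,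
          Finset.prod_const, Finset.card_range, Finset.prod_range_add_one_eq_factorial]),
      Finset.sum_const, nsmul_eq_mul, Nat.cast_mul (Nat.card K)]
    congr 2
    rw [Nat.card_eq_fintype_card, Fintype.card_subtype]
  rw [hsum] at hz
  have hdvd : Nat.card P ∣ Nat.card K * (p ^ T * T.factorial) := by
    rw [← Int.natCast_dvd_natCast]
    exact ⟨z, by exact_mod_cast hz⟩
  rw [← K.card_mul_index] at hdvd
  have hd : K.index ∣ p ^ T * T.factorial := Nat.dvd_of_mul_dvd_mul_left Nat.card_pos hdvd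
  have h1 := (Nat.factorization_le_iff_dvd Subgroup.index_ne_zero_of_finite
    (Nat.mul_ne_zero (pow_ne_zero _ hp.ne_zero) (Nat.factorial_ne_zero T))).2 hd p
  rw [Nat.factorization_mul (pow_ne_zero _ hp.ne_zero) (Nat.factorial_ne_zero T),
    Finsupp.add_apply, hp.factorization_pow, Finsupp.single_eq_same,
    Nat.factorization_factorial hp (b := n + 1) (lt_of_le_of_lt
      ((Nat.log_le_self p T).trans (Nat.div_le_self n (p - 1))) (Nat.lt_succ_self n))] at h1
  refine h1.trans (le_of_eq ?_)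
  rw [Finset.range_eq_Ico, Finset.sum_eq_sum_Ico_succ_bot (Nat.succ_pos n)]
  simp only [pow_zero, mul_one, ← Nat.div_div_eq_div_mul, ← hT, zero_add]

/-- Canonical extensions: an invariant character of a normal Hall subgroup extends to a character
fixed by the Galois automorphisms fixing the roots of unity of that subgroup. -/
theorem exists_galois_extension {H : Type u} [Group H] [Fintype H] (N : Subgroup H) [N.Normal]
    [Fintype N] (hcop : N.index.Coprime (Nat.card N)) :
    ∀ (n : ℕ) (ξ : N → ℂ), IsCharacter N ξ → (∀ h : H, conjFun h ξ = ξ) → ξ 1 = n →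
    ∃ Ψ : H → ℂ, IsCharacter H Ψ ∧ (∀ x : N, Ψ x = ξ x) ∧
      ∀ k : ℕ, k.Coprime (Nat.card H) → k ≡ 1 [MOD Nat.card N] → ∀ h : H, Ψ (h ^ k) = Ψ h := by
  intro n
  induction n using Nat.strong_induction_on with
  | _ n ih => ?_
  intro ξ hξ hinv hn
  obtain ⟨c, hc⟩ := Chars.isCharacter_exists_nat_decomp hξ
  choose d hd0 hd hdvd using fun γ : IrrCharacter N => Chars.irr_degree_dvd_card γ
  by_cases hzero : ∀ γ, c γ = 0
  · refine ⟨0, Chars.isCharacter_zero, fun x => ?_, fun k _ _ h => rfl⟩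
    rw [hc]; simp [hzero]
  push Not at hzero
  obtain ⟨θ, hθ⟩ := hzero
  let T : Subgroup H :=
    { carrier := {g | conjFun g (θ : N → ℂ) = θ}
      one_mem' := Clifford.conjFun_one _
      mul_mem' := fun {a b} ha hb => by
        show conjFun (a * b) (θ : N → ℂ) = θ
        rw [Clifford.conjFun_mul, ha, hb]
      inv_mem' := fun {a} ha => by
        show conjFun a⁻¹ (θ : N → ℂ) = θ
        conv_lhs => rw [← ha, ← Clifford.conjFun_mul, mul_inv_cancel, Clifford.conjFun_one] }
  have hNT : N ≤ T := fun k hk => funext fun x => Chars.irr_isClassFunction θ x ⟨k, hk⟩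
  haveI : Fintype T := Fintype.ofFinite _
  set N' := N.subgroupOf T with hN'
  haveI : Fintype N' := Fintype.ofFinite _
  let eqv := Subgroup.subgroupOfEquivOfLe hNT
  let θ' : IrrCharacter N' :=
    ⟨_, Chars.isIrrCharacter_comp_surjective eqv.toMonoidHom eqv.surjective θ.2⟩
  have hθ'val : ∀ x : N', (θ' : N' → ℂ) x = (θ : N → ℂ) (eqv x) := fun x => rfl
  have hinv' : ∀ (g : T) (x : N'),
      (θ' : N' → ℂ) ⟨g * x * g⁻¹, (inferInstance : N'.Normal).conj_mem x x.2 g⟩ = (θ' : N' → ℂ) x :=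
    fun g x => congrFun g.2 (eqv x)
  have hcardN : Nat.card N' = Nat.card N := Nat.card_congr eqv.toEquiv
  have hidx : N'.index ∣ N.index := ⟨T.index, (Subgroup.relIndex_mul_index hNT).symm⟩
  have hcop' : N'.index.Coprime (Nat.card N') :=
    (hcardN.symm ▸ hcop.coprime_dvd_left hidx)
  obtain ⟨f, hf⟩ := Clifford.exists_detHom θ'.2
  have hfinv : ∀ (g : T) (x : N'), f ⟨g * x * g⁻¹, (inferInstance : N'.Normal).conj_mem x x.2 g⟩ = f x := by
    intro g x
    obtain ⟨m, σ, hσ, hσθ⟩ := θ'.2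
    let cg : N' →* N' := (MulAut.conjNormal g).toMonoidHom
    have hdc : ∀ y : N', LinearMap.det (σ y) = (f y : ℂ) := fun y => by
      have := congrFun hf y
      rw [← hσθ, Clifford.detChar_character σ ⟨m, σ, rfl⟩] at this
      exact this
    have hchar : Representation.character (σ.comp cg : Representation ℂ N' (Fin m → ℂ))
        = σ.character := by
      funext y
      show σ.character (cg y) = _
      rw [hσθ]
      exact hinv' g y
    haveI := hσ
    obtain ⟨e⟩ := Clifford.equiv_of_char_eq σ (σ.comp cg : Representation ℂ N' _) hchar.symm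
    apply Units.ext
    rw [← hdc, ← hdc, Clifford.det_equiv e x]
    rfl
  have hford : orderOf f ∣ Nat.card N' := orderOf_dvd_of_pow_eq_one (MonoidHom.ext fun y => by
    rw [MonoidHom.pow_apply, ← map_pow, pow_card_eq_one', map_one, MonoidHom.one_apply])
  obtain ⟨μ, hμ, hμord⟩ := Clifford.exists_linear_extension_coprime f hfinv
    (hcop'.coprime_dvd_right hford)
  have hdN' : d θ ∣ Nat.card N' := hcardN.symm ▸ hdvd θ
  obtain ⟨χ', hχ', hres, hdetχ⟩ := Clifford.exists_char_extension θ'.2 hinv'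
    (show (θ' : N' → ℂ) 1 = d θ by rw [hθ'val, map_one, hd]) (hcop'.coprime_dvd_right hdN') μ
    (fun y => by rw [hμ, hf])
  let χh : IrrCharacter T := ⟨χ', hχ'⟩
  have hdet : (detOrder (χh : T → ℂ)).Coprime N'.index := by
    show (orderOf (detChar χ')).Coprime _
    rw [hdetχ, Clifford.orderOf_hom_coe, hμord]
    exact (hcop'.coprime_dvd_right hford).symm
  have hgal : ∀ k : ℕ, k.Coprime (Nat.card H) → k ≡ 1 [MOD Nat.card N] →
      ∀ y : T, (χh : T → ℂ) (y ^ k) = (χh : T → ℂ) y := fun k hk hk1 y =>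
    Glauberman.canonical_pow (χ := θ') hcop' hres hdet
      (hk.coprime_dvd_right (Subgroup.card_subgroup_dvd_card T)) (hcardN.symm ▸ hk1) y
  set Φ := indFun T (χh : T → ℂ) with hΦ
  have hΦc : IsCharacter H Φ := Chars.isCharacter_indFun T (Chars.irr_isCharacter χh)
  have hΦgal : ∀ k : ℕ, k.Coprime (Nat.card H) → k ≡ 1 [MOD Nat.card N] →
      ∀ h : H, Φ (h ^ k) = Φ h := by
    intro k hk hk1 h
    simp only [hΦ, indFun]
    congr 1
    refine Finset.sum_congr rfl fun x _ => ?_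
    rw [show x⁻¹ * h ^ k * x = (x⁻¹ * h * x) ^ k by
      rw [show x⁻¹ * h * x = x⁻¹ * h * x⁻¹⁻¹ by rw [inv_inv], conj_pow, inv_inv]]
    by_cases hm : x⁻¹ * h * x ∈ T
    · rw [Chars.extendByZero_of_mem _ hm, Chars.extendByZero_of_mem _ (T.pow_mem hm k)]
      exact hgal k hk hk1 ⟨_, hm⟩
    · rw [Chars.extendByZero_of_not_mem _ hm, Chars.extendByZero_of_not_mem _ fun hk' => hm ?_]
      obtain ⟨j, hj⟩ := exists_pow_eq_self_of_coprime (x := x⁻¹ * h * x)
        (hk.coprime_dvd_right (orderOf_dvd_natCard _))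
      rw [← hj]
      exact T.pow_mem hk' j
  set O := Clifford.orbitFun (θ : N → ℂ) with hO
  have hΦres : ∀ x : N, Φ x = ∑ φ ∈ O, φ x := by
    intro x
    have hmem : ∀ y : H, y⁻¹ * x * y ∈ N := fun y => by
      simpa using (inferInstance : N.Normal).conj_mem (x : H) x.2 y⁻¹
    have h1 : Φ x = (Nat.card T : ℂ)⁻¹ * ∑ y : H, conjFun y⁻¹ (θ : N → ℂ) x := by
      simp only [hΦ, indFun]
      congr 1
      refine Finset.sum_congr rfl fun y _ => ?_
      rw [Chars.extendByZero_of_mem _ (hNT (hmem y))]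
      have := hres ⟨⟨y⁻¹ * x * y, hNT (hmem y)⟩, hmem y⟩
      refine this.trans ?_
      rw [hθ'val]
      show (θ : N → ℂ) _ = (θ : N → ℂ) _
      refine congrArg _ (Subtype.ext ?_)
      show y⁻¹ * (x : H) * y = y⁻¹ * (x : H) * y⁻¹⁻¹
      rw [inv_inv]
    rw [h1, Fintype.sum_equiv (Equiv.inv H) (fun y => conjFun y⁻¹ (θ : N → ℂ) x)
      (fun y => conjFun y (θ : N → ℂ) x) (fun y => rfl),
      ← Finset.sum_fiberwise_of_maps_to (t := O) (g := fun y : H => conjFun y (θ : N → ℂ))
        (fun y _ => Clifford.mem_orbitFun.2 ⟨y, rfl⟩), Finset.mul_sum]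
    refine Finset.sum_congr rfl fun φ hφ => ?_
    obtain ⟨y₀, rfl⟩ := Clifford.mem_orbitFun.1 hφ
    rw [Finset.sum_congr rfl (fun y hy => congrFun (Finset.mem_filter.1 hy).2 x), Finset.sum_const,
      nsmul_eq_mul, ← mul_assoc]
    have hcard : (Finset.univ.filter fun y : H =>
        conjFun y (θ : N → ℂ) = conjFun y₀ (θ : N → ℂ)).card = Nat.card T := by
      rw [← Fintype.card_subtype, ← Nat.card_eq_fintype_card]
      refine Nat.card_congr
        { toFun := fun y => ⟨y.1 * y₀⁻¹, ?_⟩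
          invFun := fun t => ⟨t.1 * y₀, ?_⟩
          left_inv := fun y => Subtype.ext (by simp)
          right_inv := fun t => Subtype.ext (by simp) }
      · show conjFun (y.1 * y₀⁻¹) (θ : N → ℂ) = θ
        rw [Clifford.conjFun_mul, y.2, ← Clifford.conjFun_mul, mul_inv_cancel, Clifford.conjFun_one]
      · show conjFun (t.1 * y₀) (θ : N → ℂ) = conjFun y₀ (θ : N → ℂ)
        rw [Clifford.conjFun_mul, show conjFun t.1 (θ : N → ℂ) = θ from t.2]
    rw [hcard, inv_mul_cancel₀ Chars.natCard_ne_zero, one_mul]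
  -- the remainder
  have hOirr : ∀ φ ∈ O, IsIrrCharacter N φ := by
    intro φ hφ
    obtain ⟨g, rfl⟩ := Clifford.mem_orbitFun.1 hφ
    exact Clifford.isIrrCharacter_conjFun g θ.2
  have hcO : ∀ φ (hφ : φ ∈ O), c ⟨φ, hOirr φ hφ⟩ = c θ := by
    intro φ hφ
    obtain ⟨g, hg⟩ := Clifford.mem_orbitFun.1 hφ
    have h1 : classInner ξ φ = (c ⟨φ, hOirr φ hφ⟩ : ℂ) := by
      conv_lhs => rw [hc]
      exact Chars.classInner_sum_smul_irr _ ⟨φ, hOirr φ hφ⟩
    have h2 : classInner ξ φ = (c θ : ℂ) := by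
      rw [← hg]
      conv_lhs => rw [← hinv g, Clifford.classInner_conjFun, hc]
      exact Chars.classInner_sum_smul_irr _ θ
    exact_mod_cast h1.symm.trans h2
  let c' : IrrCharacter N → ℕ := fun γ => if (γ : N → ℂ) ∈ O then 0 else c γ
  set ξ' : N → ℂ := ∑ γ, (c' γ : ℂ) • (γ : N → ℂ) with hξ'
  have hdec : ∀ x : N, ξ x = ξ' x + (c θ : ℂ) * ∑ φ ∈ O, φ x := by
    intro x
    rw [hc, hξ']
    simp only [Finset.sum_apply, Pi.smul_apply, smul_eq_mul]
    rw [Finset.mul_sum, ← Finset.sum_filter_add_sum_filter_not Finset.univ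
      (fun γ : IrrCharacter N => (γ : N → ℂ) ∈ O), add_comm]
    congr 1
    · rw [Finset.sum_filter]
      refine Finset.sum_congr rfl fun γ _ => ?_
      simp only [c']
      split_ifs <;> simp
    · refine Finset.sum_bij' (fun γ _ => (γ : N → ℂ)) (fun φ hφ => ⟨φ, hOirr φ hφ⟩)
        (fun γ hγ => (Finset.mem_filter.1 hγ).2)
        (fun φ hφ => Finset.mem_filter.2 ⟨Finset.mem_univ _, hφ⟩) (fun γ _ => rfl) (fun φ _ => rfl)
        (fun γ hγ => by rw [← hcO _ (Finset.mem_filter.1 hγ).2])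
  have hξ'c : IsCharacter N ξ' := Chars.isCharacter_sum_irr c'
  have hξ'inv : ∀ h : H, conjFun h ξ' = ξ' := by
    intro h
    funext x
    have h1 := congrFun (hinv h) x
    show ξ' ⟨h * x * h⁻¹, _⟩ = ξ' x
    have h2 : ξ ⟨h * x * h⁻¹, (inferInstance : N.Normal).conj_mem (x : H) x.2 h⟩ = ξ x := h1
    rw [hdec, hdec, ← hΦres, ← hΦres] at h2
    have h3 : Φ (h * x * h⁻¹) = Φ x := Chars.isClassFunction_indFun T _ (x : H) h
    rw [h3] at h2
    exact add_right_cancel h2
  choose D hD0 hD using fun γ : IrrCharacter N => Chars.isIrrCharacter_exists_degree_pos γ.2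
  have hn' : ξ' 1 = ((∑ γ, c' γ * D γ : ℕ) : ℂ) := by
    rw [hξ']; simp [hD]
  have hlt : ∑ γ, c' γ * D γ < n := by
    have h1 : ((∑ γ, c γ * D γ : ℕ) : ℂ) = (n : ℂ) := by rw [← hn, hc]; simp [hD]
    rw [← Nat.cast_inj.1 h1]
    refine Finset.sum_lt_sum (fun γ _ => Nat.mul_le_mul_right _ ?_) ⟨θ, Finset.mem_univ _, ?_⟩
    · simp only [c']; split_ifs
      · exact Nat.zero_le _
      · exact le_rfl
    · have : c' θ = 0 := if_pos (Clifford.mem_orbitFun.2 ⟨1, Clifford.conjFun_one _⟩)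
      rw [this, zero_mul]
      exact Nat.mul_pos (Nat.pos_of_ne_zero hθ) (hD0 θ)
  obtain ⟨Ψ', hΨ'c, hΨ'res, hΨ'gal⟩ := ih _ hlt ξ' hξ'c hξ'inv hn'
  refine ⟨Ψ' + ∑ _i ∈ Finset.range (c θ), Φ,
    Chars.isCharacter_add hΨ'c (Chars.isCharacter_sum _ fun _ _ => hΦc), fun x => ?_,
    fun k hk hk1 h => ?_⟩
  · simp only [Pi.add_apply, Finset.sum_apply, Finset.sum_const, Finset.card_range, nsmul_eq_mul,
      hΨ'res, hΦres]
    simp only [Pi.mul_apply, Pi.natCast_apply, hΦres]
    exact (hdec x).symm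
  · simp only [Pi.add_apply, Finset.sum_apply, hΨ'gal k hk hk1 h, hΦgal k hk hk1 h]

/-- The theorem. -/
theorem main {G : Type u} [Group G] [Finite G] {χ : G → ℂ} (hχ : IsCharacter G χ)
    (hfaith : ∀ g : G, χ g = χ 1 → g = 1) {n p : ℕ} (hn : χ 1 = n) (hp : p.Prime)
    (hsolv : IsPSolvable p G) :
    (pCore p G).index.factorization p ≤ ∑ i ∈ Finset.range (n + 1), n / ((p - 1) * p ^ i) := by
  haveI : Fact p.Prime := ⟨hp⟩
  haveI : Fintype G := Fintype.ofFinite G
  set K₀ := pCore p G with hK₀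
  haveI : K₀.Normal := haveI := PSolvable.pCore_characteristic (p := p) (G := G); inferInstance
  have hK₀p : IsPGroup p K₀ := PSolvable.pCore_isPGroup
  set f := QuotientGroup.mk' K₀
  set Mb := pPrimeCore p (G ⧸ K₀)
  haveI : Mb.Normal :=
    haveI := PSolvable.pPrimeCore_characteristic (p := p) (G := G ⧸ K₀); inferInstance
  have hMb : (Nat.card Mb).Coprime p := PSolvable.pPrimeCore_coprime
  set M := Mb.comap f with hM
  haveI : M.Normal := inferInstance
  have hKM : K₀ ≤ M := fun k hk => by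
    rw [hM, Subgroup.mem_comap, show f k = 1 from (QuotientGroup.eq_one_iff k).2 hk]
    exact one_mem _
  set KM := K₀.subgroupOf M with hKMdef
  have hKMidx : KM.index = Nat.card Mb := by
    let g : M →* Mb := f.subgroupComap Mb
    have hg : Function.Surjective g := fun r => by
      obtain ⟨z, hz⟩ := QuotientGroup.mk'_surjective K₀ r.1
      exact ⟨⟨z, by rw [hM, Subgroup.mem_comap, hz]; exact r.2⟩, Subtype.ext hz⟩
    have hk : g.ker = KM := by
      ext z
      rw [MonoidHom.mem_ker, hKMdef, Subgroup.mem_subgroupOf, ← QuotientGroup.eq_one_iff (N := K₀)]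
      exact Subtype.ext_iff
    rw [← hk, Subgroup.index_ker, MonoidHom.range_eq_top.2 hg, Subgroup.card_top]
  have hKMp : IsPGroup p KM := hK₀p.of_equiv (Subgroup.subgroupOfEquivOfLe hKM).symm
  obtain ⟨a, ha⟩ := hKMp.exists_card_eq
  have hcop : (Nat.card KM).Coprime KM.index := by rw [ha, hKMidx]; exact (hMb.symm).pow_left a
  have hsolvK : Group.IsSolvable KM := by
    haveI : Group.IsNilpotent KM := hKMp.isNilpotent
    infer_instance
  obtain ⟨L₀, hL₀⟩ := Subgroup.exists_right_complement'_of_coprime hcop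
  set L := L₀.map M.subtype with hL
  have hLcard : Nat.card L = Nat.card Mb := by
    rw [hL, Subgroup.card_map_of_injective M.subtype_injective, ← hKMidx, hL₀.symm.index_eq_card]
  have hLp : (Nat.card L).Coprime p := hLcard ▸ hMb
  -- the normalizer of L covers the quotient
  have hfrat : ∀ g : G, ∃ k ∈ K₀, k⁻¹ * g ∈ Subgroup.normalizer (L : Set G) := by
    intro g
    let α : M ≃* M := MulAut.conjNormal g
    have hc' : Subgroup.IsComplement' KM (L₀.map α.toMonoidHom) := by
      have h1 : Nat.card (L₀.map α.toMonoidHom) = KM.index := by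
        rw [hL₀.symm.index_eq_card]
        exact Nat.card_congr (L₀.equivMapOfInjective α.toMonoidHom α.injective).symm.toEquiv
      exact Subgroup.isComplement'_of_coprime (by rw [h1, KM.card_mul_index]) (h1 ▸ hcop)
    obtain ⟨k, hk, he⟩ := Coprime.exists_conj_eq_of_isComplement' hcop (Or.inl hsolvK) hL₀ hc'
    refine ⟨k, hk, ?_⟩
    haveI : Finite (L : Set G) := Subtype.finite
    refine Subgroup.mem_normalizer_fintype fun r hr => ?_
    obtain ⟨r, hr', rfl⟩ := hr
    have h2 : α r ∈ L₀.map (MulAut.conj k).toMonoidHom := he ▸ Subgroup.mem_map_of_mem _ hr'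
    obtain ⟨s, hs, hse⟩ := h2
    refine ⟨s, hs, ?_⟩
    have h3 : (k : G) * s * (k : G)⁻¹ = g * r * g⁻¹ := congrArg Subtype.val hse
    show (s : G) = (k : G)⁻¹ * g * (r : G) * ((k : G)⁻¹ * g)⁻¹
    rw [show (k : G)⁻¹ * g * (r : G) * ((k : G)⁻¹ * g)⁻¹ = (k : G)⁻¹ * (g * r * g⁻¹) * k by group,
      ← h3]
    group
  set NL := Subgroup.normalizer (L : Set G) with hNL
  let fN : NL →* G ⧸ K₀ := f.comp NL.subtype
  have hfN : Function.Surjective fN := by
    intro r
    obtain ⟨g, rfl⟩ := QuotientGroup.mk'_surjective K₀ r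
    obtain ⟨k, hk, hkg⟩ := hfrat g
    refine ⟨⟨_, hkg⟩, ?_⟩
    show f (k⁻¹ * g) = f g
    rw [map_mul, map_inv, show f k = 1 from (QuotientGroup.eq_one_iff k).2 hk, inv_one, one_mul]
  let S : Sylow p NL := default
  set Q := (S : Subgroup NL).map NL.subtype with hQ
  have hQp : IsPGroup p Q := S.2.map _
  have hQN : Q ≤ NL := Subgroup.map_subtype_le _
  have hQim : Nat.card (Q.map f) = p ^ (pCore p G).index.factorization p := by
    have h1 : ((S.mapSurjective hfN : Sylow p (G ⧸ K₀)) : Subgroup (G ⧸ K₀)) = Q.map f := by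
      rw [Sylow.coe_mapSurjective, hQ, Subgroup.map_map]
    rw [← h1, Sylow.card_eq_multiplicity]
    rfl
  have hQC : ∀ x ∈ Q, (∀ l ∈ L, x * l = l * x) → x ∈ K₀ := by
    intro x hx hxl
    have hcent : f x ∈ Subgroup.centralizer (Mb : Set (G ⧸ K₀)) := by
      refine Subgroup.mem_centralizer_iff.2 fun r hr => ?_
      obtain ⟨z, rfl⟩ := QuotientGroup.mk'_surjective K₀ r
      obtain ⟨⟨k, l⟩, hkl⟩ := hL₀.2 (⟨z, hr⟩ : M)
      have hz : z = ((k : M) : G) * ((l : M) : G) := (congrArg Subtype.val hkl).symm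
      rw [hz, map_mul, show f ((k : M) : G) = 1 from (QuotientGroup.eq_one_iff _).2 k.2, one_mul,
        ← map_mul, ← map_mul]
      exact congrArg f (hxl _ (Subgroup.mem_map_of_mem M.subtype l.2)).symm
    have hmem := PSolvable.centralizer_pPrimeCore_le_of_isPSolvable
      (PSolvable.isPSolvable_quotient hsolv K₀) PSolvable.pCore_quotient_eq_bot hcent
    obtain ⟨k, hk⟩ := hQp ⟨x, hx⟩
    refine (QuotientGroup.eq_one_iff x).1 (orderOf_eq_one_iff.1 ?_)
    refine Nat.eq_one_of_dvd_coprimes (hMb.symm.pow_left k) (orderOf_dvd_of_pow_eq_one ?_)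
      (Subgroup.orderOf_coe (⟨f x, hmem⟩ : Mb) ▸ orderOf_dvd_natCard _)
    show f x ^ p ^ k = 1
    rw [← map_pow, show x ^ p ^ k = 1 from congrArg Subtype.val hk, map_one]
  -- the group H
  set H := L ⊔ Q with hH
  have hHN : H ≤ NL := sup_le Subgroup.le_normalizer hQN
  set L' := L.subgroupOf H with hL'
  haveI : L'.Normal := Subgroup.normal_subgroupOf_of_le_normalizer hHN
  haveI : Fintype H := Fintype.ofFinite _
  haveI : Fintype L' := Fintype.ofFinite _
  have hL'card : Nat.card L' = Nat.card L :=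
    Nat.card_congr (Subgroup.subgroupOfEquivOfLe le_sup_left).toEquiv
  obtain ⟨b, hb⟩ := hQp.exists_card_eq
  have hidx : L'.index ∣ p ^ b := by
    rw [← hb]
    refine Subgroup.card_dvd_of_surjective
      ((QuotientGroup.mk' L').comp (Subgroup.inclusion (le_sup_right : Q ≤ H))) fun r => ?_
    obtain ⟨⟨h, hh⟩, rfl⟩ := QuotientGroup.mk'_surjective L' r
    have hh' : h ∈ ((L : Set G) * (Q : Set G)) := by
      rw [← Subgroup.coe_mul_of_right_le_normalizer_left L Q hQN]
      exact hh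
    obtain ⟨l, hl, q, hq, rfl⟩ := hh'
    refine ⟨⟨q, hq⟩, QuotientGroup.eq.2 ?_⟩
    rw [hL', Subgroup.mem_subgroupOf]
    have h5 := (Subgroup.mem_normalizer_iff.1 (NL.inv_mem (hQN hq)) l).1 hl
    simpa [mul_assoc] using h5
  have hcopH : L'.index.Coprime (Nat.card L') := by
    rw [hL'card]
    exact ((hLp.symm).pow_left b).coprime_dvd_left hidx
  let ξ : L' → ℂ := fun x => χ ((x : H) : G)
  have hξ : IsCharacter L' ξ := Chars.isCharacter_comp (H.subtype.comp L'.subtype) hχ
  have hξinv : ∀ h : H, conjFun h ξ = ξ := fun h => funext fun x =>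
    Chars.isClassFunction_of_isCharacter hχ ((x : H) : G) (h : G)
  obtain ⟨Ψ, hΨ, hΨres, hΨgal⟩ := exists_galois_extension L' hcopH n ξ hξ hξinv hn
  let ι : Q →* H := Subgroup.inclusion le_sup_right
  have hπ : IsCharacter Q (fun x => Ψ (ι x)) := Chars.isCharacter_comp ι hΨ
  have hΨ1 : Ψ 1 = n := by
    have := hΨres 1
    rw [OneMemClass.coe_one] at this
    rw [this]; exact hn
  have hHcard : Nat.card H = Nat.card L * L'.index := by rw [← hL'card, L'.card_mul_index]
  have hrat : ∀ x : Q, ∀ k : ℕ, ¬ p ∣ k → Ψ (ι (x ^ k)) = Ψ (ι x) := by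
    intro x k hk
    have hc1 : (p ^ b).Coprime (Nat.card L) := (hLp.symm).pow_left b
    obtain ⟨k', hk1, hk2⟩ : ∃ k', k' ≡ k [MOD p ^ b] ∧ k' ≡ 1 [MOD Nat.card L] :=
      ⟨_, (Nat.chineseRemainder hc1 k 1).2.1, (Nat.chineseRemainder hc1 k 1).2.2⟩
    have hxk : x ^ k = x ^ k' := pow_eq_pow_iff_modEq.2
      ((hk1.symm).of_dvd (hb ▸ orderOf_dvd_natCard x))
    rw [hxk, map_pow]
    refine hΨgal k' ?_ (hL'card.symm ▸ hk2) _
    rw [hHcard]
    refine Nat.Coprime.mul_right ?_ ?_
    · show Nat.gcd k' _ = 1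
      rw [hk2.gcd_eq, Nat.gcd_one_left]
    · refine Nat.Coprime.coprime_dvd_right hidx ?_
      show Nat.gcd k' _ = 1
      rw [hk1.gcd_eq]
      exact (((Nat.Prime.coprime_iff_not_dvd hp).2 hk).pow_left b).symm
  obtain ⟨m, ρ, hρ⟩ := id hΨ
  let Kπ : Subgroup Q := (MonoidHom.ker ρ).comap ι
  have hKπ : ∀ x : Q, x ∈ Kπ ↔ Ψ (ι x) = Ψ (ι 1) := fun x => by
    rw [Subgroup.mem_comap, MonoidHom.mem_ker, Chars.rep_eq_one_iff, hρ, map_one]
  have hker : ∀ x : Q, x ∈ Kπ → (x : G) ∈ K₀ := by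
    intro x hx
    refine hQC x x.2 fun l hl => commutatorElement_eq_one_iff_mul_comm.1 (hfaith _ ?_)
    have hxN := hQN x.2
    have hcL : (x : G) * l * (x : G)⁻¹ * l⁻¹ ∈ L :=
      L.mul_mem ((Subgroup.mem_normalizer_iff.1 hxN l).1 hl) (L.inv_mem hl)
    let lH : H := ⟨l, (le_sup_left : L ≤ H) hl⟩
    have h1 : ρ (ι x * lH * (ι x)⁻¹ * lH⁻¹) = 1 := by
      have hx1 : ρ (ι x) = 1 := hx
      have hx2 : ρ (ι x)⁻¹ = 1 := by
        have := map_mul ρ (ι x)⁻¹ (ι x)
        rw [inv_mul_cancel, map_one, hx1, mul_one] at this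
        exact this.symm
      rw [map_mul, map_mul, map_mul, hx1, hx2, one_mul, mul_one, ← map_mul, mul_inv_cancel, map_one]
    rw [Chars.rep_eq_one_iff, hρ, hΨ1] at h1
    have h2 := hΨres ⟨ι x * lH * (ι x)⁻¹ * lH⁻¹, hcL⟩
    rw [h1] at h2
    exact h2.symm.trans hn.symm
  haveI : Fintype Q := Fintype.ofFinite _
  refine le_trans ?_ (factorization_index_le hp hQp hπ
    (show Ψ (ι 1) = n by rw [map_one]; exact hΨ1) hrat Kπ hKπ)
  let fQ : Q →* G ⧸ K₀ := f.comp Q.subtype
  have hle : Kπ ≤ fQ.ker := fun x hx => (QuotientGroup.eq_one_iff (x : G)).2 (hker x hx)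
  have hrange : Nat.card fQ.range = p ^ (pCore p G).index.factorization p := by
    rw [← hQim, show fQ.range = Q.map f by
      rw [MonoidHom.range_comp, Subgroup.range_subtype]]
  have h1 : p ^ (pCore p G).index.factorization p ∣ Kπ.index :=
    hrange ▸ (Subgroup.index_ker fQ ▸ Subgroup.index_dvd_of_le hle)
  exact (hp.pow_dvd_iff_le_factorization Subgroup.index_ne_zero_of_finite).1 h1

end Cfsg.Agent.Lib.SmallDegree.SchurBound
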