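import Cfsg.Agent.Lib.SmallDegree.SylowNormal
import Cfsg.Agent.Lib.Supersolvable.Schmidt
import Mathlib

/-!
# Degrees of faithful characters of soluble groups with a non-normal Sylow subgroup

Such a degree is divisible by a prime power congruent to `-1`, `0` or `1` modulo `p`.
-/

set_option autoImplicit false

namespace Cfsg.Agent.Lib.SmallDegree.SolvPrimePower

open Cfsg
open Cfsg.Agent.Lib
open Cfsg.Agent.Lib.Clifford (conjFun resFun)
open Subgroup
open scoped ComplexConjugate Classical commutatorElement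

universe u

/-- The conclusion of the theorem. -/
def Good (n p : ℕ) : Prop :=
  ∃ q : ℕ, IsPrimePow q ∧ q ∣ n ∧
    ((q : ℤ) ≡ -1 [ZMOD p] ∨ (q : ℤ) ≡ 0 [ZMOD p] ∨ (q : ℤ) ≡ 1 [ZMOD p])

theorem good_of_dvd {d n p : ℕ} (h : d ∣ n) (hd : Good d p) : Good n p := by
  obtain ⟨q, h1, h2, h3⟩ := hd
  exact ⟨q, h1, h2.trans h, h3⟩

/-- If the product of two `p`-elements is a `p`-element then the Sylow subgroup is normal. -/
theorem sylow_normal_of_mul_closed {M : Type u} [Group M] [Finite M] {p : ℕ} [Fact p.Prime]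
    (h : ∀ x y : M, (∃ k : ℕ, x ^ p ^ k = 1) → (∃ k : ℕ, y ^ p ^ k = 1) →
      ∃ k : ℕ, (x * y) ^ p ^ k = 1)
    (P : Sylow p M) : (P : Subgroup M).Normal := by
  let S : Subgroup M :=
    { carrier := {x | ∃ k : ℕ, x ^ p ^ k = 1}
      one_mem' := ⟨0, one_pow _⟩
      mul_mem' := fun {a b} ha hb => h a b ha hb
      inv_mem' := fun {a} ⟨k, hk⟩ => ⟨k, by rw [inv_pow, hk, inv_one]⟩ }
  have hS : IsPGroup p S := fun x => by
    obtain ⟨k, hk⟩ := x.2
    exact ⟨k, Subtype.ext hk⟩
  have hPS : (P : Subgroup M) ≤ S := fun x hx => by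
    obtain ⟨k, hk⟩ := P.2 ⟨x, hx⟩
    exact ⟨k, congrArg Subtype.val hk⟩
  have hSn : S.Normal := ⟨fun x hx g => by
    obtain ⟨k, hk⟩ := hx
    exact ⟨k, by rw [conj_pow, hk, mul_one, mul_inv_cancel]⟩⟩
  rw [← P.3 hS hPS]
  exact hSn

/-- A constituent exists. -/
theorem exists_constituent {G : Type u} [Group G] [Fintype G] (N : Subgroup G) [Fintype N]
    {φ : G → ℂ} (hφ : IsCharacter G φ) (h1 : φ 1 ≠ 0) :
    ∃ θ : IrrCharacter N, classInner (resFun N φ) (θ : N → ℂ) ≠ 0 := by
  by_contra h
  push Not at h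
  have h2 := congrFun (Chars.isCharacter_eq_sum_classInner
    (Chars.isCharacter_restrict (H := N) hφ)) 1
  have h3 : ∀ l : IrrCharacter N, classInner (fun a : N => φ a) (l : N → ℂ) = 0 := h
  simp only [h3, zero_smul, Finset.sum_const_zero, Pi.zero_apply] at h2
  exact h1 (by simpa using h2)

/-- The stabiliser of a character of a normal subgroup. -/
def stab {G : Type u} [Group G] (N : Subgroup G) [N.Normal] (θ : N → ℂ) : Subgroup G where
  carrier := {g | conjFun g θ = θ}
  one_mem' := Clifford.conjFun_one _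
  mul_mem' := fun {a b} ha hb => by
    show conjFun (a * b) θ = θ
    rw [Clifford.conjFun_mul, ha, hb]
  inv_mem' := fun {a} ha => by
    show conjFun a⁻¹ θ = θ
    conv_lhs => rw [← ha, ← Clifford.conjFun_mul, mul_inv_cancel, Clifford.conjFun_one]

theorem mem_stab {G : Type u} [Group G] {N : Subgroup G} [N.Normal] {θ : N → ℂ} {g : G} :
    g ∈ stab N θ ↔ conjFun g θ = θ := Iff.rfl

theorem le_stab {G : Type u} [Group G] (N : Subgroup G) [N.Normal] (θ : IrrCharacter N) :
    N ≤ stab N (θ : N → ℂ) := fun k hk => funext fun n =>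
  Chars.irr_isClassFunction θ n ⟨k, hk⟩

/-- The degree formula over a constituent, in natural numbers. -/
theorem degree_eq {G : Type u} [Group G] [Fintype G] (N : Subgroup G) [N.Normal] [Fintype N]
    (φ : IrrCharacter G) {e : ℕ} (he : (φ : G → ℂ) 1 = e) (θ : IrrCharacter N)
    (hθ : classInner (resFun N (φ : G → ℂ)) (θ : N → ℂ) ≠ 0) :
    ∃ m t : ℕ, classInner (resFun N (φ : G → ℂ)) (θ : N → ℂ) = m ∧ (θ : N → ℂ) 1 = t ∧
      e = m * ((stab N (θ : N → ℂ)).index * t) := by
  obtain ⟨m, hm⟩ := Clifford.classInner_irr_nat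
    (Chars.isCharacter_restrict (H := N) (Chars.irr_isCharacter φ)) θ.2
  obtain ⟨t, -, ht⟩ := Chars.isIrrCharacter_exists_degree_pos θ.2
  refine ⟨m, t, hm, ht, ?_⟩
  have h1 := Clifford.apply_one_eq φ.2 θ.2 hθ (stab N (θ : N → ℂ)) fun g => Iff.rfl
  rw [show classInner (resFun N (φ : G → ℂ)) (θ : N → ℂ) = m from hm, he, ht] at h1
  exact_mod_cast h1

/-- A nontrivial normal subgroup with a non-normal Sylow subgroup gives the conclusion. -/
theorem good_of_normal {G : Type u} [Group G] [Finite G] {p : ℕ} [Fact p.Prime] {N : ℕ}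
    (ih : ∀ {G' : Type u} [Group G'] [Finite G'], Nat.card G' < N → Group.IsSolvable G' →
      ∀ χ : IrrCharacter G', (∀ g : G', (χ : G' → ℂ) g = (χ : G' → ℂ) 1 → g = 1) →
        ∀ n : ℕ, (χ : G' → ℂ) 1 = n → ∀ P : Sylow p G', ¬ (P : Subgroup G').Normal → Good n p)
    (hGN : Nat.card G ≤ N) (hsolv : Group.IsSolvable G) (χ : IrrCharacter G)
    (hfaith : ∀ g : G, (χ : G → ℂ) g = (χ : G → ℂ) 1 → g = 1) {n : ℕ} (hn : (χ : G → ℂ) 1 = n)
    (M : Subgroup G) [M.Normal] (hM : M ≠ ⊤) (P : Sylow p M) (hP : ¬ (P : Subgroup M).Normal) :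
    Good n p := by
  haveI : Fintype G := Fintype.ofFinite G
  haveI : Fintype M := Fintype.ofFinite M
  obtain ⟨m, hm⟩ := Chars.isCharacter_exists_nat_decomp
    (Chars.isCharacter_restrict (H := M) (Chars.irr_isCharacter χ))
  by_contra hbad
  refine hP (sylow_normal_of_mul_closed (fun x y hx hy => ?_) P)
  obtain ⟨a, ha⟩ : ∃ a, a = (Nat.card M).factorization p := ⟨_, rfl⟩
  refine ⟨a, hfaith _ ?_ |> fun h => Subtype.ext h⟩
  have h1 := congrFun hm ((x * y) ^ p ^ a)
  have h2 := congrFun hm 1
  show (χ : G → ℂ) (((x * y) ^ p ^ a : M) : G) = (χ : G → ℂ) 1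
  rw [show (1 : G) = ((1 : M) : G) from rfl]
  refine h1.trans (Eq.trans ?_ h2.symm)
  rw [Finset.sum_apply, Finset.sum_apply]
  refine Finset.sum_congr rfl fun θ _ => ?_
  by_cases h0 : m θ = 0
  · simp [h0]
  have hθ : classInner (resFun M (χ : G → ℂ)) (θ : M → ℂ) ≠ 0 := by
    show classInner (fun q : M => (χ : G → ℂ) q) (θ : M → ℂ) ≠ 0
    rw [hm, Chars.classInner_sum_smul_irr]
    exact_mod_cast h0
  obtain ⟨m', t, -, ht, hdeg⟩ := degree_eq M χ hn θ hθ
  set L := Codegree.kerIrr θ
  haveI : L.Normal := Codegree.kerIrr_normal θ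
  obtain ⟨θ', hθ'1, hθ'f⟩ := Codegree.exists_faithful_quotient θ L fun g => Codegree.mem_kerIrr θ
  -- the quotient has a normal Sylow subgroup
  have hQn : ∀ Q : Sylow p (M ⧸ L), (Q : Subgroup (M ⧸ L)).Normal := by
    intro Q
    by_contra hQ
    refine hbad (good_of_dvd (d := t) ⟨m' * (stab M (θ : M → ℂ)).index, by rw [hdeg]; ring⟩
      (ih (G' := M ⧸ L) ?_ inferInstance θ' hθ'f t (hθ'1.trans ht) Q hQ))
    refine lt_of_le_of_lt (Subgroup.card_quotient_dvd_card L |> Nat.le_of_dvd Nat.card_pos)
      (lt_of_lt_of_le ?_ hGN)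
    refine lt_of_le_of_ne (Nat.le_of_dvd Nat.card_pos (Subgroup.card_subgroup_dvd_card M)) fun h => ?_
    exact hM (Subgroup.eq_top_of_card_eq M h)
  let Q : Sylow p (M ⧸ L) := default
  have hQ := hQn Q
  have hmem : ∀ z : M, (∃ k : ℕ, z ^ p ^ k = 1) → (z : M ⧸ L) ∈ (Q : Subgroup (M ⧸ L)) := by
    rintro z ⟨k, hk⟩
    have hp' : IsPGroup p (zpowers (z : M ⧸ L)) := by
      intro r
      refine ⟨k, Subtype.ext ?_⟩
      obtain ⟨i, hi⟩ := mem_zpowers_iff.1 r.2
      rw [SubgroupClass.coe_pow, OneMemClass.coe_one, ← hi, ← zpow_natCast, zpow_comm,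
        zpow_natCast, ← QuotientGroup.mk_pow, hk, QuotientGroup.mk_one, one_zpow]
    obtain ⟨R, hR⟩ := hp'.exists_le_sylow
    haveI : Unique (Sylow p (M ⧸ L)) := Sylow.unique_of_normal Q hQ
    rw [show Q = R from Subsingleton.elim _ _]
    exact hR (mem_zpowers _)
  obtain ⟨k, hk⟩ := Q.2 ⟨_, Q.mul_mem (hmem x hx) (hmem y hy)⟩
  have hk' : ((x : M ⧸ L) * (y : M ⧸ L)) ^ p ^ k = 1 := congrArg Subtype.val hk
  rw [← QuotientGroup.mk_mul, ← QuotientGroup.mk_pow, QuotientGroup.eq_one_iff] at hk'
  have hdvd : orderOf ((x * y : M) : M ⧸ L) ∣ p ^ a := by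
    have h3 : orderOf ((x * y : M) : M ⧸ L) ∣ p ^ k :=
      orderOf_dvd_of_pow_eq_one (by rwa [← QuotientGroup.mk_pow, QuotientGroup.eq_one_iff])
    obtain ⟨i, -, hi⟩ := (Nat.dvd_prime_pow Fact.out).1 h3
    rw [hi, ha]
    refine pow_dvd_pow p (((Fact.out : p.Prime).pow_dvd_iff_le_factorization Nat.card_pos.ne').1 ?_)
    rw [← hi]
    exact (_root_.orderOf_dvd_natCard _).trans (Subgroup.card_quotient_dvd_card L)
  have h4 : ((x * y) ^ p ^ a : M) ∈ L := by
    rw [← QuotientGroup.eq_one_iff, QuotientGroup.mk_pow]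
    exact orderOf_dvd_iff_pow_eq_one.1 hdvd
  simp [(Codegree.mem_kerIrr θ).1 h4]

/-- Multiplicities over an invariant character: either fully ramified or multiplicity one. -/
theorem ramified_or_one {M : Type u} [Group M] [Fintype M] (E : Subgroup M) [E.Normal] [Fintype E]
    (hab : ∀ a b : M, a * b * a⁻¹ * b⁻¹ ∈ E) (ψ : IrrCharacter M) (θ : IrrCharacter E) {e : ℕ}
    (he : classInner (resFun E (ψ : M → ℂ)) (θ : E → ℂ) = e) (he0 : e ≠ 0)
    (hinv : ∀ g : M, conjFun g (θ : E → ℂ) = θ)
    (hdich : (∀ g : M, g ∉ E → (ψ : M → ℂ) g = 0) ∨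
      Subgroup.closure ((E : Set M) ∪ {g | (ψ : M → ℂ) g ≠ 0}) = ⊤) :
    (indFun E (θ : E → ℂ) = fun g => (e : ℂ) * (ψ : M → ℂ) g) ∨ e = 1 := by
  have hres : resFun E (ψ : M → ℂ) = (e : ℂ) • (θ : E → ℂ) := by
    rw [← he]
    exact Clifford.resFun_eq_smul_of_invariant ψ.2 θ.2 (he ▸ Nat.cast_ne_zero.2 he0) hinv
  have hψE : ∀ n : E, (ψ : M → ℂ) n = (e : ℂ) * (θ : E → ℂ) n := fun n => congrFun hres n
  rcases hdich with hvan | hgen
  · left
    have hindval : ∀ n : E, indFun E (θ : E → ℂ) n = (E.index : ℂ) * (θ : E → ℂ) n := by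
      intro n
      have h := congrFun (Clifford.resFun_indFun (N := E) (θ : E → ℂ)) n
      simp only [Clifford.resFun_apply] at h
      rw [h, Finset.sum_congr rfl fun x _ => hinv x, Finset.sum_const, Finset.card_univ,
        ← Nat.cast_smul_eq_nsmul ℂ, smul_smul, Pi.smul_apply, smul_eq_mul, Fintype.card_eq_nat_card,
        ← E.card_mul_index, Nat.cast_mul, inv_mul_cancel_left₀ Chars.natCard_ne_zero]
    have hsq : (E.index : ℂ) = (e : ℂ) ^ 2 := by
      have h := Chars.classInner_irr_self ψ
      rw [classInner, inv_mul_eq_one₀ Chars.natCard_ne_zero, ← E.card_mul_index, Nat.cast_mul] at h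
      have h2 : ∑ g : M, (ψ : M → ℂ) g * conj ((ψ : M → ℂ) g) = (Nat.card E : ℂ) * (e : ℂ) ^ 2 := by
        have h1 := Chars.classInner_irr_self θ
        rw [classInner, inv_mul_eq_one₀ Chars.natCard_ne_zero] at h1
        rw [h1, Finset.sum_mul]
        rw [← Finset.sum_subset (Finset.subset_univ
          ((Finset.univ : Finset E).map ⟨Subtype.val, Subtype.val_injective⟩)) (fun g _ hg => by
            rw [hvan g fun hgE => hg (Finset.mem_map.2 ⟨⟨g, hgE⟩, Finset.mem_univ _, rfl⟩),
              zero_mul]), Finset.sum_map]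
        refine Finset.sum_congr rfl fun n _ => ?_
        show (ψ : M → ℂ) n * conj ((ψ : M → ℂ) n) = _
        rw [hψE, map_mul, Complex.conj_natCast]
        ring
      rw [h2] at h
      exact mul_left_cancel₀ Chars.natCard_ne_zero h
    funext g
    by_cases hg : g ∈ E
    · rw [hindval ⟨g, hg⟩, hψE ⟨g, hg⟩, hsq]; ring
    · rw [hvan g hg, mul_zero]
      unfold Cfsg.indFun
      rw [Finset.sum_eq_zero, mul_zero]
      intro x _
      refine Chars.extendByZero_of_not_mem _ fun h => hg ?_
      have := (inferInstance : E.Normal).conj_mem _ h x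
      simpa [mul_assoc] using this
  · right
    -- twisting by the linear characters of the quotient
    haveI : IsMulCommutative (M ⧸ E) := ⟨⟨fun a b => by
      obtain ⟨a, rfl⟩ := QuotientGroup.mk_surjective a
      obtain ⟨b, rfl⟩ := QuotientGroup.mk_surjective b
      have h : ((a * b * a⁻¹ * b⁻¹ : M) : M ⧸ E) = 1 := (QuotientGroup.eq_one_iff _).2 (hab a b)
      rw [QuotientGroup.mk_mul, QuotientGroup.mk_mul, QuotientGroup.mk_mul, QuotientGroup.mk_inv,
        QuotientGroup.mk_inv] at h
      exact mul_inv_eq_iff_eq_mul.1 (mul_inv_eq_one.1 h)⟩⟩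
    haveI : Finite ((M ⧸ E) →* ℂˣ) := Finite.of_injective _ Chars.linIrr_injective
    haveI : Fintype ((M ⧸ E) →* ℂˣ) := Fintype.ofFinite _
    let tw : ((M ⧸ E) →* ℂˣ) → IrrCharacter M := fun l =>
      ⟨_, Chars.isIrrCharacter_hom_mul (l.comp (QuotientGroup.mk' E)) ψ.2⟩
    have htwval : ∀ l g, (tw l : M → ℂ) g = (l (g : M ⧸ E) : ℂ) * (ψ : M → ℂ) g := fun l g => rfl
    have hinj : Function.Injective tw := by
      intro l l' h
      have hle : (⊤ : Subgroup M) ≤
          (l.comp (QuotientGroup.mk' E)).eqLocus (l'.comp (QuotientGroup.mk' E)) := by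
        rw [← hgen, Subgroup.closure_le]
        rintro g (hg | hg)
        · show l (g : M ⧸ E) = l' (g : M ⧸ E)
          rw [(QuotientGroup.eq_one_iff g).2 hg, map_one, map_one]
        · show l (g : M ⧸ E) = l' (g : M ⧸ E)
          have h1 := congrFun (congrArg Subtype.val h) g
          rw [htwval, htwval] at h1
          exact Units.ext (mul_right_cancel₀ hg h1)
      refine MonoidHom.ext fun r => ?_
      obtain ⟨g, rfl⟩ := QuotientGroup.mk_surjective r
      exact hle (Subgroup.mem_top g)
    obtain ⟨r, hr⟩ := Chars.isCharacter_exists_nat_decomp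
      (Chars.isCharacter_indFun E (Chars.irr_isCharacter θ))
    have hrval : ∀ l, r (tw l) = e := by
      intro l
      have h1 : classInner (indFun E (θ : E → ℂ)) (tw l : M → ℂ) = (r (tw l) : ℂ) := by
        rw [hr, Chars.classInner_sum_smul_irr]
      have h2 : (fun n : E => (tw l : M → ℂ) n) = resFun E (ψ : M → ℂ) := funext fun n => by
        rw [htwval, (QuotientGroup.eq_one_iff (n : M)).2 n.2, map_one, Units.val_one, one_mul]
        rfl
      rw [Chars.classInner_indFun_left E _ _ (Chars.irr_isClassFunction (tw l)), h2,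
        ← Chars.conj_classInner, he, Complex.conj_natCast] at h1
      exact_mod_cast h1.symm
    have hnorm := Clifford.classInner_indFun_invariant θ.2 hinv
    have hnorm2 : classInner (indFun E (θ : E → ℂ)) (indFun E (θ : E → ℂ))
        = ((∑ γ, r γ ^ 2 : ℕ) : ℂ) := by
      conv_lhs => arg 1; rw [hr]
      rw [Chars.classInner_sum_left]
      push_cast
      refine Finset.sum_congr rfl fun γ _ => ?_
      rw [Chars.classInner_smul_left, hr, ← Chars.conj_classInner,
        Chars.classInner_sum_smul_irr, Complex.conj_natCast, sq]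
    rw [hnorm, Nat.cast_inj] at hnorm2
    have hcardl : Fintype.card ((M ⧸ E) →* ℂˣ) = E.index := by
      rw [← Nat.card_eq_fintype_card, Chars.card_monoidHom_units, _root_.commutator_def,
        (commutator_eq_bot_iff_le_centralizer (H₁ := (⊤ : Subgroup (M ⧸ E))) (H₂ := ⊤)).2
          (fun a _ => Subgroup.mem_centralizer_iff.2 fun b _ => mul_comm' b a), Subgroup.index_bot]
      rfl
    have hle2 : E.index * e ^ 2 ≤ E.index := by
      conv_rhs => rw [hnorm2]
      refine le_of_eq_of_le ?_ (Finset.sum_le_sum_of_subset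
        (Finset.subset_univ (Finset.univ.image tw)))
      rw [Finset.sum_image fun a _ b _ h => hinj h, Finset.sum_congr rfl fun l _ => by rw [hrval],
        Finset.sum_const, Finset.card_univ, hcardl, smul_eq_mul]
    have h1 : e ^ 2 ≤ 1 := Nat.le_of_mul_le_mul_left (by rw [mul_one]; exact hle2)
      (Nat.pos_of_ne_zero Subgroup.index_ne_zero_of_finite)
    nlinarith [Nat.pos_of_ne_zero he0]

/-- The case of an irreducible restriction to a normal subgroup `E` with `[G, E] ⊆ O`. -/
theorem false_of_central_layer {G : Type u} [Group G] [Fintype G] {p : ℕ} [Fact p.Prime]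
    (χ : IrrCharacter G) (hfaith : ∀ g : G, (χ : G → ℂ) g = (χ : G → ℂ) 1 → g = 1)
    {n : ℕ} (hn : (χ : G → ℂ) 1 = n) (hn1 : n ≠ 1) (hpn : ¬ p ∣ n) (O E : Subgroup G) [O.Normal]
    [E.Normal] (hOE : O ≤ E) (hO : IsPGroup p O) (hOidx : ¬ p ∣ (O.subgroupOf E).index)
    (hGE : ∀ g : G, ∀ a ∈ E, g * a * g⁻¹ * a⁻¹ ∈ O)
    (hirr : IsIrrCharacter E (fun a : E => (χ : G → ℂ) a))
    (hsyl : ∀ T : Subgroup G, T.Normal → T ≠ ⊤ → ¬ p ∣ T.index → False) : False := by
  haveI : Fintype E := Fintype.ofFinite E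
  haveI : Fintype O := Fintype.ofFinite O
  let ψ : IrrCharacter E := ⟨_, hirr⟩
  obtain ⟨lam, hlam⟩ := exists_constituent O (Chars.irr_isCharacter χ)
    (by rw [hn]; intro h; exact Chars.irr_apply_one_ne_zero χ (hn.trans h))
  obtain ⟨m, t, hm, ht, hdeg⟩ := degree_eq O χ hn lam hlam
  -- the stabiliser is normal
  set T := stab O (lam : O → ℂ) with hT
  have hOT : O ≤ T := le_stab O lam
  set O' := O.subgroupOf E
  haveI : Fintype O' := Fintype.ofFinite _
  let eqv := (Subgroup.subgroupOfEquivOfLe hOE)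
  let lam' : IrrCharacter O' :=
    ⟨_, Chars.isIrrCharacter_comp_surjective eqv.toMonoidHom eqv.surjective lam.2⟩
  have htrans : ∀ φ : O → ℂ, classInner (resFun O' (ψ : E → ℂ)) (fun r : O' => φ (eqv r))
      = classInner (resFun O (χ : G → ℂ)) φ := by
    intro φ
    unfold classInner
    rw [Nat.card_congr eqv.toEquiv]
    congr 1
    exact Fintype.sum_equiv eqv.toEquiv _ _ fun r => rfl
  have horbit : ∀ g : G, ∃ a ∈ E, conjFun g (lam : O → ℂ) = conjFun a (lam : O → ℂ) := by
    intro g
    let φ : IrrCharacter O := ⟨_, Clifford.isIrrCharacter_conjFun g lam.2⟩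
    have hφ : classInner (resFun O (χ : G → ℂ)) (φ : O → ℂ) ≠ 0 := by
      show classInner (resFun O (χ : G → ℂ)) (conjFun g (lam : O → ℂ)) ≠ 0
      rw [Clifford.classInner_resFun_conjFun (Chars.irr_isClassFunction χ)]
      exact hlam
    let φ' : IrrCharacter O' :=
      ⟨_, Chars.isIrrCharacter_comp_surjective eqv.toMonoidHom eqv.surjective φ.2⟩
    obtain ⟨a, ha⟩ := Clifford.exists_conjFun_eq_of_constituent (N := O') ψ.2 lam'.2 φ'.2
      (by rw [show (lam' : O' → ℂ) = fun r => (lam : O → ℂ) (eqv r) from rfl, htrans]; exact hlam)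
      (by rw [show (φ' : O' → ℂ) = fun r => (φ : O → ℂ) (eqv r) from rfl, htrans]; exact hφ)
    refine ⟨a, a.2, funext fun o => ?_⟩
    have h1 := congrFun ha (eqv.symm o)
    have h2 : eqv (eqv.symm o) = o := eqv.apply_symm_apply o
    show (φ : O → ℂ) o = _
    rw [← h2]
    exact h1.symm
  have hconjE : ∀ a ∈ E, ∀ h ∈ T, a * h * a⁻¹ ∈ T := by
    intro a ha h hh
    have h1 : a * h * a⁻¹ = (h * a * h⁻¹ * a⁻¹)⁻¹ * h := by group
    rw [h1]
    exact T.mul_mem (T.inv_mem (hOT (hGE h a ha))) hh
  have hTn : T.Normal := ⟨fun h hh g => by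
    obtain ⟨a, ha, hga⟩ := horbit g⁻¹
    -- a * g fixes the constituent
    have hd : g⁻¹ * a⁻¹ ∈ T := by
      rw [hT, mem_stab, Clifford.conjFun_mul, hga, ← Clifford.conjFun_mul, mul_inv_cancel,
        Clifford.conjFun_one]
    rw [show g * h * g⁻¹ = a⁻¹ * ((g⁻¹ * a⁻¹)⁻¹ * h * (g⁻¹ * a⁻¹)) * a⁻¹⁻¹ by group]
    exact hconjE _ (E.inv_mem ha) _ (T.mul_mem (T.mul_mem (T.inv_mem hd) hh) hd)⟩
  by_cases hTtop : T = ⊤
  · -- then E is abelian
    have hinv : ∀ g : G, conjFun g (lam : O → ℂ) = lam := fun g =>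
      (hTtop ▸ Subgroup.mem_top g : g ∈ T)
    have hres := Clifford.resFun_eq_smul_of_invariant χ.2 lam.2 hlam hinv
    -- the degree of lam is one
    have ht1 : t = 1 := by
      obtain ⟨d, -, hd, hdvd⟩ := Chars.irr_degree_dvd_card lam
      rw [ht, Nat.cast_inj] at hd
      obtain ⟨j, hj⟩ := hO.exists_card_eq
      obtain ⟨i, -, hi⟩ := (Nat.dvd_prime_pow Fact.out).1 (hj ▸ hd ▸ hdvd)
      rcases Nat.eq_zero_or_pos i with rfl | hi0
      · simpa using hi
      · exact absurd ((dvd_pow_self p hi0.ne').trans (hi ▸ (⟨m * T.index, by rw [hdeg]; ring⟩ : t ∣ n)))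
          hpn
    obtain ⟨f, hf⟩ := Chars.exists_hom_of_degree_one (Chars.irr_isCharacter lam)
      (by rw [ht, ht1, Nat.cast_one])
    have hcen : ∀ o ∈ O, ∀ g : G, g * o = o * g := by
      intro o ho g
      refine commutatorElement_eq_one_iff_mul_comm.1 (hfaith _ ?_)
      have hm1 : g * o * g⁻¹ ∈ O := (inferInstance : O.Normal).conj_mem o ho g
      have h1 := congrFun hres (⟨g * o * g⁻¹, hm1⟩ * ⟨o, ho⟩⁻¹)
      have h2 := congrFun hres 1
      rw [show ⁅g, o⁆ = ((⟨g * o * g⁻¹, hm1⟩ * ⟨o, ho⟩⁻¹ : O) : G) from rfl,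
        show (1 : G) = ((1 : O) : G) from rfl]
      refine h1.trans (Eq.trans ?_ h2.symm)
      have h3 : (lam : O → ℂ) ⟨g * o * g⁻¹, hm1⟩ = (lam : O → ℂ) ⟨o, ho⟩ :=
        congrFun (hinv g) ⟨o, ho⟩
      simp only [hf] at h3
      simp only [Pi.smul_apply, smul_eq_mul, hf, map_mul, map_inv, Units.ext h3, mul_inv_cancel,
        map_one]
    -- commutators vanish
    have habel : ∀ a ∈ E, ∀ b ∈ E, a * b = b * a := by
      intro a ha b hb
      have hc : a * b * a⁻¹ * b⁻¹ ∈ O := hGE a b hb
      set c := a * b * a⁻¹ * b⁻¹ with hcdef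
      have hck : ∀ k : ℕ, a ^ k * b * (a ^ k)⁻¹ = c ^ k * b := by
        intro k
        induction k with
        | zero => simp
        | succ k ih =>
          have : a * (c ^ k * b) * a⁻¹ = c ^ k * (a * b * a⁻¹) := by
            have e1 := hcen (c ^ k) (O.pow_mem hc k) a
            rw [← mul_assoc a, e1]; group
          rw [pow_succ', mul_inv_rev, show a * a ^ k * b * ((a ^ k)⁻¹ * a⁻¹)
            = a * (a ^ k * b * (a ^ k)⁻¹) * a⁻¹ by group, ih, this,
            show a * b * a⁻¹ = c * b by rw [hcdef]; group, ← mul_assoc, ← pow_succ, pow_succ']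
      haveI : O'.Normal := inferInstance
      have hak : a ^ O'.index ∈ O := by
        have h := Subgroup.pow_index_mem O' (⟨a, ha⟩ : E)
        simpa [O', Subgroup.mem_subgroupOf] using h
      have h1 := hck O'.index
      rw [← hcen _ hak b, mul_inv_cancel_right] at h1
      have h2 : c ^ O'.index = 1 := mul_eq_right.1 h1.symm
      obtain ⟨j, hj⟩ := hO ⟨c, hc⟩
      have h3 : c = 1 := by
        refine orderOf_eq_one_iff.1 (Nat.eq_one_of_dvd_coprimes
          ((((Fact.out : p.Prime).coprime_iff_not_dvd).2 hOidx).pow_left j)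
          (orderOf_dvd_of_pow_eq_one (congrArg Subtype.val hj)) (orderOf_dvd_of_pow_eq_one h2))
      exact commutatorElement_eq_one_iff_mul_comm.1 h3
    haveI : IsMulCommutative E := ⟨⟨fun a b => Subtype.ext (habel a a.2 b b.2)⟩⟩
    have h := Chars.irr_apply_one_of_comm ψ
    rw [show (ψ : E → ℂ) 1 = (χ : G → ℂ) 1 from rfl, hn, Nat.cast_eq_one] at h
    exact hn1 h
  · exact hsyl T hTn hTtop fun h => hpn (h.trans ⟨m * t, by rw [hdeg]; ring⟩)

/-- The theorem. -/
theorem main {p : ℕ} (hp : p.Prime) : ∀ (N : ℕ) {G : Type u} [Group G] [Finite G],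
    Nat.card G ≤ N → Group.IsSolvable G → ∀ χ : IrrCharacter G,
    (∀ g : G, (χ : G → ℂ) g = (χ : G → ℂ) 1 → g = 1) → ∀ n : ℕ, (χ : G → ℂ) 1 = n →
    ∀ P : Sylow p G, ¬ (P : Subgroup G).Normal → Good n p := by
  haveI : Fact p.Prime := ⟨hp⟩
  intro N
  induction N using Nat.strong_induction_on with
  | _ N IH => ?_
  intro G _ _ hGN hsolv χ hfaith n hn P hP
  have ih : ∀ {G' : Type u} [Group G'] [Finite G'], Nat.card G' < N → Group.IsSolvable G' →
      ∀ χ : IrrCharacter G', (∀ g : G', (χ : G' → ℂ) g = (χ : G' → ℂ) 1 → g = 1) →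
        ∀ n : ℕ, (χ : G' → ℂ) 1 = n → ∀ P : Sylow p G', ¬ (P : Subgroup G').Normal → Good n p :=
    fun {G'} _ _ h => IH (Nat.card G') h le_rfl
  haveI : Fintype G := Fintype.ofFinite G
  by_cases hpn : p ∣ n
  · exact ⟨p, hp.isPrimePow, hpn, Or.inr (Or.inl (Int.modEq_zero_iff_dvd.2 dvd_rfl))⟩
  by_contra hbad
  -- proper normal subgroups have normal Sylow subgroups
  have hnorm : ∀ M : Subgroup G, M.Normal → M ≠ ⊤ → ∀ Q : Sylow p M, (Q : Subgroup M).Normal := by
    intro M hMn hM Q
    by_contra hQ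
    exact hbad (good_of_normal ih hGN hsolv χ hfaith hn M hM Q hQ)
  have hsyl : ∀ T : Subgroup G, T.Normal → T ≠ ⊤ → ¬ p ∣ T.index → False := by
    intro T hTn hT hidx
    refine hP ?_
    let Q : Sylow p T := default
    have hQ := hnorm T hTn hT Q
    haveI hQc : (Q : Subgroup T).Characteristic := Sylow.characteristic_of_normal Q hQ
    have hn' : ((Q : Subgroup T).map T.subtype).Normal := inferInstance
    have hle : (Q : Subgroup T).map T.subtype = (P : Subgroup G) := by
      have hcard : Nat.card ((Q : Subgroup T).map T.subtype) = Nat.card (P : Subgroup G) := by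
        rw [Subgroup.card_map_of_injective T.subtype_injective, Q.card_eq_multiplicity,
          P.card_eq_multiplicity, ← T.card_mul_index, Nat.factorization_mul Nat.card_pos.ne'
            Subgroup.index_ne_zero_of_finite, Finsupp.add_apply,
          Nat.factorization_eq_zero_of_not_dvd hidx, add_zero]
      exact Subgroup.eq_of_le_of_card_ge (IsPGroup.le_sylow_of_normal (Q.2.map _) P) hcard.ge
    exact hle ▸ hn'
  -- a normal subgroup of index p
  haveI := hsolv
  have hn1 : n ≠ 1 := by
    intro h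
    haveI : IsMulCommutative G := ⟨⟨fun a b => by
      obtain ⟨f, hf⟩ := Chars.exists_hom_of_degree_one (Chars.irr_isCharacter χ)
        (by rw [hn, h, Nat.cast_one])
      refine commutatorElement_eq_one_iff_mul_comm.1 (hfaith _ ?_)
      simp [hf, commutatorElement_def, mul_comm (f a) (f b)]⟩⟩
    exact hP inferInstance
  haveI : Nontrivial G := by
    rcases subsingleton_or_nontrivial G with hs | hs
    · exact absurd (Subsingleton.elim (P : Subgroup G) ⊥ ▸ inferInstance) hP
    · exact hs
  obtain ⟨M, hMn, hMidx⟩ := Supersolvable.exists_normal_prime_index G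
  haveI := hMn
  have hMtop : M ≠ ⊤ := fun h => by
    rw [h, Subgroup.index_top] at hMidx; exact Nat.not_prime_one hMidx
  have hMp : M.index = p := by
    by_contra h
    exact hsyl M hMn hMtop fun hd => h ((Nat.prime_dvd_prime_iff_eq hp hMidx).1 hd).symm
  haveI : Fintype M := Fintype.ofFinite M
  -- O is the Sylow subgroup of M
  let S : Sylow p M := default
  haveI hSn := hnorm M hMn hMtop S
  haveI hSc : (S : Subgroup M).Characteristic := Sylow.characteristic_of_normal S hSn
  set O := (S : Subgroup M).map M.subtype with hO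
  haveI hOn : O.Normal := inferInstance
  have hOM : O ≤ M := map_subtype_le _
  have hOp : IsPGroup p O := S.2.map _
  have hOne : O ≠ M := by
    intro h
    suffices hcard : Nat.card (P : Subgroup G) = Nat.card G by
      exact hP (by rw [Subgroup.eq_top_of_card_eq _ hcard]; infer_instance)
    have h1 : IsPGroup p G := by
      obtain ⟨j, hj⟩ := hOp.exists_card_eq
      exact IsPGroup.of_card (n := j + 1) (by rw [← M.card_mul_index, hMp, ← h, hj, pow_succ])
    obtain ⟨j, hj⟩ := h1.exists_card_eq
    rw [P.card_eq_multiplicity, hj, hp.factorization_pow, Finsupp.single_eq_same]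
  -- E is maximal
  obtain ⟨E, ⟨hEn, hOE, hEM, hEne⟩, hEmax⟩ := (Set.toFinite
    {E : Subgroup G | E.Normal ∧ O ≤ E ∧ E ≤ M ∧ E ≠ M}).exists_maximal ⟨O, hOn, le_rfl, hOM, hOne⟩
  haveI := hEn
  have hbetween : ∀ R : Subgroup G, R.Normal → E ≤ R → R ≤ M → R = E ∨ R = M := by
    intro R hRn hER hRM
    by_cases h : R = M
    · exact Or.inr h
    · exact Or.inl (le_antisymm (hEmax ⟨hRn, hOE.trans hER, hRM, h⟩ hER) hER)
  haveI : Fintype E := Fintype.ofFinite E
  set π := QuotientGroup.mk' E
  -- M/E is abelian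
  have hMab : ∀ a ∈ M, ∀ b ∈ M, a * b * a⁻¹ * b⁻¹ ∈ E := by
    have hlt : (M.map π) ≠ ⊥ := by
      rw [ne_eq, Subgroup.map_eq_bot_iff, QuotientGroup.ker_mk']
      exact fun h => hEne (le_antisymm hEM h)
    have h1 : ⁅M, M⁆ ⊔ E ≤ M := sup_le (Subgroup.commutator_le_right M M) hEM
    rcases hbetween _ (inferInstance) le_sup_right h1 with h | h
    · intro a ha b hb
      exact (le_sup_left.trans h.le) (Subgroup.commutator_mem_commutator ha hb)
    · exfalso
      have h2 : ⁅M.map π, M.map π⁆ = M.map π := by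
        rw [← Subgroup.map_commutator]
        conv_rhs => rw [← h, Subgroup.map_sup,
          show E.map π = ⊥ from (Subgroup.map_eq_bot_iff _).2 (QuotientGroup.ker_mk' E).ge,
          sup_bot_eq]
      haveI : Group.IsSolvable (G ⧸ E) := inferInstance
      exact (Group.IsSolvable.commutator_lt_of_ne_bot hlt).ne h2
  -- no element outside M fixes a coset
  have hfpf : ∀ x : G, x ∉ M → ∀ g : G, g ∈ M → x * g * x⁻¹ * g⁻¹ ∈ E → g ∈ E := by
    intro x hx g hg hxg
    let R : Subgroup G := M ⊓ (centralizer ({(x : G ⧸ E)} : Set (G ⧸ E))).comap π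
    have hRmem : ∀ a, a ∈ R ↔ a ∈ M ∧ x * a * x⁻¹ * a⁻¹ ∈ E := by
      intro a
      rw [mem_inf, mem_comap, mem_centralizer_singleton_iff, ← QuotientGroup.eq_one_iff (N := E),
        QuotientGroup.mk_mul, QuotientGroup.mk_mul, QuotientGroup.mk_mul, QuotientGroup.mk_inv,
        QuotientGroup.mk_inv, mul_inv_eq_one, mul_inv_eq_iff_eq_mul]
      exact and_congr_right fun _ => eq_comm
    have hER : E ≤ R := fun a ha => (hRmem a).2
      ⟨hEM ha, E.mul_mem (hEn.conj_mem a ha x) (E.inv_mem ha)⟩
    have hgenM : ∀ R' : Subgroup G, M ≤ R' → x ∈ R' → R' = ⊤ := by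
      intro R' h1 h2
      rcases hp.eq_one_or_self_of_dvd _ (hMp ▸ Subgroup.index_dvd_of_le h1) with h | h
      · exact Subgroup.index_eq_one.1 h
      · exfalso
        have : M = R' := Subgroup.eq_of_le_of_card_ge h1 (le_of_eq (by
          have e1 := R'.card_mul_index
          rw [h] at e1
          have e2 := M.card_mul_index
          rw [hMp] at e2
          exact Nat.eq_of_mul_eq_mul_right hp.pos (e1.trans e2.symm)))
        exact hx (this ▸ h2)
    have hRn : R.Normal := by
      rw [← Subgroup.normalizer_eq_top_iff]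
      refine hgenM _ (fun a ha => ?_) ?_
      · refine Subgroup.mem_normalizer_fintype fun r hr => ?_
        have hrM := ((hRmem r).1 hr).1
        have hr' : a * r * a⁻¹ * r⁻¹ ∈ E := hMab a ha r hrM
        have : a * r * a⁻¹ = (a * r * a⁻¹ * r⁻¹) * r := by group
        show a * r * a⁻¹ ∈ R
        rw [this]
        exact R.mul_mem (hER hr') hr
      · refine Subgroup.mem_normalizer_fintype fun r hr => ?_
        obtain ⟨hrM, hrE⟩ := (hRmem r).1 hr
        show x * r * x⁻¹ ∈ R
        rw [show x * r * x⁻¹ = (x * r * x⁻¹ * r⁻¹) * r by group]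
        exact R.mul_mem (hER hrE) hr
    rcases hbetween R hRn hER inf_le_left with h | h
    · exact h ▸ (hRmem g).2 ⟨hg, hxg⟩
    · exfalso
      -- G/E is abelian
      have hGab : ∀ a b : G, a * b * a⁻¹ * b⁻¹ ∈ E := by
        intro a b
        have hc : ∀ c ∈ M, ∀ d : G, (c : G ⧸ E) * (d : G ⧸ E) = (d : G ⧸ E) * c := by
          intro c hc d
          have hd : (centralizer ({(c : G ⧸ E)} : Set (G ⧸ E))).comap π = ⊤ := by
            refine hgenM _ (fun m hm => ?_) ?_
            · rw [mem_comap, mem_centralizer_singleton_iff]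
              have h1 : ((m * c * m⁻¹ * c⁻¹ : G) : G ⧸ E) = 1 :=
                (QuotientGroup.eq_one_iff _).2 (hMab m hm c hc)
              rw [QuotientGroup.mk_mul, QuotientGroup.mk_mul, QuotientGroup.mk_mul,
                QuotientGroup.mk_inv, QuotientGroup.mk_inv, mul_inv_eq_one,
                mul_inv_eq_iff_eq_mul] at h1
              exact h1
            · rw [mem_comap, mem_centralizer_singleton_iff]
              have hcR : c ∈ R := h.symm ▸ hc
              have := (mem_centralizer_singleton_iff.1 (mem_comap.1 (mem_inf.1 hcR).2))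
              exact this.symm
          exact (mem_centralizer_singleton_iff.1 (mem_comap.1 (hd.symm ▸ mem_top d))).symm
        have hd : ∀ d : G, (centralizer ({(d : G ⧸ E)} : Set (G ⧸ E))).comap π = ⊤ ∨ d ∈ M := by
          intro d
          by_cases hd : d ∈ M
          · exact Or.inr hd
          left
          rcases hp.eq_one_or_self_of_dvd _ (hMp ▸ Subgroup.index_dvd_of_le
            (fun m hm => mem_comap.2 (mem_centralizer_singleton_iff.2 (hc m hm d)) :
              M ≤ (centralizer ({(d : G ⧸ E)} : Set (G ⧸ E))).comap π)) with h' | h'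
          · exact Subgroup.index_eq_one.1 h'
          · exfalso
            refine hd ?_
            have : M = (centralizer ({(d : G ⧸ E)} : Set (G ⧸ E))).comap π :=
              Subgroup.eq_of_le_of_card_ge (fun m hm => mem_comap.2 (mem_centralizer_singleton_iff.2 (hc m hm d)))
              (le_of_eq (by
                have e1 := ((centralizer ({(d : G ⧸ E)} : Set (G ⧸ E))).comap π).card_mul_index
                rw [h'] at e1
                have e2 := M.card_mul_index
                rw [hMp] at e2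
                exact Nat.eq_of_mul_eq_mul_right hp.pos (e1.trans e2.symm)))
            rw [this]
            exact mem_comap.2 (mem_centralizer_singleton_iff.2 rfl)
        rw [← QuotientGroup.eq_one_iff, QuotientGroup.mk_mul, QuotientGroup.mk_mul,
          QuotientGroup.mk_mul, QuotientGroup.mk_inv, QuotientGroup.mk_inv, mul_inv_eq_one,
          mul_inv_eq_iff_eq_mul]
        rcases hd b with hb | hb
        · exact mem_centralizer_singleton_iff.1 (mem_comap.1 (hb.symm ▸ mem_top a))
        · exact (hc b hb a).symm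
      have hT : (E ⊔ (P : Subgroup G)).Normal := by
        refine ⟨fun t ht d => ?_⟩
        rw [show d * t * d⁻¹ = (d * t * d⁻¹ * t⁻¹) * t by group]
        exact (E ⊔ (P : Subgroup G)).mul_mem ((le_sup_left : E ≤ E ⊔ (P : Subgroup G)) (hGab d t)) ht
      refine hsyl _ hT (fun htop => hEne ?_)
        (fun hd => P.not_dvd_index (hd.trans (Subgroup.index_dvd_of_le le_sup_right)))
      refine le_antisymm hEM fun a ha => ?_
      -- the image of a is a p-element and a p'-element
      have h1 : (a : G ⧸ E) ∈ (P : Subgroup G).map π := by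
        have : (E ⊔ (P : Subgroup G)).map π = (P : Subgroup G).map π := by
          rw [Subgroup.map_sup, show E.map π = ⊥ from
            (Subgroup.map_eq_bot_iff _).2 (QuotientGroup.ker_mk' E).ge, bot_sup_eq]
        rw [← this, htop]
        exact ⟨a, mem_top a, rfl⟩
      obtain ⟨k, hk⟩ := (P.2.map π) ⟨_, h1⟩
      have hk' : (a : G ⧸ E) ^ p ^ k = 1 := congrArg Subtype.val hk
      rw [← QuotientGroup.eq_one_iff]
      refine orderOf_eq_one_iff.1 (Nat.eq_one_of_dvd_coprimes
        ((((Nat.Prime.coprime_iff_not_dvd hp).2 S.not_dvd_index)).pow_left k)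
        (orderOf_dvd_of_pow_eq_one hk') ?_)
      have hpow : a ^ (S : Subgroup M).index ∈ O :=
        ⟨_, Subgroup.pow_index_mem (S : Subgroup M) (⟨a, ha⟩ : M), by simp⟩
      exact orderOf_dvd_of_pow_eq_one (by
        rw [← QuotientGroup.mk_pow, QuotientGroup.eq_one_iff]; exact hOE hpow)
  -- ψ
  let ψ : IrrCharacter M := ⟨_, SylowNormal.restrict_irr_of_prime_index hp M hMp χ hn hpn⟩
  set E' := E.subgroupOf M with hE'
  haveI : Fintype E' := Fintype.ofFinite _
  obtain ⟨θ, hθ⟩ := exists_constituent E' (Chars.irr_isCharacter ψ) (Chars.irr_apply_one_ne_zero ψ)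
  obtain ⟨e, t0, he, ht0, hdeg⟩ := degree_eq E' ψ (show (ψ : M → ℂ) 1 = n from hn) θ hθ
  have hMab' : ∀ a b : M, a * b * a⁻¹ * b⁻¹ ∈ E' := fun a b => hMab a a.2 b b.2
  -- the order of M/E
  have hidxne : E'.index ≠ 1 := fun h => hEne (le_antisymm hEM fun a ha =>
    Subgroup.mem_subgroupOf.1 ((Subgroup.index_eq_one.1 h).symm ▸ mem_top (⟨a, ha⟩ : M)))
  have hpidx : ¬ p ∣ E'.index := fun h => S.not_dvd_index (h.trans (Subgroup.index_dvd_of_le
    (fun a ha => hOE ⟨a, ha, rfl⟩)))
  obtain ⟨q, hq, j, hj⟩ : ∃ q, q.Prime ∧ ∃ j, E'.index = q ^ j := by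
    obtain ⟨q, hq, hqd⟩ := Nat.exists_prime_and_dvd hidxne
    refine ⟨q, hq, ?_⟩
    haveI : Fact q.Prime := ⟨hq⟩
    haveI : IsMulCommutative (M ⧸ E') := ⟨⟨fun a b => by
      obtain ⟨a, rfl⟩ := QuotientGroup.mk_surjective a
      obtain ⟨b, rfl⟩ := QuotientGroup.mk_surjective b
      refine commutatorElement_eq_one_iff_mul_comm.1 ?_
      exact (QuotientGroup.eq_one_iff _).2 (hMab' a b)⟩⟩
    let Q : Sylow q (M ⧸ E') := default
    haveI : (Q : Subgroup (M ⧸ E')).Characteristic := Sylow.characteristic_of_normal Q inferInstance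
    set R := ((Q : Subgroup (M ⧸ E')).comap (QuotientGroup.mk' E')).map M.subtype with hR
    have hRn : R.Normal := by
      refine ⟨fun r hr g => ?_⟩
      obtain ⟨r', hr', rfl⟩ := hr
      let α : M ≃* M := MulAut.conjNormal g
      let β : (M ⧸ E') ≃* (M ⧸ E') := QuotientGroup.congr E' E' α (by
        ext z
        constructor
        · rintro ⟨w, hw, rfl⟩
          exact Subgroup.mem_subgroupOf.2 (by
            simpa [α] using hEn.conj_mem _ (Subgroup.mem_subgroupOf.1 hw) g)
        · intro hz
          exact ⟨α.symm z, Subgroup.mem_subgroupOf.2 (by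
            simpa [α] using hEn.conj_mem _ (Subgroup.mem_subgroupOf.1 hz) g⁻¹), by simp⟩)
      refine ⟨α r', ?_, by simp [α]⟩
      show ((α r' : M) : M ⧸ E') ∈ (Q : Subgroup (M ⧸ E'))
      have h1 : (Q : Subgroup (M ⧸ E')).comap β.toMonoidHom = (Q : Subgroup (M ⧸ E')) :=
        Subgroup.Characteristic.fixed inferInstance β
      have h2 : (r' : M ⧸ E') ∈ (Q : Subgroup (M ⧸ E')).comap β.toMonoidHom := by rw [h1]; exact hr'
      exact h2
    have hER : E ≤ R := fun a ha => ⟨⟨a, hEM ha⟩, by
      rw [SetLike.mem_coe, mem_comap, QuotientGroup.mk'_apply,(QuotientGroup.eq_one_iff _).2 (Subgroup.mem_subgroupOf.2 ha)]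
      exact one_mem _, rfl⟩
    rcases hbetween R hRn hER (map_subtype_le _) with h | h
    · exfalso
      obtain ⟨z, hz⟩ : ∃ z : (Q : Subgroup (M ⧸ E')), orderOf z = q :=
        exists_prime_orderOf_dvd_card' q (Q.dvd_card_of_dvd_card hqd)
      obtain ⟨w, hw⟩ := QuotientGroup.mk'_surjective E' (z : M ⧸ E')
      have hwR : (w : G) ∈ R := ⟨w, by rw [SetLike.mem_coe, mem_comap, hw]; exact z.2, rfl⟩
      rw [h] at hwR
      have : (z : M ⧸ E') = 1 := by
        rw [← hw]; exact (QuotientGroup.eq_one_iff w).2 (Subgroup.mem_subgroupOf.2 hwR)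
      rw [show z = 1 from Subtype.ext this, orderOf_one] at hz
      exact hq.ne_one hz.symm
    · have htop : (Q : Subgroup (M ⧸ E')) = ⊤ := by
        rw [eq_top_iff]
        intro r _
        obtain ⟨w, rfl⟩ := QuotientGroup.mk'_surjective E' r
        obtain ⟨w', hw', he'⟩ := h.ge w.2
        rw [show w = w' from Subtype.ext he'.symm]
        exact hw'
      obtain ⟨j, hj⟩ := Q.2.exists_card_eq
      refine ⟨j, ?_⟩
      rw [← hj, htop, Subgroup.card_top]; rfl
  haveI : Fact q.Prime := ⟨hq⟩
  have hj0 : j ≠ 0 := fun h => hidxne (by rw [hj, h, pow_zero])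
  obtain ⟨y, hyM⟩ : ∃ y : G, y ∉ M := by
    by_contra h
    push Not at h
    exact hMtop (eq_top_iff.2 fun g _ => h g)
  -- the stabiliser
  set T := stab E' (θ : E' → ℂ) with hT
  have hET : E' ≤ T := le_stab E' θ
  have hTn : (T.map M.subtype).Normal := by
    refine ⟨fun r hr g => ?_⟩
    obtain ⟨h, hh, rfl⟩ := hr
    refine ⟨MulAut.conjNormal g h, ?_, by simp⟩
    -- the conjugate constituent
    let α : M ≃* M := MulAut.conjNormal g
    have hαE : ∀ z : M, z ∈ E' ↔ α z ∈ E' := fun z => by
      rw [hE', Subgroup.mem_subgroupOf, Subgroup.mem_subgroupOf]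
      refine ⟨fun hz => by simpa [α] using hEn.conj_mem _ hz g, fun hz => ?_⟩
      simpa [α, mul_assoc] using hEn.conj_mem _ hz g⁻¹
    let αE : E' ≃* E' :=
      { α.toEquiv.subtypeEquiv hαE with map_mul' := fun a b => Subtype.ext (map_mul α (a : M) (b : M)) }
    let φ : IrrCharacter E' :=
      ⟨_, Chars.isIrrCharacter_comp_surjective αE.toMonoidHom αE.surjective θ.2⟩
    have hφ : classInner (resFun E' (ψ : M → ℂ)) (φ : E' → ℂ) ≠ 0 := by
      have : classInner (resFun E' (ψ : M → ℂ)) (φ : E' → ℂ)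
          = classInner (resFun E' (ψ : M → ℂ)) (θ : E' → ℂ) := by
        unfold classInner
        congr 1
        refine Fintype.sum_equiv αE.toEquiv _ _ fun z => ?_
        congr 1
        show (χ : G → ℂ) ((z : M) : G) = (χ : G → ℂ) (((α z : M)) : G)
        rw [show (((α z : M)) : G) = g * ((z : M) : G) * g⁻¹ by simp [α],
          Chars.irr_isClassFunction χ]
      rw [this]; exact hθ
    obtain ⟨m, hm⟩ := Clifford.exists_conjFun_eq_of_constituent (N := E') ψ.2 θ.2 φ.2 hθ hφ
    -- h fixes φ
    have hfix : conjFun h (φ : E' → ℂ) = φ := by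
      have hmh : m * h * m⁻¹ ∈ T := by
        rw [show m * h * m⁻¹ = (m * h * m⁻¹ * h⁻¹) * h by group]
        exact T.mul_mem (hET (hMab' m h)) hh
      rw [← hm, ← Clifford.conjFun_mul, show m * h = (m * h * m⁻¹) * m by group,
        Clifford.conjFun_mul, mem_stab.1 hmh]
    rw [SetLike.mem_coe, hT, mem_stab]
    funext z
    have h1 := congrFun hfix (αE.symm z)
    show (θ : E' → ℂ) _ = (θ : E' → ℂ) z
    have h2 : (φ : E' → ℂ) (αE.symm z) = (θ : E' → ℂ) z := by
      show (θ : E' → ℂ) (αE (αE.symm z)) = _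
      rw [αE.apply_symm_apply]
    rw [← h2, ← h1]
    show (θ : E' → ℂ) _ = (θ : E' → ℂ) (αE ⟨h * (αE.symm z : M) * h⁻¹, _⟩)
    refine congrArg _ (Subtype.ext ?_)
    show α h * (z : M) * (α h)⁻¹ = α (h * (αE.symm z : M) * h⁻¹)
    rw [map_mul, map_mul, map_inv]
    congr 2
    exact (congrArg Subtype.val (αE.apply_symm_apply z)).symm
  have hETmap : E ≤ T.map M.subtype := fun a ha =>
    ⟨⟨a, hEM ha⟩, hET (Subgroup.mem_subgroupOf.2 ha), rfl⟩
  rcases hbetween _ hTn hETmap (map_subtype_le _) with h | h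
  · -- the orbit case
    have hTE : T = E' := le_antisymm
      (fun w hw => Subgroup.mem_subgroupOf.2 (h ▸ ⟨w, hw, rfl⟩)) hET
    refine hbad ⟨q ^ j, (IsPrimePow.pow hq.isPrimePow hj0), ?_, Or.inr (Or.inr ?_)⟩
    · rw [← hj, hdeg, hTE]
      exact Dvd.dvd.mul_left (Dvd.intro _ rfl) _
    -- y has no fixed point on nontrivial cosets
    let α : M ≃* M := MulAut.conjNormal y
    have hαE : E'.map α.toMonoidHom = E' := by
      ext z
      constructor
      · rintro ⟨w, hw, rfl⟩
        exact Subgroup.mem_subgroupOf.2 (by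
          simpa [α] using hEn.conj_mem _ (Subgroup.mem_subgroupOf.1 hw) y)
      · intro hz
        exact ⟨α.symm z, Subgroup.mem_subgroupOf.2 (by
          simpa [α] using hEn.conj_mem _ (Subgroup.mem_subgroupOf.1 hz) y⁻¹), by simp⟩
    let β : (M ⧸ E') ≃* (M ⧸ E') := QuotientGroup.congr E' E' α hαE
    haveI : Fintype (M ⧸ E') := Fintype.ofFinite _
    let σ : Equiv.Perm {r : M ⧸ E' // r ≠ 1} :=
      β.toEquiv.subtypeEquiv fun r => (EmbeddingLike.map_eq_one_iff (f := β)).not.symm
    have hiter : ∀ (k : ℕ) (w : M) (hw : (w : M ⧸ E') ≠ 1),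
        (((σ ^ k) ⟨(w : M ⧸ E'), hw⟩ : {r : M ⧸ E' // r ≠ 1}) : M ⧸ E')
          = ((MulAut.conjNormal (y ^ k) w : M) : M ⧸ E') := by
      intro k
      induction k with
      | zero => intro w hw; simp
      | succ k ih' =>
        intro w hw
        rw [pow_succ', Equiv.Perm.mul_apply]
        show β _ = _
        rw [ih' w hw]
        show ((α (MulAut.conjNormal (y ^ k) w) : M) : M ⧸ E') = _
        rw [show y ^ (k + 1) = y * y ^ k from pow_succ' y k, map_mul]
        rfl
    have hσp : σ ^ p ^ 1 = 1 := by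
      refine Equiv.ext fun r => ?_
      obtain ⟨⟨r, hr⟩⟩ : Nonempty {r' : {r : M ⧸ E' // r ≠ 1} // r' = r} := ⟨⟨r, rfl⟩⟩
      subst hr
      obtain ⟨w, hw⟩ := r
      obtain ⟨w, rfl⟩ := QuotientGroup.mk_surjective w
      apply Subtype.ext
      rw [hiter, pow_one]
      show ((MulAut.conjNormal (y ^ p) w : M) : M ⧸ E') = (w : M ⧸ E')
      refine (QuotientGroup.eq_iff_div_mem).2 (Subgroup.mem_subgroupOf.2 ?_)
      have hyp : y ^ p ∈ M := hMp ▸ Subgroup.pow_index_mem M y
      simpa [div_eq_mul_inv, -map_pow] using hMab _ hyp _ w.2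
    have hdvd : p ∣ Fintype.card {r : M ⧸ E' // r ≠ 1} := by
      by_contra hnd
      obtain ⟨⟨r, hr⟩, hfix⟩ := Equiv.Perm.exists_fixed_point_of_prime hnd hσp
      obtain ⟨w, rfl⟩ := QuotientGroup.mk_surjective r
      have h1 := congrArg Subtype.val hfix
      have h2 : ((α w : M) : M ⧸ E') = (w : M ⧸ E') := h1
      rw [QuotientGroup.eq_iff_div_mem, hE', Subgroup.mem_subgroupOf] at h2
      refine hr ((QuotientGroup.eq_one_iff w).2 (Subgroup.mem_subgroupOf.2
        (hfpf y hyM w w.2 ?_)))
      simpa [α, div_eq_mul_inv] using h2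
    rw [Fintype.card_subtype_compl, Fintype.card_subtype_eq, ← Nat.card_eq_fintype_card,
      show Nat.card (M ⧸ E') = q ^ j from hj] at hdvd
    have h1 : 1 ≤ q ^ j := Nat.one_le_pow _ _ hq.pos
    exact (Int.modEq_iff_dvd.2 (by
      have : ((p : ℕ) : ℤ) ∣ ((q ^ j - 1 : ℕ) : ℤ) := Int.natCast_dvd_natCast.2 hdvd
      rw [Nat.cast_sub h1, Nat.cast_one] at this
      exact dvd_neg.1 (by simpa using this))).symm.symm
  · -- invariant constituent
    have hTtop : T = ⊤ := eq_top_iff.2 fun w _ => by
      obtain ⟨w', hw', hww⟩ := h.ge w.2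
      rw [show w = w' from Subtype.ext hww.symm]
      exact hw'
    have hinv : ∀ g : M, conjFun g (θ : E' → ℂ) = θ := fun g => (hTtop ▸ mem_top g : g ∈ T)
    have he0 : e ≠ 0 := fun h0 => hθ (by rw [he, h0, Nat.cast_zero])
    rw [hTtop, Subgroup.index_top, one_mul] at hdeg
    have hdich : (∀ g : M, g ∉ E' → (ψ : M → ℂ) g = 0) ∨
        Subgroup.closure ((E' : Set M) ∪ {g | (ψ : M → ℂ) g ≠ 0}) = ⊤ := by
      set K := Subgroup.closure ((E : Set G) ∪ {g | g ∈ M ∧ (χ : G → ℂ) g ≠ 0}) with hK
      have hKn : K.Normal := by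
        refine ⟨fun k hk d => ?_⟩
        have hle : K ≤ K.comap (MulAut.conj d).toMonoidHom := by
          rw [hK, Subgroup.closure_le]
          rintro a (ha | ⟨haM, ha⟩)
          · exact Subgroup.subset_closure (Or.inl (hEn.conj_mem a ha d))
          · exact Subgroup.subset_closure (Or.inr ⟨hMn.conj_mem a haM d, by
              show (χ : G → ℂ) (d * a * d⁻¹) ≠ 0
              rwa [Chars.irr_isClassFunction χ a d]⟩)
        exact hle hk
      have hKM : K ≤ M := by
        rw [hK, Subgroup.closure_le]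
        rintro a (ha | ⟨haM, -⟩)
        · exact hEM ha
        · exact haM
      rcases hbetween K hKn (fun a ha => Subgroup.subset_closure (Or.inl ha)) hKM with h' | h'
      · left
        intro g hg
        by_contra hne
        exact hg (Subgroup.mem_subgroupOf.2
          (h' ▸ Subgroup.subset_closure (Or.inr ⟨g.2, hne⟩) : (g : G) ∈ E))
      · right
        apply Subgroup.map_injective M.subtype_injective
        rw [MonoidHom.map_closure, ← MonoidHom.range_eq_map, Subgroup.range_subtype]
        refine Eq.trans (congrArg Subgroup.closure ?_) h'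
        ext a
        constructor
        · rintro ⟨w, hw | hw, rfl⟩
          · exact Or.inl (Subgroup.mem_subgroupOf.1 hw)
          · exact Or.inr ⟨w.2, hw⟩
        · rintro (ha | ⟨haM, ha⟩)
          · exact ⟨⟨a, hEM ha⟩, Or.inl (Subgroup.mem_subgroupOf.2 ha), rfl⟩
          · exact ⟨⟨a, haM⟩, Or.inr ha, rfl⟩
    rcases ramified_or_one E' hMab' ψ θ he he0 hinv hdich with hram | he1
    · -- fully ramified
      let eqv := Subgroup.subgroupOfEquivOfLe hEM
      let θE : IrrCharacter E :=
        ⟨_, Chars.isIrrCharacter_comp_surjective eqv.symm.toMonoidHom eqv.symm.surjective θ.2⟩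
      have hinvG : ∀ x : G, conjFun x (θE : E → ℂ) = θE := by
        -- θ is the only constituent
        intro x
        funext a
        have hres := Clifford.resFun_eq_smul_of_invariant ψ.2 θ.2 hθ hinv
        rw [he] at hres
        refine mul_left_cancel₀ (Nat.cast_ne_zero.2 he0) ?_
        have h1 : ∀ b : E, (e : ℂ) * (θE : E → ℂ) b = (χ : G → ℂ) b := fun b =>
          (congrFun hres (eqv.symm b)).symm
        show (e : ℂ) * (θE : E → ℂ) ⟨x * a * x⁻¹, _⟩ = _
        rw [h1, h1]
        exact Chars.irr_isClassFunction χ (a : G) x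
      have hmain := FullyRamified.Frobenius.index_dvd M E hEM hMtop
        (isCyclic_of_prime_card (p := p) hMp) hfpf θE hinvG ψ e (by
          refine Eq.trans ?_ hram
          congr 1)
      rw [hMp] at hmain
      have hen : e ∣ n := ⟨t0, by rw [hdeg]⟩
      have hidxe : E'.index = e ^ 2 := by
        have h1 := Clifford.classInner_indFun_invariant θ.2 hinv
        rw [hram, show (fun g => (e : ℂ) * (ψ : M → ℂ) g) = (e : ℂ) • (ψ : M → ℂ) from rfl,
          Chars.classInner_smul_left, Chars.classInner_smul_right, Chars.classInner_irr_self,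
          Complex.conj_natCast, mul_one] at h1
        have : ((e ^ 2 : ℕ) : ℂ) = (E'.index : ℂ) := by rw [← h1]; push_cast; ring
        exact_mod_cast this.symm
      obtain ⟨i, -, hi⟩ := (Nat.dvd_prime_pow hq).1
        ((dvd_pow_self e two_ne_zero).trans (dvd_of_eq (hidxe ▸ hj : e ^ 2 = q ^ j)))
      have hi0 : i ≠ 0 := fun h0 => hidxne (by rw [hidxe, hi, h0, pow_zero, one_pow])
      refine hbad ⟨e, hi ▸ IsPrimePow.pow hq.isPrimePow hi0, hen, ?_⟩
      rcases hmain with h' | h'
      · exact Or.inr (Or.inr (Int.modEq_iff_dvd.2 (dvd_neg.1 (by simpa using h'))))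
      · exact Or.inl (Int.modEq_iff_dvd.2 (dvd_neg.1 (by
          simpa [sub_eq_add_neg, add_comm] using h')))
    · -- irreducible on E
      have hirr : IsIrrCharacter E (fun a : E => (χ : G → ℂ) a) := by
        let eqv := Subgroup.subgroupOfEquivOfLe hEM
        have hres := Clifford.resFun_eq_smul_of_invariant ψ.2 θ.2 hθ hinv
        rw [he, he1, Nat.cast_one, one_smul] at hres
        have h1 : (fun a : E => (χ : G → ℂ) a) = fun a => (θ : E' → ℂ) (eqv.symm a) :=
          funext fun a => congrFun hres (eqv.symm a)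
        rw [h1]
        exact Chars.isIrrCharacter_comp_surjective eqv.symm.toMonoidHom eqv.symm.surjective θ.2
      set H := E ⊔ (P : Subgroup G) with hH
      have hOEidx : ¬ p ∣ (O.subgroupOf E).index := by
        intro hd
        refine S.not_dvd_index (hd.trans ?_)
        rw [show (S : Subgroup M).index = O.relIndex M by
          rw [hO, Subgroup.relIndex]
          congr 1
          exact (Subgroup.comap_map_eq_self_of_injective M.subtype_injective _).symm]
        exact ⟨E.relIndex M, (Subgroup.relIndex_mul_relIndex O E M hOE hEM).symm⟩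
      by_cases hHn : ((P.subtype le_sup_right : Sylow p H) : Subgroup H).Normal
      · -- P centralises E modulo O
        have hPE : ∀ g ∈ (P : Subgroup G), ∀ a ∈ E, g * a * g⁻¹ * a⁻¹ ∈ O := by
          intro g hg a ha
          have haH : a ∈ H := (le_sup_left : E ≤ H) ha
          have hgH : g ∈ H := (le_sup_right : (P : Subgroup G) ≤ H) hg
          have h1 : a * g⁻¹ * a⁻¹ ∈ (P : Subgroup G) :=
            hHn.conj_mem ⟨g⁻¹, H.inv_mem hgH⟩ (show (g⁻¹ : G) ∈ _ from (P : Subgroup G).inv_mem hg)
              ⟨a, haH⟩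
          have h2 : g * a * g⁻¹ * a⁻¹ ∈ (P : Subgroup G) := by
            rw [show g * a * g⁻¹ * a⁻¹ = g * (a * g⁻¹ * a⁻¹) by group]
            exact (P : Subgroup G).mul_mem hg h1
          have h3 : g * a * g⁻¹ * a⁻¹ ∈ E := E.mul_mem (hEn.conj_mem a ha g) (E.inv_mem ha)
          obtain ⟨k, hk⟩ := P.2 ⟨_, h2⟩
          let z : M := ⟨g * a * g⁻¹ * a⁻¹, hEM h3⟩
          have hz : IsPGroup p (zpowers z) := fun r => ⟨k, Subtype.ext (by
            obtain ⟨i, hi⟩ := mem_zpowers_iff.1 r.2
            rw [SubgroupClass.coe_pow, OneMemClass.coe_one, ← hi, ← zpow_natCast, zpow_comm,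
              zpow_natCast, show z ^ p ^ k = 1 from Subtype.ext (congrArg Subtype.val hk :),
              one_zpow])⟩
          obtain ⟨R, hR⟩ := hz.exists_le_sylow
          haveI : Unique (Sylow p M) := Sylow.unique_of_normal S hSn
          exact ⟨z, (show R = S from Subsingleton.elim _ _) ▸ hR (mem_zpowers z), rfl⟩
        let C : Subgroup G :=
          (centralizer (E.map (QuotientGroup.mk' O) : Set (G ⧸ O))).comap (QuotientGroup.mk' O)
        haveI : (E.map (QuotientGroup.mk' O)).Normal :=
          Subgroup.Normal.map hEn _ (QuotientGroup.mk'_surjective O)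
        have hCmem : ∀ g, g ∈ C ↔ ∀ a ∈ E, g * a * g⁻¹ * a⁻¹ ∈ O := by
          intro g
          rw [mem_comap, mem_centralizer_iff]
          constructor
          · intro h1 a ha
            rw [← QuotientGroup.eq_one_iff, QuotientGroup.mk_mul, QuotientGroup.mk_mul,
              QuotientGroup.mk_mul, QuotientGroup.mk_inv, QuotientGroup.mk_inv, mul_inv_eq_one,
              mul_inv_eq_iff_eq_mul]
            exact (h1 _ (mem_map_of_mem _ ha)).symm
          · rintro h1 r ⟨a, ha, rfl⟩
            have := h1 a ha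
            rw [← QuotientGroup.eq_one_iff, QuotientGroup.mk_mul, QuotientGroup.mk_mul,
              QuotientGroup.mk_mul, QuotientGroup.mk_inv, QuotientGroup.mk_inv, mul_inv_eq_one,
              mul_inv_eq_iff_eq_mul] at this
            exact this.symm
        have hCtop : C = ⊤ := by
          by_contra hC
          exact hsyl C inferInstance hC fun hd => P.not_dvd_index (hd.trans
            (Subgroup.index_dvd_of_le fun g hg => (hCmem g).2 (hPE g hg)))
        exact false_of_central_layer χ hfaith hn hn1 hpn O E hOE hOp hOEidx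
          (fun g a ha => (hCmem g).1 (hCtop ▸ mem_top g) a ha) hirr hsyl
      · -- induction on H
        have hHtop : H ≠ ⊤ := by
          intro htop
          refine hEne (le_antisymm hEM fun a ha => ?_)
          have h1 : (a : G ⧸ E) ∈ (P : Subgroup G).map π := by
            have : H.map π = (P : Subgroup G).map π := by
              rw [hH, Subgroup.map_sup, show E.map π = ⊥ from
                (Subgroup.map_eq_bot_iff _).2 (QuotientGroup.ker_mk' E).ge, bot_sup_eq]
            rw [← this, htop]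
            exact ⟨a, mem_top a, rfl⟩
          obtain ⟨k, hk⟩ := (P.2.map π) ⟨_, h1⟩
          have hk' : (a : G ⧸ E) ^ p ^ k = 1 := congrArg Subtype.val hk
          rw [← QuotientGroup.eq_one_iff]
          refine orderOf_eq_one_iff.1 (Nat.eq_one_of_dvd_coprimes
            ((((Nat.Prime.coprime_iff_not_dvd hp).2 S.not_dvd_index)).pow_left k)
            (orderOf_dvd_of_pow_eq_one hk') ?_)
          have hpow : a ^ (S : Subgroup M).index ∈ O :=
            ⟨_, Subgroup.pow_index_mem (S : Subgroup M) (⟨a, ha⟩ : M), by simp⟩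
          exact orderOf_dvd_of_pow_eq_one (by
            rw [← QuotientGroup.mk_pow, QuotientGroup.eq_one_iff]; exact hOE hpow)
        haveI : Fintype H := Fintype.ofFinite _
        obtain ⟨d, hd0, hd⟩ := Chars.isIrrCharacter_exists_degree_pos χ.2
        -- χ restricted to H is irreducible
        obtain ⟨r, hr⟩ := Chars.isCharacter_exists_nat_decomp
          (Chars.isCharacter_restrict (H := H) (Chars.irr_isCharacter χ))
        obtain ⟨φ, hφ⟩ := exists_constituent H (Chars.irr_isCharacter χ)
          (Chars.irr_apply_one_ne_zero χ)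
        have hrφ : r φ ≠ 0 := fun h0 => hφ (by
          show classInner (fun x : H => (χ : G → ℂ) x) (φ : H → ℂ) = 0
          rw [hr, Chars.classInner_sum_smul_irr, h0, Nat.cast_zero])
        -- compare on E
        let ι : E →* H := Subgroup.inclusion le_sup_left
        choose s hs using fun γ : IrrCharacter H => Chars.isCharacter_classInner_nat
          (Chars.isCharacter_comp ι (Chars.irr_isCharacter γ)) (Chars.irr_isCharacter ⟨_, hirr⟩)
        have hone : ∑ γ, r γ * s γ = 1 := by
          have h1 : classInner (fun a : E => (χ : G → ℂ) a) (fun a : E => (χ : G → ℂ) a) = 1 :=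
            Chars.classInner_irr_self ⟨_, hirr⟩
          have h2 : classInner (fun a : E => (χ : G → ℂ) a) (fun a : E => (χ : G → ℂ) a)
              = ((∑ γ, r γ * s γ : ℕ) : ℂ) := by
            rw [show classInner (fun a : E => (χ : G → ℂ) a) (fun a : E => (χ : G → ℂ) a)
              = classInner (∑ γ : IrrCharacter H, (r γ : ℂ) • (fun a : E => (γ : H → ℂ) (ι a)))
                (fun a : E => (χ : G → ℂ) a) by
              congr 1
              funext a
              have := congrFun hr (ι a)
              simpa [ι] using this, Chars.classInner_sum_left]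
            push_cast
            exact Finset.sum_congr rfl fun γ _ => by rw [Chars.classInner_smul_left, hs]
          exact_mod_cast h2.symm.trans h1
        obtain ⟨dd, hdd0, hdd⟩ := Chars.isIrrCharacter_exists_degree_pos φ.2
        choose D hD0 hD using fun γ : IrrCharacter H => Chars.isIrrCharacter_exists_degree_pos γ.2
        have hsumD : ∑ γ, r γ * D γ = n := by
          have h1 := congrFun hr 1
          rw [show ((1 : H) : G) = 1 from rfl, hn, Finset.sum_apply] at h1
          have h2 : ((∑ γ, r γ * D γ : ℕ) : ℂ) = (n : ℂ) := by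
            push_cast; rw [h1]; exact Finset.sum_congr rfl fun γ _ => by simp [hD]
          exact_mod_cast h2
        have hsge : ∀ γ, r γ ≠ 0 → s γ ≠ 0 := by
          intro γ hγ hs0
          obtain ⟨c, hc⟩ := Chars.isCharacter_exists_nat_decomp
            (Chars.isCharacter_comp ι (Chars.irr_isCharacter γ))
          choose u hu using fun (δ : IrrCharacter H) (α : IrrCharacter E) =>
            Chars.isCharacter_classInner_nat (Chars.isCharacter_comp ι (Chars.irr_isCharacter δ))
              (Chars.irr_isCharacter α)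
          have hzero : ∀ α : IrrCharacter E, c α = 0 := by
            intro α
            have hcu : c α = u γ α := by
              have := hu γ α
              rw [hc, Chars.classInner_sum_smul_irr] at this
              exact_mod_cast this
            by_cases hα : (α : E → ℂ) = fun a : E => (χ : G → ℂ) a
            · have := hs γ
              rw [show (⟨_, hirr⟩ : IrrCharacter E) = α from Subtype.ext hα.symm, hu γ α,
                Nat.cast_inj] at this
              rw [hcu, this, hs0]
            · have h1 : classInner (fun a : E => (χ : G → ℂ) a) (α : E → ℂ) = 0 :=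
                Chars.classInner_irr_of_ne (χ := ⟨_, hirr⟩) fun h' =>
                  hα (congrArg Subtype.val h').symm
              rw [show (fun a : E => (χ : G → ℂ) a)
                = ∑ δ : IrrCharacter H, (r δ : ℂ) • (fun a : E => (δ : H → ℂ) (ι a)) from
                funext fun a => by
                  have := congrFun hr (ι a)
                  simpa [ι] using this, Chars.classInner_sum_left] at h1
              simp only [Chars.classInner_smul_left, hu, ← Nat.cast_mul, ← Nat.cast_sum,
                Nat.cast_eq_zero, Finset.sum_eq_zero_iff] at h1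
              rcases Nat.mul_eq_zero.1 (h1 γ (Finset.mem_univ _)) with h' | h'
              · exact absurd h' hγ
              · rw [hcu, h']
          have h1 := congrFun hc 1
          simp only [hzero, Nat.cast_zero, zero_smul, Finset.sum_const_zero, Pi.zero_apply,
            map_one] at h1
          exact Chars.irr_apply_one_ne_zero γ h1
        have honly : ∀ γ, γ ≠ φ → r γ = 0 := by
          intro γ hne
          by_contra h0
          have h1 := Finset.sum_le_sum_of_subset (f := fun γ => r γ * s γ)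
            (Finset.subset_univ {φ, γ})
          rw [Finset.sum_pair (Ne.symm hne), hone] at h1
          have := Nat.mul_pos (Nat.pos_of_ne_zero hrφ) (Nat.pos_of_ne_zero (hsge φ hrφ))
          have := Nat.mul_pos (Nat.pos_of_ne_zero h0) (Nat.pos_of_ne_zero (hsge γ h0))
          omega
        have hr1 : r φ = 1 := by
          have h1 := Finset.single_le_sum (f := fun γ => r γ * s γ) (fun _ _ => Nat.zero_le _)
            (Finset.mem_univ φ)
          rw [hone] at h1
          have := Nat.pos_of_ne_zero hrφ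
          have := Nat.pos_of_ne_zero (hsge φ hrφ)
          nlinarith
        have hφχ : ∀ x : H, (φ : H → ℂ) x = (χ : G → ℂ) x := by
          intro x
          have h1 := congrFun hr x
          rw [Finset.sum_apply, Finset.sum_eq_single φ (fun γ _ hne => by simp [honly γ hne])
            (fun h' => absurd (Finset.mem_univ _) h')] at h1
          rw [show (χ : G → ℂ) x = _ from h1]
          simp [hr1]
        refine hbad (ih (G' := H) ?_ inferInstance φ (fun x hx => Subtype.ext (hfaith _ ?_)) n
          (by rw [hφχ]; exact hn) (P.subtype le_sup_right) hHn)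
        · refine lt_of_lt_of_le ?_ hGN
          exact lt_of_le_of_ne (Nat.le_of_dvd Nat.card_pos (Subgroup.card_subgroup_dvd_card H))
            fun h' => hHtop (Subgroup.eq_top_of_card_eq H h')
        · rw [← hφχ, hx, hφχ]; rfl

end Cfsg.Agent.Lib.SmallDegree.SolvPrimePower
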