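import Cfsg.Agent.Lib.HallHigmanB.Select
import Cfsg.Agent.Lib.PSolvable.DualHallHigman
import Cfsg.Agent.Lib.FullyRamified.Frobenius
import Cfsg.Agent.Lib.Codegree
import Mathlib

/-!
# Faithful characters of degree below `p` of `p`-soluble groups

A non-normal Sylow `p`-subgroup gives a `q`-subgroup of class two with a `p`-element acting on it
with no fixed point modulo its centre; a constituent on the product is fully ramified, so its
degree is congruent to `±1` modulo `p`.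
-/

set_option autoImplicit false

namespace Cfsg.Agent.Lib.SmallDegree.SylowNormal

open Cfsg
open Cfsg.Agent.Lib
open Cfsg.Agent.Lib.HallHigmanB (centralizer_zpowers_eq_singleton mem_commutator_of_fixed)
open Cfsg.Agent.Lib.Clifford (conjFun resFun)
open Subgroup
open scoped ComplexConjugate Classical

universe u

/-- The minimal configuration, recording that it has class at most two. -/
theorem exists_critical_class_two {H : Type u} [Group H] [Finite H] {p : ℕ} [Fact p.Prime]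
    {O : Subgroup H} {x y : H} (hxO : x ∈ normalizer (O : Set H))
    (hyx : y ∈ zpowers x) {n : ℕ} (hxn : x ^ p ^ n = 1) (hO : (Nat.card O).Coprime p)
    (hy : ¬ O ≤ centralizer {y}) :
    ∃ (q : ℕ) (Q : Subgroup H), q.Prime ∧ q ≠ p ∧ Q ≤ O ∧ IsPGroup q Q ∧
      x ∈ normalizer (Q : Set H) ∧ (∀ g ∈ Q, y * g * y⁻¹ = g → ∀ h ∈ Q, g * h = h * g) ∧
      (∃ g ∈ Q, y * g * y⁻¹ ≠ g) ∧ ⁅⁅Q, Q⁆, Q⁆ = ⊥ := by
  classical
  set A := zpowers x with hA
  have hAO : A ≤ normalizer (O : Set H) := zpowers_le.2 hxO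
  have hcop : (Nat.card A).Coprime (Nat.card O) := by
    rw [hA, Nat.card_zpowers]
    exact ((hO.symm.pow_left n).coprime_dvd_left (orderOf_dvd_of_pow_eq_one hxn))
  have hsol : Group.IsSolvable A := inferInstance
  -- some invariant Sylow subgroup is moved
  obtain ⟨q, hq, P, hP, hPy⟩ : ∃ q : ℕ, ∃ _ : Fact q.Prime, ∃ P : Sylow q O,
      A ≤ normalizer (((P : Subgroup O).map O.subtype : Subgroup H) : Set H) ∧
        ¬ (P : Subgroup O).map O.subtype ≤ centralizer {y} := by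
    by_contra hall
    push Not at hall
    refine hy ?_
    have hdvd : Nat.card O ∣ Nat.card (O ⊓ centralizer {y} : Subgroup H) := by
      rw [Nat.dvd_iff_prime_pow_dvd_dvd]
      intro q k hq hk
      haveI := Fact.mk hq
      obtain ⟨P, hP⟩ := Coprime.exists_invariant_sylow (p := q) hAO hcop (Or.inl hsol)
      refine dvd_trans ?_ (card_dvd_of_le (le_inf (map_subtype_le (P : Subgroup O))
        (hall q ⟨hq⟩ P hP)))
      rw [card_map_of_injective O.subtype_injective]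
      exact P.pow_dvd_card_of_pow_dvd_card hk
    have := eq_of_le_of_card_ge (inf_le_left : O ⊓ centralizer {y} ≤ O)
      (Nat.le_of_dvd Nat.card_pos hdvd)
    exact this.ge.trans inf_le_right
  have hqp : q ≠ p := by
    rintro rfl
    refine hPy ?_
    have hP0 : (P : Subgroup O) = ⊥ := by
      obtain ⟨k, hk⟩ := P.2.exists_card_eq
      rcases Nat.eq_zero_or_pos k with h0 | h0
      · exact eq_bot_of_card_eq _ (by rw [hk, h0, pow_zero])
      · exfalso
        refine (Nat.Prime.coprime_iff_not_dvd hq.out).1 hO.symm ?_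
        exact (dvd_pow_self q h0.ne').trans (hk ▸ card_subgroup_dvd_card _)
    rw [hP0, Subgroup.map_bot]
    exact bot_le
  obtain ⟨Q, ⟨hQO, hQp, hQx, hQy⟩, hmin⟩ := (wellFounded_lt (α := Subgroup H)).has_min
    {Q | Q ≤ O ∧ IsPGroup q Q ∧ x ∈ normalizer (Q : Set H) ∧ ¬ Q ≤ centralizer {y}}
    ⟨(P : Subgroup O).map O.subtype, map_subtype_le _, P.2.map _, hP (mem_zpowers x), hPy⟩
  have hmin' : ∀ R, R ≤ Q → R ≠ Q → x ∈ normalizer (R : Set H) → R ≤ centralizer {y} := by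
    intro R h1 h2 h3
    by_contra h4
    exact hmin R ⟨h1.trans hQO, hQp.to_le h1, h3, h4⟩ (lt_of_le_of_ne h1 h2)
  have hAQ : A ≤ normalizer (Q : Set H) := zpowers_le.2 hQx
  have hyQ : zpowers y ≤ normalizer (Q : Set H) := (zpowers_le.2 hyx).trans hAQ
  have hyA : A ≤ normalizer (zpowers y : Set H) := by
    refine le_trans ?_ (centralizer_le_normalizer _)
    rw [centralizer_zpowers_eq_singleton, hA, zpowers_le, mem_centralizer_singleton_iff]
    obtain ⟨i, rfl⟩ := mem_zpowers_iff.1 hyx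
    exact (Commute.zpow_self x i).eq.symm
  have hcopQ : (Nat.card (zpowers y)).Coprime (Nat.card Q) :=
    (hcop.coprime_dvd_left (card_dvd_of_le (zpowers_le.2 hyx))).coprime_dvd_right (card_dvd_of_le hQO)
  have hQeq : ⁅Q, zpowers y⁆ = Q := by
    by_contra hne
    have h1 := hmin' _ (Coprime.commutator_le_of_le_normalizer hyQ) hne
      (Coprime.le_normalizer_commutator hAQ hyA (mem_zpowers x))
    have h2 : ⁅⁅Q, zpowers y⁆, zpowers y⁆ = ⊥ := by
      rw [commutator_eq_bot_iff_le_centralizer, centralizer_zpowers_eq_singleton]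
      exact h1
    have h3 := Coprime.commutator_eq_bot_of_commutator_commutator_eq_bot hyQ hcopQ h2
    rw [commutator_eq_bot_iff_le_centralizer, centralizer_zpowers_eq_singleton] at h3
    exact hQy h3
  haveI := hq
  have hQne : Q ≠ ⊥ := fun h => hQy (h ▸ bot_le)
  have hD : ⁅Q, Q⁆ < Q := Coprime.commutator_lt_of_isPGroup hQp hQp le_normalizer hQne
  have hDy : ⁅Q, Q⁆ ≤ centralizer {y} :=
    hmin' _ hD.le hD.ne (Coprime.le_normalizer_commutator hAQ hAQ (mem_zpowers x))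
  have hDQ : ⁅⁅Q, Q⁆, Q⁆ = ⊥ := by
    have h1 : ⁅⁅zpowers y, ⁅Q, Q⁆⁆, Q⁆ = ⊥ := by
      rw [show ⁅zpowers y, ⁅Q, Q⁆⁆ = ⊥ by
        rw [commutator_comm, commutator_eq_bot_iff_le_centralizer, centralizer_zpowers_eq_singleton]; exact hDy,
        commutator_bot_left]
    have h2 : ⁅⁅⁅Q, Q⁆, Q⁆, zpowers y⁆ = ⊥ := by
      rw [commutator_eq_bot_iff_le_centralizer, centralizer_zpowers_eq_singleton]
      exact ((commutator_mono hD.le le_rfl)).trans hDy
    have h3 := commutator_commutator_eq_bot_of_rotate h1 h2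
    rw [hQeq, commutator_comm] at h3
    exact h3
  refine ⟨q, Q, hq.out, hqp, hQO, hQp, hQx, fun g hg hfix h hh => ?_, ?_, hDQ⟩
  · have hgD := mem_commutator_of_fixed (hyQ (mem_zpowers y)) hQeq hg hfix
    exact (mem_centralizer_iff.1 (commutator_eq_bot_iff_le_centralizer.1 hDQ hgD) h hh).symm
  · by_contra hall
    push Not at hall
    refine hQy fun g hg => ?_
    rw [mem_centralizer_singleton_iff]
    exact (mul_inv_eq_iff_eq_mul.1 (hall g hg)).symm

/-- An irreducible character of degree prime to `p` restricts irreducibly to a normal subgroup of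
index `p`. -/
theorem restrict_irr_of_prime_index {H : Type u} [Group H] [Fintype H] {p : ℕ} (hp : p.Prime)
    (K : Subgroup H) [hK : K.Normal] [Fintype K] (hidx : K.index = p) (φ : IrrCharacter H) {e : ℕ}
    (he : (φ : H → ℂ) 1 = e) (hpe : ¬ p ∣ e) :
    IsIrrCharacter K (fun k : K => (φ : H → ℂ) k) := by
  haveI : Fact p.Prime := ⟨hp⟩
  obtain ⟨θ, hθ⟩ : ∃ θ : IrrCharacter K, classInner (resFun K (φ : H → ℂ)) (θ : K → ℂ) ≠ 0 := by
    by_contra h
    push Not at h
    have h1 := congrFun (Chars.isCharacter_eq_sum_classInner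
      (Chars.isCharacter_restrict (H := K) (Chars.irr_isCharacter φ))) 1
    have h2 : ∀ l : IrrCharacter K, classInner (fun a : K => (φ : H → ℂ) a) (l : K → ℂ) = 0 := h
    simp only [h2, zero_smul, Finset.sum_const_zero, Pi.zero_apply] at h1
    exact Chars.irr_apply_one_ne_zero φ (by simpa using h1)
  let T : Subgroup H :=
    { carrier := {g | conjFun g (θ : K → ℂ) = θ}
      one_mem' := Clifford.conjFun_one _
      mul_mem' := fun {a b} ha hb => by
        show conjFun (a * b) (θ : K → ℂ) = θ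
        rw [Clifford.conjFun_mul, ha, hb]
      inv_mem' := fun {a} ha => by
        show conjFun a⁻¹ (θ : K → ℂ) = θ
        conv_lhs => rw [← ha, ← Clifford.conjFun_mul, mul_inv_cancel, Clifford.conjFun_one] }
  have hKT : K ≤ T := fun k hk => funext fun n =>
    Chars.irr_isClassFunction θ n ⟨k, hk⟩
  have hTtop : ∀ g : H, conjFun g (θ : K → ℂ) = θ := by
    rcases hp.eq_one_or_self_of_dvd _ (hidx ▸ Subgroup.index_dvd_of_le hKT) with h | h
    · intro g
      have : g ∈ T := by rw [Subgroup.index_eq_one.1 h]; exact Subgroup.mem_top g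
      exact this
    · exfalso
      obtain ⟨m, hm⟩ := Clifford.classInner_irr_nat
        (Chars.isCharacter_restrict (H := K) (Chars.irr_isCharacter φ)) θ.2
      obtain ⟨t, -, ht⟩ := Chars.isIrrCharacter_exists_degree_pos θ.2
      have h1 := Clifford.apply_one_eq φ.2 θ.2 hθ T fun g => Iff.rfl
      rw [show classInner (resFun K (φ : H → ℂ)) (θ : K → ℂ) = m from hm, he, h, ht] at h1
      exact hpe ⟨m * t, by
        have : e = m * (p * t) := by exact_mod_cast h1
        rw [this]; ring⟩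
  haveI : IsCyclic (H ⧸ K) := isCyclic_of_prime_card (p := p) hidx
  obtain ⟨χ, hχ⟩ := FullyRamified.Frobenius.exists_ext_of_cyclic K θ hTtop
  have hres : resFun K (χ : H → ℂ) = (θ : K → ℂ) := funext hχ
  obtain ⟨β, hβ⟩ := ((Clifford.gallagher χ.2 (hres ▸ θ.2)).2.2 _ φ.2).1 (by rwa [hres])
  have hβ1 : (β : H ⧸ K → ℂ) 1 = 1 :=
    (FullyRamified.Frobenius.apply_one_eq_one
      (fun a b => (IsCyclic.commGroup (α := H ⧸ K)).mul_comm a b) β).1
  have : (fun k : K => (φ : H → ℂ) k) = (θ : K → ℂ) := funext fun k => by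
    rw [hβ, Pi.mul_apply, Clifford.inflate_apply_mem, hβ1, mul_one, hχ]
  exact this ▸ θ.2

/-- The degree of an irreducible character on a class two group with a `p`-element acting. -/
theorem degree_of_action {H : Type u} [Group H] [Fintype H] {p q : ℕ} (hp : p.Prime)
    (hq : q.Prime) (hqp : q ≠ p) (Q : Subgroup H) (y : H) (hQ : IsPGroup q Q)
    (htop : Q ⊔ zpowers y = ⊤) (hnorm : y ∈ normalizer (Q : Set H))
    (hord : ∃ k : ℕ, y ^ p ^ k = 1) (hyp : ∀ g ∈ Q, Commute (y ^ p) g)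
    (hfix : ∀ g ∈ Q, y * g * y⁻¹ = g → ∀ h ∈ Q, g * h = h * g) (hclass : ⁅⁅Q, Q⁆, Q⁆ = ⊥)
    (φ : IrrCharacter H) {e : ℕ} (he : (φ : H → ℂ) 1 = e) (hep : e + 1 ≤ p) (q0 : H) (hq0 : q0 ∈ Q)
    (hmove : (φ : H → ℂ) (y * q0 * y⁻¹ * q0⁻¹) ≠ (φ : H → ℂ) 1) :
    e + 1 = p ∧ ∃ k : ℕ, e = 2 ^ k := by
  haveI : Fact p.Prime := ⟨hp⟩
  haveI : Fact q.Prime := ⟨hq⟩
  have he0 : 0 < e := by
    have h := Chars.irr_apply_one_ne_zero φ
    rw [he] at h
    exact Nat.pos_of_ne_zero fun h0 => h (by rw [h0, Nat.cast_zero])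
  haveI hQn : Q.Normal := by
    rw [← normalizer_eq_top_iff, eq_top_iff, ← htop]
    exact sup_le le_normalizer (zpowers_le.2 hnorm)
  have hcen : y ^ p ∈ center H := by
    rw [mem_center_iff]
    intro g
    have hg : g ∈ centralizer ({y ^ p} : Set H) := by
      have h : (⊤ : Subgroup H) ≤ centralizer ({y ^ p} : Set H) := by
        rw [← htop]
        refine sup_le (fun a ha => mem_centralizer_singleton_iff.2 (hyp a ha).symm.eq)
          (zpowers_le.2 (mem_centralizer_singleton_iff.2 (Commute.self_pow y p).eq))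
      exact h (mem_top g)
    exact mem_centralizer_singleton_iff.1 hg
  set C : Subgroup H := zpowers (y ^ p) with hC
  have hCcen : C ≤ center H := zpowers_le.2 hcen
  haveI : C.Normal := ⟨fun c hc g => by
    rw [mem_center_iff.1 (hCcen hc) g, mul_inv_cancel_right]; exact hc⟩
  set K : Subgroup H := Q ⊔ C with hK
  haveI : K.Normal := inferInstance
  have hKdec : ∀ x ∈ K, ∃ a ∈ Q, ∃ c ∈ C, x = a * c := fun x hx => by
    obtain ⟨a, ha, c, hc, rfl⟩ := Subgroup.mem_sup_of_normal_right.1 hx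
    exact ⟨a, ha, c, hc, rfl⟩
  obtain ⟨k₀, hk₀⟩ := hord
  have hyK : y ∉ K := by
    intro hy
    obtain ⟨a, ha, c, hc, hac⟩ := hKdec y hy
    have hca : Commute y c⁻¹ :=
      (mem_center_iff.1 (hCcen (C.inv_mem hc)) y)
    have h1 : a ^ p ^ k₀ = 1 := by
      obtain ⟨i, rfl⟩ := mem_zpowers_iff.1 hc
      rw [eq_mul_inv_of_mul_eq hac.symm, hca.mul_pow, hk₀, one_mul, ← zpow_natCast, ← zpow_neg,
        ← zpow_mul, ← zpow_natCast y p, ← zpow_mul,
        show (p : ℤ) * (-i * (p ^ k₀ : ℕ)) = ((p ^ k₀ : ℕ) : ℤ) * (-i * p) by ring, zpow_mul,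
        zpow_natCast, hk₀, one_zpow]
    have h2 : orderOf a = 1 := by
      obtain ⟨j, hj⟩ := hQ.exists_card_eq
      refine Nat.eq_one_of_dvd_coprimes (((Nat.coprime_primes hp hq).2 hqp.symm).pow k₀ j)
        (orderOf_dvd_of_pow_eq_one h1) ?_
      rw [← hj]
      exact Subgroup.orderOf_coe (⟨a, ha⟩ : Q) ▸ orderOf_dvd_natCard _
    refine hmove ?_
    rw [hac, orderOf_eq_one_iff.1 h2, one_mul]
    have : c * q0 = q0 * c := (mem_center_iff.1 (hCcen hc) q0).symm
    rw [this, mul_inv_cancel_right, mul_inv_cancel]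
  -- the quotient by K
  set πK := QuotientGroup.mk' K
  have hgen : ∀ r : H ⧸ K, r ∈ zpowers (y : H ⧸ K) := by
    intro r
    obtain ⟨h, rfl⟩ := QuotientGroup.mk'_surjective K r
    have h1 : (Q ⊔ zpowers y).map πK ≤ zpowers (y : H ⧸ K) := by
      rw [Subgroup.map_sup, MonoidHom.map_zpowers]
      refine sup_le ?_ le_rfl
      rintro _ ⟨a, ha, rfl⟩
      rw [show πK a = 1 from (QuotientGroup.eq_one_iff a).2 ((le_sup_left : Q ≤ K) ha)]
      exact one_mem _
    exact h1 ⟨h, htop ▸ mem_top h, rfl⟩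
  have hidx : K.index = p := by
    rw [Subgroup.index, ← orderOf_eq_card_of_forall_mem_zpowers hgen]
    refine orderOf_eq_prime ?_ fun h => hyK ((QuotientGroup.eq_one_iff y).1 h)
    rw [← QuotientGroup.mk_pow, QuotientGroup.eq_one_iff]
    exact (le_sup_right : C ≤ K) (mem_zpowers _)
  haveI : Fintype K := Fintype.ofFinite _
  have hpe : ¬ p ∣ e := fun h => by have := Nat.le_of_dvd he0 h; omega
  let ψ : IrrCharacter K := ⟨_, restrict_irr_of_prime_index hp K hidx φ he hpe⟩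
  have hψ1 : (ψ : K → ℂ) 1 = e := he
  obtain ⟨d, σ, hσ, hσψ⟩ := Chars.irr_exists_rep ψ
  haveI := hσ
  have hσker : ∀ k : K, σ k = 1 ↔ (φ : H → ℂ) k = (φ : H → ℂ) 1 := fun k => by
    rw [Chars.rep_eq_one_iff, hσψ]; rfl
  -- the centre of ψ
  set L := Codegree.kerIrr φ with hL
  haveI : L.Normal := Codegree.kerIrr_normal φ
  set π := QuotientGroup.mk' L with hπ
  haveI : (K.map π).Normal := Subgroup.Normal.map inferInstance π (QuotientGroup.mk'_surjective L)
  set N : Subgroup H := K ⊓ (centralizer (K.map π : Set (H ⧸ L))).comap π with hN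
  haveI : N.Normal := inferInstance
  have hmemN : ∀ g : H, g ∈ N ↔ g ∈ K ∧ ∀ k ∈ K, k * g * k⁻¹ * g⁻¹ ∈ L := by
    intro g
    rw [hN, mem_inf, mem_comap, mem_centralizer_iff]
    refine and_congr_right fun _ => ⟨fun h k hk => ?_, fun h r hr => ?_⟩
    · rw [← QuotientGroup.eq_one_iff, QuotientGroup.mk_mul, QuotientGroup.mk_mul,
        QuotientGroup.mk_mul, QuotientGroup.mk_inv, QuotientGroup.mk_inv]
      have := h _ (mem_map_of_mem π hk)
      simp only [hπ, QuotientGroup.mk'_apply] at this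
      rw [this, mul_inv_cancel_right, mul_inv_cancel]
    · obtain ⟨k, hk, rfl⟩ := hr
      have := h k hk
      rw [← QuotientGroup.eq_one_iff, QuotientGroup.mk_mul, QuotientGroup.mk_mul,
        QuotientGroup.mk_mul, QuotientGroup.mk_inv, QuotientGroup.mk_inv] at this
      exact mul_inv_eq_iff_eq_mul.1 (mul_inv_eq_one.1 this)
  have hNK : N ≤ K := inf_le_left
  have hCN : C ≤ N := fun c hc => (hmemN c).2 ⟨(le_sup_right : C ≤ K) hc, fun k _ => by
    rw [mem_center_iff.1 (hCcen hc) k, mul_inv_cancel_right, mul_inv_cancel]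
    exact L.one_mem⟩
  have hcomm2 : ∀ a ∈ K, ∀ b ∈ K, a * b * a⁻¹ * b⁻¹ ∈ N := by
    intro a ha b hb
    obtain ⟨a1, ha1, c1, hc1, rfl⟩ := hKdec a ha
    obtain ⟨b1, hb1, c2, hc2, rfl⟩ := hKdec b hb
    have hz : ∀ c ∈ C, ∀ g : H, g * c = c * g := fun c hc g => mem_center_iff.1 (hCcen hc) g
    have e1 : a1 * c1 * (b1 * c2) * (a1 * c1)⁻¹ * (b1 * c2)⁻¹ = a1 * b1 * a1⁻¹ * b1⁻¹ := by
      have e2 : a1 * c1 * (b1 * c2) = (a1 * b1) * (c1 * c2) := by
        rw [mul_assoc a1 c1, ← mul_assoc c1, ← hz c1 hc1 b1]; group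
      have e3 : (a1 * c1)⁻¹ * (b1 * c2)⁻¹ = (c1 * c2)⁻¹ * (a1⁻¹ * b1⁻¹) := by
        rw [mul_inv_rev, mul_inv_rev, mul_inv_rev, mul_assoc c1⁻¹, ← mul_assoc a1⁻¹,
          hz c2⁻¹ (C.inv_mem hc2) a1⁻¹, mul_assoc c2⁻¹, ← mul_assoc c1⁻¹,
          ← hz c1⁻¹ (C.inv_mem hc1) c2⁻¹]
      rw [mul_assoc (a1 * c1 * (b1 * c2)), e2, e3]; group
    rw [e1]
    have hd : a1 * b1 * a1⁻¹ * b1⁻¹ ∈ ⁅Q, Q⁆ := commutator_mem_commutator ha1 hb1
    have hdQ : a1 * b1 * a1⁻¹ * b1⁻¹ ∈ Q :=
      Q.mul_mem (Q.mul_mem (Q.mul_mem ha1 hb1) (Q.inv_mem ha1)) (Q.inv_mem hb1)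
    refine (hmemN _).2 ⟨(le_sup_left : Q ≤ K) hdQ, fun k hk => ?_⟩
    obtain ⟨k1, hk1, c3, hc3, rfl⟩ := hKdec k hk
    set d := a1 * b1 * a1⁻¹ * b1⁻¹
    have h1 : k1 * d = d * k1 :=
      mem_centralizer_iff.1 (commutator_eq_bot_iff_le_centralizer.1 hclass hd) k1 hk1
    have h2 : k1 * c3 * d = d * (k1 * c3) := by
      rw [mul_assoc, ← hz c3 hc3 d, ← mul_assoc, h1, mul_assoc]
    rw [h2, mul_inv_cancel_right, mul_inv_cancel]
    exact L.one_mem
  have hscal : ∀ n : H, ∀ hn : n ∈ N, ∃ c : ℂ, σ ⟨n, hNK hn⟩ = c • (1 : Module.End ℂ _) := by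
    intro n hn
    refine Chars.exists_scalar_of_commute σ _ fun h => ?_
    have h1 : σ (h * ⟨n, hNK hn⟩ * h⁻¹ * ⟨n, hNK hn⟩⁻¹) = 1 :=
      (hσker _).2 ((Codegree.mem_kerIrr φ).1 (((hmemN n).1 hn).2 h h.2))
    have h2 : σ (h * ⟨n, hNK hn⟩) = σ (⟨n, hNK hn⟩ * h) := by
      rw [show h * ⟨n, hNK hn⟩ = (h * ⟨n, hNK hn⟩ * h⁻¹ * ⟨n, hNK hn⟩⁻¹) * (⟨n, hNK hn⟩ * h) by group,
        map_mul σ (h * ⟨n, hNK hn⟩ * h⁻¹ * ⟨n, hNK hn⟩⁻¹), h1, one_mul]
    rw [map_mul, map_mul] at h2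
    rw [← Module.End.mul_eq_comp, ← Module.End.mul_eq_comp, h2]
  choose c hc using hscal
  have heC : (e : ℂ) ≠ 0 := by exact_mod_cast he0.ne'
  have hφmul : ∀ n : H, ∀ hn : n ∈ N, ∀ g : H, ∀ hg : g ∈ K,
      (φ : H → ℂ) (n * g) = c n hn * (φ : H → ℂ) g := by
    intro n hn g hg
    have h1 : (φ : H → ℂ) (n * g) = σ.character (⟨n, hNK hn⟩ * ⟨g, hg⟩) := by rw [hσψ]; rfl
    have h2 : (φ : H → ℂ) g = σ.character ⟨g, hg⟩ := by rw [hσψ]
    rw [h1, h2]
    simp only [Representation.character]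
    rw [map_mul σ, hc n hn, smul_mul_assoc, one_mul, map_smul, smul_eq_mul]
  have hcval : ∀ n : H, ∀ hn : n ∈ N, c n hn = (φ : H → ℂ) n / e := by
    intro n hn
    have := hφmul n hn 1 K.one_mem
    rw [mul_one, he] at this
    rw [this, mul_div_assoc, div_self heC, mul_one]
  let lam₀ : N →* ℂ :=
    { toFun := fun n => (φ : H → ℂ) n / e
      map_one' := by rw [OneMemClass.coe_one, he, div_self heC]
      map_mul' := fun a b => by
        rw [Subgroup.coe_mul, hφmul a a.2 b (hNK b.2), hcval]; ring }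
  let θ : IrrCharacter N := ⟨_, Chars.isIrrCharacter_of_hom lam₀.toHomUnits⟩
  have hθ : ∀ n : N, (θ : N → ℂ) n = (φ : H → ℂ) n / e := fun n => rfl
  have hvan : ∀ g ∈ K, g ∉ N → (φ : H → ℂ) g = 0 := by
    intro g hg hgN
    obtain ⟨k, hk, hkL⟩ : ∃ k ∈ K, k * g * k⁻¹ * g⁻¹ ∉ L := by
      by_contra h
      push Not at h
      exact hgN ((hmemN g).2 ⟨hg, h⟩)
    set d := k * g * k⁻¹ * g⁻¹ with hd
    have hdN : d ∈ N := hcomm2 k hk g hg
    have h1 := hφmul d hdN g hg
    rw [show d * g = k * g * k⁻¹ by rw [hd]; group, Chars.irr_isClassFunction φ g k, hcval] at h1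
    have h2 : ((φ : H → ℂ) d / e - 1) * (φ : H → ℂ) g = 0 := by rw [sub_mul, one_mul, ← h1, sub_self]
    refine (mul_eq_zero.1 h2).resolve_left fun h => hkL ?_
    rw [sub_eq_zero, div_eq_one_iff_eq heC] at h
    exact (Codegree.mem_kerIrr φ).2 (by rw [h, he])
  haveI : Fintype N := Fintype.ofFinite _
  set N' := N.subgroupOf K with hN'
  have hnorm1 : ∀ n : N, ‖(θ : N → ℂ) n‖ = 1 := fun n => Chars.norm_hom_apply _ n
  have hsq : (N'.index : ℂ) = (e : ℂ) ^ 2 := by
    have h := Chars.classInner_irr_self ψ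
    rw [classInner, inv_mul_eq_one₀ Chars.natCard_ne_zero, ← N'.card_mul_index] at h
    have h2 : ∑ g : K, (ψ : K → ℂ) g * conj ((ψ : K → ℂ) g) = (Nat.card N' : ℂ) * (e : ℂ) ^ 2 := by
      rw [← Finset.sum_subset (Finset.subset_univ (Finset.univ.filter fun g : K => (g : H) ∈ N))
        (fun g _ hg => by
          show (φ : H → ℂ) g * _ = 0
          rw [hvan g g.2 (fun hgN => hg (Finset.mem_filter.2 ⟨Finset.mem_univ _, hgN⟩)), zero_mul]),
        Finset.sum_congr rfl (g := fun _ => (e : ℂ) ^ 2) (fun g hg => by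
          have h3 := hθ ⟨g, (Finset.mem_filter.1 hg).2⟩
          rw [eq_div_iff heC] at h3
          show (φ : H → ℂ) g * conj ((φ : H → ℂ) g) = _
          rw [← h3, map_mul, Complex.conj_natCast, mul_mul_mul_comm, Complex.mul_conj', hnorm1,
            Complex.ofReal_one, one_pow, one_mul, sq]), Finset.sum_const, nsmul_eq_mul]
      congr 2
      rw [Nat.card_eq_fintype_card, Fintype.card_of_subtype]
      intro x
      simp [hN', Subgroup.mem_subgroupOf]
    rw [Nat.cast_mul, h2] at h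
    exact mul_left_cancel₀ Chars.natCard_ne_zero h
  haveI : Fintype N' := Fintype.ofFinite _
  have hram : indFun N' (fun n : N' => (θ : N → ℂ) ⟨(n : K), n.2⟩)
      = fun g => (e : ℂ) * (ψ : K → ℂ) g := by
    funext g
    unfold Cfsg.indFun
    by_cases hg : (g : H) ∈ N
    · rw [Finset.sum_congr rfl (g := fun _ => (φ : H → ℂ) g / e) (fun x _ => by
        have hmem : x⁻¹ * g * x ∈ N' := by
          rw [hN', Subgroup.mem_subgroupOf]
          simpa using (inferInstance : N.Normal).conj_mem _ hg (x : H)⁻¹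
        rw [Chars.extendByZero_of_mem _ hmem, hθ]
        congr 1
        have := Chars.irr_isClassFunction φ (g : H) (x : H)⁻¹
        simpa using this), Finset.sum_const, Finset.card_univ, nsmul_eq_mul,
        ← Nat.card_eq_fintype_card, ← N'.card_mul_index, Nat.cast_mul, hsq, mul_assoc,
        inv_mul_cancel_left₀ Chars.natCard_ne_zero]
      show (e : ℂ) ^ 2 * ((φ : H → ℂ) g / e) = (e : ℂ) * (φ : H → ℂ) g
      field_simp
    · rw [Finset.sum_eq_zero, mul_zero]
      · show (0 : ℂ) = (e : ℂ) * (φ : H → ℂ) g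
        rw [hvan g g.2 hg, mul_zero]
      intro x _
      refine Chars.extendByZero_of_not_mem _ fun h => hg ?_
      rw [hN', Subgroup.mem_subgroupOf] at h
      have := (inferInstance : N.Normal).conj_mem _ h (x : H)
      simpa [mul_assoc] using this
  -- no element outside K fixes a coset
  have hfrob : ∀ x : H, x ∉ K → ∀ g : H, g ∈ K → x * g * x⁻¹ * g⁻¹ ∈ N → g ∈ N := by
    intro x hx g hg hxg
    -- y fixes the coset of g
    have hy : y * g * y⁻¹ * g⁻¹ ∈ N := by
      set R : Subgroup H := (centralizer ({(g : H ⧸ N)} : Set (H ⧸ N))).comap (QuotientGroup.mk' N)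
      have hR : ∀ z : H, z ∈ R ↔ z * g * z⁻¹ * g⁻¹ ∈ N := by
        intro z
        rw [mem_comap, mem_centralizer_singleton_iff, ← QuotientGroup.eq_one_iff,
          QuotientGroup.mk_mul, QuotientGroup.mk_mul, QuotientGroup.mk_mul, QuotientGroup.mk_inv,
          QuotientGroup.mk_inv, mul_inv_eq_one, mul_inv_eq_iff_eq_mul]
        rfl
      have hKR : K ≤ R := fun k hk => (hR k).2 (hcomm2 k hk g hg)
      rcases hp.eq_one_or_self_of_dvd _ (hidx ▸ Subgroup.index_dvd_of_le hKR) with h | h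
      · exact (hR y).1 (Subgroup.index_eq_one.1 h ▸ mem_top y)
      · exfalso
        have hKeq : K = R := Subgroup.eq_of_le_of_card_ge hKR (le_of_eq (by
          have h1 := R.card_mul_index
          have h2 := K.card_mul_index
          rw [h] at h1; rw [hidx] at h2
          exact Nat.eq_of_mul_eq_mul_right hp.pos (h1.trans h2.symm)))
        exact hx (hKeq ▸ (hR x).2 hxg)
    obtain ⟨a, ha, c', hc', rfl⟩ := hKdec g hg
    have ha' : y * a * y⁻¹ * a⁻¹ ∈ N := by
      have : y * (a * c') * y⁻¹ * (a * c')⁻¹ = y * a * y⁻¹ * a⁻¹ := by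
        rw [mul_inv_rev, show y * (a * c') * y⁻¹ = y * a * (c' * y⁻¹) by group,
          ← mem_center_iff.1 (hCcen hc') y⁻¹]
        group
      rwa [this] at hy
    suffices haN : a ∈ N from N.mul_mem haN (hCN hc')
    -- a fixed point in the coset
    let S := {b : H // b ∈ Q ∧ b⁻¹ * a ∈ N}
    have hyQ : ∀ b : H, b ∈ Q → y * b * y⁻¹ ∈ Q := fun b hb => hQn.conj_mem b hb y
    have hS : ∀ b : H, (b ∈ Q ∧ b⁻¹ * a ∈ N) ↔ (y * b * y⁻¹ ∈ Q ∧ (y * b * y⁻¹)⁻¹ * a ∈ N) := by
      intro b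
      have e1 : (y * b * y⁻¹)⁻¹ * a
          = y * (b⁻¹ * a) * y⁻¹ * (a⁻¹ * (y * a * y⁻¹ * a⁻¹)⁻¹ * a⁻¹⁻¹) := by group
      refine and_congr ⟨hyQ b, fun h => ?_⟩ ?_
      · have := hQn.conj_mem _ h y⁻¹
        simpa [mul_assoc] using this
      · rw [e1, N.mul_mem_cancel_right ((inferInstance : N.Normal).conj_mem _ (N.inv_mem ha') a⁻¹)]
        exact ⟨fun h => (inferInstance : N.Normal).conj_mem _ h y, fun h => by
          have := (inferInstance : N.Normal).conj_mem _ h y⁻¹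
          simpa [mul_assoc] using this⟩
    let σy : Equiv.Perm S := (MulAut.conj y).toEquiv.subtypeEquiv fun b => hS b
    have hσy : ∀ (n : ℕ) (b : S), ((σy ^ n) b : H) = y ^ n * b * (y ^ n)⁻¹ := by
      intro n
      induction n with
      | zero => intro b; simp
      | succ n ih =>
        intro b
        rw [pow_succ', Equiv.Perm.mul_apply]
        show y * ((σy ^ n) b : H) * y⁻¹ = _
        rw [ih, pow_succ']; group
    have hpow : σy ^ p ^ k₀ = 1 := Equiv.ext fun b => Subtype.ext (by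
      rw [hσy, hk₀]; simp)
    have hndvd : ¬ p ∣ Fintype.card S := by
      rw [← Nat.card_eq_fintype_card]
      have e1 : Nat.card S = Nat.card (Q ⊓ N : Subgroup H) := Nat.card_congr
        { toFun := fun b => ⟨a⁻¹ * b.1, Q.mul_mem (Q.inv_mem ha) b.2.1, by
            have := N.inv_mem b.2.2
            simpa using this⟩
          invFun := fun m => ⟨a * m.1, Q.mul_mem ha m.2.1, by
            have := N.inv_mem m.2.2
            simpa [mul_assoc] using this⟩
          left_inv := fun b => Subtype.ext (by simp)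
          right_inv := fun m => Subtype.ext (by simp) }
      obtain ⟨j, hj⟩ := (hQ.to_le (inf_le_left : Q ⊓ N ≤ Q)).exists_card_eq
      rw [e1, hj]
      intro h
      exact hqp ((Nat.prime_dvd_prime_iff_eq hp hq).1 (hp.dvd_of_dvd_pow h)).symm
    obtain ⟨⟨b, hbQ, hbN⟩, hb⟩ := Equiv.Perm.exists_fixed_point_of_prime hndvd hpow
    have hbfix : y * b * y⁻¹ = b := congrArg Subtype.val hb
    have hbN' : b ∈ N := (hmemN b).2 ⟨(le_sup_left : Q ≤ K) hbQ, fun k hk => by
      obtain ⟨k1, hk1, c3, hc3, rfl⟩ := hKdec k hk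
      have h1 := hfix b hbQ hbfix k1 hk1
      have h2 : k1 * c3 * b = b * (k1 * c3) := by
        rw [mul_assoc, ← mem_center_iff.1 (hCcen hc3) b, ← mul_assoc, ← h1, mul_assoc]
      rw [h2, mul_inv_cancel_right, mul_inv_cancel]
      exact L.one_mem⟩
    have := N.mul_mem hbN' hbN
    rwa [mul_inv_cancel_left] at this
  have hlam : ∀ x : H, conjFun x (θ : N → ℂ) = θ := fun x => funext fun n => by
    show (θ : N → ℂ) _ = (θ : N → ℂ) n
    rw [hθ, hθ]
    show (φ : H → ℂ) (x * n * x⁻¹) / e = _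
    rw [Chars.irr_isClassFunction φ (n : H) x]
  have hKtop : K ≠ ⊤ := fun h => hyK (h ▸ mem_top y)
  have hcyc : IsCyclic (H ⧸ K) := isCyclic_of_prime_card (p := p) hidx
  have hdvd := FullyRamified.Frobenius.index_dvd K N hNK hKtop hcyc hfrob θ hlam ψ e hram
  rw [hidx] at hdvd
  have he1 : e ≠ 1 := by
    intro h
    obtain ⟨f, hf⟩ := Chars.exists_hom_of_degree_one (Chars.irr_isCharacter φ)
      (by rw [he, h, Nat.cast_one])
    refine hmove ?_
    simp [hf, mul_comm (f y) (f q0)]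
  have hep1 : e + 1 = p := by
    rcases hdvd with h | h
    · exfalso
      have : p ∣ e - 1 := by
        rw [← Int.natCast_dvd_natCast, Nat.cast_sub (by omega)]; exact_mod_cast h
      have := Nat.le_of_dvd (by omega) this
      omega
    · have h' : p ∣ e + 1 := by rw [← Int.natCast_dvd_natCast]; exact_mod_cast h
      have := Nat.le_of_dvd (by omega) h'
      omega
  refine ⟨hep1, ?_⟩
  -- e is a power of q
  have hidxQ : N'.index ∣ Nat.card Q := by
    let f : Q →* K ⧸ N' := (QuotientGroup.mk' N').comp (Subgroup.inclusion (le_sup_left : Q ≤ K))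
    refine Subgroup.card_dvd_of_surjective f fun r => ?_
    obtain ⟨⟨k, hk⟩, rfl⟩ := QuotientGroup.mk'_surjective N' r
    obtain ⟨a, ha, c', hc', rfl⟩ := hKdec k hk
    refine ⟨⟨a, ha⟩, QuotientGroup.eq.2 ?_⟩
    rw [hN', Subgroup.mem_subgroupOf]
    show a⁻¹ * (a * c') ∈ N
    rw [inv_mul_cancel_left]
    exact hCN hc'
  obtain ⟨j, hj⟩ := hQ.exists_card_eq
  have he2 : e ^ 2 = N'.index := by exact_mod_cast hsq.symm
  obtain ⟨i, -, hi⟩ := (Nat.dvd_prime_pow hq).1
    (((dvd_pow_self e two_ne_zero).trans (he2 ▸ hidxQ)).trans (dvd_of_eq hj))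
  refine ⟨i, ?_⟩
  have hi0 : i ≠ 0 := fun h => he1 (by rw [hi, h, pow_zero])
  have hpodd : p % 2 = 1 := hp.eq_two_or_odd.resolve_left (by omega)
  have h2e : 2 ∣ e := by omega
  rw [hi] at h2e ⊢
  rw [(Nat.prime_dvd_prime_iff_eq Nat.prime_two hq).1 (Nat.prime_two.dvd_of_dvd_pow h2e)]

/-- A non-normal Sylow subgroup gives a moved class two `q`-subgroup. -/
theorem exists_pair {G : Type u} [Group G] [Finite G] {p : ℕ} [Fact p.Prime]
    (hsolv : IsPSolvable p G) (P : Sylow p G) (hP : ¬ (P : Subgroup G).Normal) :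
    ∃ (q : ℕ) (Q : Subgroup G) (y : G), q.Prime ∧ q ≠ p ∧ IsPGroup q Q ∧
      y ∈ normalizer (Q : Set G) ∧ (∃ k : ℕ, y ^ p ^ k = 1) ∧ (∀ g ∈ Q, Commute (y ^ p) g) ∧
      (∀ g ∈ Q, y * g * y⁻¹ = g → ∀ h ∈ Q, g * h = h * g) ∧ ⁅⁅Q, Q⁆, Q⁆ = ⊥ ∧
      ∃ g ∈ Q, y * g * y⁻¹ ≠ g := by
  set K₀ := pCore p G with hK₀
  haveI : K₀.Normal := haveI := PSolvable.pCore_characteristic (p := p) (G := G); inferInstance
  have hK₀p : IsPGroup p K₀ := PSolvable.pCore_isPGroup
  obtain ⟨x, hxP, hxK⟩ : ∃ x ∈ (P : Subgroup G), x ∉ K₀ := by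
    by_contra h
    push Not at h
    exact hP (le_antisymm (PSolvable.pCore_le_sylow P) h ▸ inferInstance)
  set f := QuotientGroup.mk' K₀
  set M := pPrimeCore p (G ⧸ K₀) with hM
  haveI : M.Normal :=
    haveI := PSolvable.pPrimeCore_characteristic (p := p) (G := G ⧸ K₀); inferInstance
  have hMcop : (Nat.card M).Coprime p := PSolvable.pPrimeCore_coprime
  obtain ⟨n, hn⟩ := P.2 ⟨x, hxP⟩
  have hn' : x ^ p ^ n = 1 := congrArg Subtype.val hn
  have hxbar : f x ^ p ^ n = 1 := by rw [← map_pow, hn', map_one]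
  have hmoved : ¬ M ≤ centralizer {f x} := by
    intro h
    have h1 : f x ∈ M := PSolvable.centralizer_pPrimeCore_le_of_isPSolvable
      (PSolvable.isPSolvable_quotient hsolv K₀) PSolvable.pCore_quotient_eq_bot
      (mem_centralizer_iff.2 fun m hm => mem_centralizer_singleton_iff.1 (h hm))
    refine hxK ((QuotientGroup.eq_one_iff x).1 (orderOf_eq_one_iff.1 ?_))
    exact Nat.eq_one_of_dvd_coprimes (hMcop.symm.pow_left n)
      (orderOf_dvd_of_pow_eq_one hxbar)
      (Subgroup.orderOf_coe (⟨f x, h1⟩ : M) ▸ orderOf_dvd_natCard _)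
  obtain ⟨q, Qb, hq, hqp, -, hQbp, hQbx, -, ⟨gb, hgb, hgbmove⟩, -⟩ :=
    exists_critical_class_two (x := f x) (y := f x)
      (le_normalizer_of_normal (H := M) (mem_top _)) (mem_zpowers _) hxbar hMcop hmoved
  haveI : Fact q.Prime := ⟨hq⟩
  -- lift to a q-subgroup normalised by a translate of x
  set N₀ := Qb.comap f with hN₀
  have hK₀N : K₀ ≤ N₀ := fun k hk => by
    rw [hN₀, mem_comap, show f k = 1 from (QuotientGroup.eq_one_iff k).2 hk]
    exact one_mem _
  let S : Sylow q N₀ := default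
  set Q := (S : Subgroup N₀).map N₀.subtype with hQ
  have hQN : Q ≤ N₀ := map_subtype_le _
  have hQmap : Q.map f = Qb := by
    refine eq_of_le_of_card_ge ((map_mono hQN).trans (map_comap_le _ _)) ?_
    let g : N₀ →* Qb := (f.subgroupComap Qb)
    have hg : Function.Surjective g := fun r => by
      obtain ⟨z, hz⟩ := QuotientGroup.mk'_surjective K₀ r.1
      exact ⟨⟨z, by rw [hN₀, mem_comap, hz]; exact r.2⟩, Subtype.ext hz⟩
    have h1 : ((S.mapSurjective hg : Sylow q Qb) : Subgroup Qb) = ⊤ := by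
      refine eq_top_of_card_eq _ ?_
      obtain ⟨j, hj⟩ := hQbp.exists_card_eq
      refine (Sylow.card_eq_multiplicity _).trans ?_
      rw [hj, hq.factorization_pow, Finsupp.single_eq_same]
    have h2 : Qb ≤ Q.map f := fun r hr => by
      obtain ⟨s, hs, hsr⟩ := (h1 ▸ mem_top (⟨r, hr⟩ : Qb) :
        (⟨r, hr⟩ : Qb) ∈ ((S.mapSurjective hg : Sylow q Qb) : Subgroup Qb))
      exact ⟨s, mem_map_of_mem _ hs, congrArg Subtype.val hsr⟩
    exact card_le_of_le h2
  have hxN₀ : ∀ g, g ∈ N₀ ↔ x * g * x⁻¹ ∈ N₀ := fun g => by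
    rw [hN₀, mem_comap, mem_comap, map_mul, map_mul, map_inv]
    exact mem_normalizer_iff.1 hQbx _
  let cx : N₀ ≃* N₀ :=
    { (MulAut.conj x).toEquiv.subtypeEquiv fun g => hxN₀ g with
      map_mul' := fun a b => Subtype.ext (map_mul (MulAut.conj x) (a : G) (b : G)) }
  obtain ⟨m, hm⟩ := MulAction.exists_smul_eq N₀ (S.mapSurjective (f := cx.toMonoidHom) cx.surjective : Sylow q N₀) S
  obtain ⟨r, hr, hrf⟩ : ∃ r ∈ Q, f r = f m := by
    have : f m ∈ Q.map f := by rw [hQmap]; exact m.2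
    exact this
  set w := r⁻¹ * ((m : G) * x) with hw
  have hmx : (m : G) * x ∈ normalizer (Q : Set G) := by
    haveI : Finite (Q : Set G) := Subtype.finite
    refine mem_normalizer_fintype ?_
    intro s hs
    obtain ⟨s', hs', rfl⟩ := hs
    have h1 : m • (S.mapSurjective (f := cx.toMonoidHom) cx.surjective : Sylow q N₀) = S := hm
    have h2 : MulAut.conj m (cx s') ∈ (S : Subgroup N₀) := by
      rw [← h1]
      show MulAut.conj m (cx s') ∈ ((m • (S.mapSurjective (f := cx.toMonoidHom) cx.surjective : Sylow q N₀) :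
        Sylow q N₀) : Subgroup N₀)
      rw [Sylow.coe_subgroup_smul]
      exact smul_mem_pointwise_smul _ _ _ (mem_map_of_mem _ hs')
    refine ⟨_, h2, ?_⟩
    show (m : G) * (x * (s' : G) * x⁻¹) * (m : G)⁻¹ = (m : G) * x * (s' : G) * ((m : G) * x)⁻¹
    group
  have hwn : w ∈ normalizer (Q : Set G) :=
    mul_mem (inv_mem (le_normalizer hr)) hmx
  have hwx : f w = f x := by
    rw [hw, map_mul, map_inv, map_mul, hrf, inv_mul_cancel_left]
  have hwp : ∃ k : ℕ, w ^ p ^ k = 1 := by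
    have h1 : w ^ p ^ n ∈ K₀ := by
      rw [← QuotientGroup.eq_one_iff]
      show f (w ^ p ^ n) = 1
      rw [map_pow, hwx, hxbar]
    obtain ⟨k, hk⟩ := hK₀p ⟨_, h1⟩
    exact ⟨n + k, by rw [pow_add, pow_mul]; exact congrArg Subtype.val hk⟩
  have hwmove : ¬ Q ≤ centralizer {w} := by
    intro h
    obtain ⟨s, hs, rfl⟩ : gb ∈ Q.map f := hQmap.symm ▸ hgb
    refine hgbmove ?_
    rw [← hwx, ← map_mul, ← map_inv, ← map_mul]
    congr 1
    rw [← mem_centralizer_singleton_iff.1 (h hs), mul_inv_cancel_right]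
  obtain ⟨k, hk⟩ := hwp
  have hex : ∃ j : ℕ, Q ≤ centralizer {w ^ p ^ j} :=
    ⟨k, by rw [hk]; exact fun g _ => mem_centralizer_singleton_iff.2 (by simp)⟩
  set j := Nat.find hex with hj
  have hjspec := Nat.find_spec hex
  have hj0 : j ≠ 0 := fun h => hwmove (by
    have := hjspec
    rw [← hj, h, pow_zero, pow_one] at this
    exact this)
  set y := w ^ p ^ (j - 1) with hy
  have hyk : y ^ p ^ k = 1 := by rw [hy, ← pow_mul, mul_comm, pow_mul, hk, one_pow]
  have hyp : y ^ p = w ^ p ^ j := by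
    rw [hy, ← pow_mul, ← pow_succ, Nat.sub_add_cancel (Nat.pos_of_ne_zero hj0)]
  have hQp : IsPGroup q Q := S.2.map _
  have hQcop : (Nat.card Q).Coprime p := by
    obtain ⟨i, hi⟩ := hQp.exists_card_eq
    rw [hi]
    exact ((Nat.coprime_primes hq Fact.out).2 hqp).pow_left i
  obtain ⟨q', Q', hq', hq'p, hQ'Q, hQ'p, hyQ', hfix, hmove', hclass⟩ :=
    exists_critical_class_two (x := y) (y := y) (pow_mem hwn _) (mem_zpowers _) hyk hQcop
      (Nat.find_min hex (by omega))
  refine ⟨q', Q', y, hq', hq'p, hQ'p, hyQ', ⟨k, hyk⟩, fun g hg => ?_, hfix, hclass, hmove'⟩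
  rw [hyp]
  exact (mem_centralizer_singleton_iff.1 (hjspec (hQ'Q hg))).symm

/-- Degree at most `p - 1` with a non-normal Sylow subgroup. -/
theorem main {G : Type u} [Group G] [Finite G] (χ : G → ℂ) (hχ : IsCharacter G χ)
    (hfaith : ∀ g : G, χ g = χ 1 → g = 1) {n p : ℕ} (hn : χ 1 = n) (hp : p.Prime)
    (hsolv : IsPSolvable p G) (hnp : n + 1 ≤ p) (P : Sylow p G) (hP : ¬ (P : Subgroup G).Normal) :
    n + 1 = p ∧ (∃ k : ℕ, n = 2 ^ k) ∧ IsIrrCharacter G χ := by
  haveI : Fact p.Prime := ⟨hp⟩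
  haveI : Fintype G := Fintype.ofFinite G
  obtain ⟨q, Q, y, hq, hqp, hQ, hyn, ⟨k₀, hk₀⟩, hyp, hfix, hclass, g₀, hg₀, hmove⟩ :=
    exists_pair hsolv P hP
  set H : Subgroup G := Q ⊔ zpowers y with hH
  have hQH : Q ≤ H := le_sup_left
  have hyH : y ∈ H := (le_sup_right : zpowers y ≤ H) (mem_zpowers y)
  haveI : Fintype H := Fintype.ofFinite _
  obtain ⟨m, hm⟩ := Chars.isCharacter_exists_nat_decomp (Chars.isCharacter_restrict (H := H) hχ)
  set c₀ : H := ⟨y, hyH⟩ * ⟨g₀, hQH hg₀⟩ * ⟨y, hyH⟩⁻¹ * ⟨g₀, hQH hg₀⟩⁻¹ with hc₀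
  have hc₀ne : χ (c₀ : G) ≠ χ 1 := fun h => hmove (by
    have := hfaith _ h
    exact mul_inv_eq_one.1 this)
  obtain ⟨φ, hφm, hφc⟩ : ∃ φ : IrrCharacter H, m φ ≠ 0 ∧ (φ : H → ℂ) c₀ ≠ (φ : H → ℂ) 1 := by
    by_contra hall
    push Not at hall
    refine hc₀ne ?_
    have h1 := congrFun hm c₀
    have h2 := congrFun hm 1
    show χ ((c₀ : H) : G) = χ ((1 : H) : G)
    refine h1.trans (Eq.trans ?_ h2.symm)
    rw [Finset.sum_apply, Finset.sum_apply]
    refine Finset.sum_congr rfl fun φ _ => ?_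
    by_cases h0 : m φ = 0
    · simp [h0]
    · simp [hall φ h0]
  choose d hd0 hd using fun φ : IrrCharacter H => Chars.isIrrCharacter_exists_degree_pos φ.2
  have hsum : ∑ φ, m φ * d φ = n := by
    have h := congrFun hm 1
    rw [show ((1 : H) : G) = 1 from rfl, hn, Finset.sum_apply] at h
    have h' : ((∑ φ, m φ * d φ : ℕ) : ℂ) = (n : ℂ) := by
      push_cast; rw [h]; exact Finset.sum_congr rfl fun φ _ => by simp [hd]
    exact_mod_cast h'
  have hle : m φ * d φ ≤ n := hsum ▸ Finset.single_le_sum (f := fun φ => m φ * d φ)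
    (fun _ _ => Nat.zero_le _) (Finset.mem_univ φ)
  have hdle : d φ ≤ n := (Nat.le_mul_of_pos_left _ (Nat.pos_of_ne_zero hφm)).trans hle
  have htop : Q.subgroupOf H ⊔ zpowers (⟨y, hyH⟩ : H) = ⊤ := by
    apply map_injective H.subtype_injective
    rw [Subgroup.map_sup, MonoidHom.map_zpowers, map_subgroupOf_eq_of_le hQH,
      ← MonoidHom.range_eq_map, range_subtype]
    rfl
  have hcl : ⁅⁅Q.subgroupOf H, Q.subgroupOf H⁆, Q.subgroupOf H⁆ = ⊥ := by
    apply map_injective H.subtype_injective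
    rw [map_commutator, map_commutator, map_subgroupOf_eq_of_le hQH, hclass, Subgroup.map_bot]
  obtain ⟨hd1, k, hk⟩ := degree_of_action hp hq hqp (Q.subgroupOf H) (⟨y, hyH⟩ : H)
    (hQ.of_equiv (subgroupOfEquivOfLe hQH).symm) htop
    (by
      rw [mem_normalizer_iff]
      intro z
      exact mem_normalizer_iff.1 hyn (z : G))
    ⟨k₀, Subtype.ext (by simpa using hk₀)⟩
    (fun g hg => Subtype.ext (by simpa using (hyp (g : G) hg).eq))
    (fun g hg h z hz => Subtype.ext (hfix (g : G) hg (congrArg Subtype.val h) (z : G) hz))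
    hcl φ (hd φ) (by omega) ⟨g₀, hQH hg₀⟩ hg₀ hφc
  have hdn : d φ = n := by omega
  refine ⟨by omega, ⟨k, by omega⟩, ?_⟩
  -- χ is irreducible
  obtain ⟨r, hr⟩ := Chars.isCharacter_exists_nat_decomp hχ
  choose D hD0 hD using fun ψ : IrrCharacter G => Chars.isIrrCharacter_exists_degree_pos ψ.2
  choose s hs using fun ψ : IrrCharacter G => Chars.isCharacter_classInner_nat
    (Chars.isCharacter_restrict (H := H) (Chars.irr_isCharacter ψ)) (Chars.irr_isCharacter φ)
  have hms : (m φ : ℂ) = ((∑ ψ, r ψ * s ψ : ℕ) : ℂ) := by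
    rw [← Chars.classInner_sum_smul_irr (fun φ => (m φ : ℂ)) φ, ← hm,
      show (fun h : H => χ h) = ∑ ψ : IrrCharacter G, (r ψ : ℂ) • (fun h : H => (ψ : G → ℂ) h)
        from funext fun h => by rw [hr]; simp, Chars.classInner_sum_left]
    push_cast
    exact Finset.sum_congr rfl fun ψ _ => by rw [Chars.classInner_smul_left, hs]
  obtain ⟨ψ, hψr, hψs⟩ : ∃ ψ, r ψ ≠ 0 ∧ s ψ ≠ 0 := by
    by_contra hall
    push Not at hall
    refine hφm (Nat.cast_eq_zero.1 (hms.trans ?_))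
    rw [Nat.cast_eq_zero]
    exact Finset.sum_eq_zero fun ψ _ => by
      by_cases h0 : r ψ = 0
      · simp [h0]
      · simp [hall ψ h0]
  have hDψ : n ≤ D ψ := by
    obtain ⟨c, hc⟩ := Chars.isCharacter_exists_nat_decomp
      (Chars.isCharacter_restrict (H := H) (Chars.irr_isCharacter ψ))
    have hcφ : c φ = s ψ := by
      have := hs ψ
      rw [hc, Chars.classInner_sum_smul_irr] at this
      exact_mod_cast this
    have h := congrFun hc 1
    rw [show ((1 : H) : G) = 1 from rfl, hD, Finset.sum_apply] at h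
    have h' : ((∑ φ, c φ * d φ : ℕ) : ℂ) = (D ψ : ℂ) := by
      push_cast; rw [h]; exact Finset.sum_congr rfl fun φ _ => by simp [hd]
    rw [← Nat.cast_inj.1 h', ← hdn]
    exact (Nat.le_mul_of_pos_left _ (Nat.pos_of_ne_zero (hcφ ▸ hψs))).trans
      (Finset.single_le_sum (f := fun φ => c φ * d φ) (fun _ _ => Nat.zero_le _) (Finset.mem_univ φ))
  have hsumG : ∑ ψ', r ψ' * D ψ' = n := by
    have h := congrFun hr 1
    rw [hn, Finset.sum_apply] at h
    have h' : ((∑ ψ', r ψ' * D ψ' : ℕ) : ℂ) = (n : ℂ) := by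
      push_cast; rw [h]; exact Finset.sum_congr rfl fun ψ' _ => by simp [hD]
    exact_mod_cast h'
  rw [← Finset.add_sum_erase _ _ (Finset.mem_univ ψ)] at hsumG
  have hn0 : 0 < n := hdn ▸ hd0 φ
  have hr1 : r ψ = 1 := by
    have h1 : r ψ * n ≤ r ψ * D ψ := Nat.mul_le_mul_left _ hDψ
    have : r ψ * n ≤ 1 * n := by omega
    have := Nat.le_of_mul_le_mul_right this hn0
    omega
  rw [hr1, one_mul] at hsumG
  have hz : ∑ ψ' ∈ Finset.univ.erase ψ, r ψ' * D ψ' = 0 := by omega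
  have : χ = (ψ : G → ℂ) := by
    rw [hr, Finset.sum_eq_single ψ (fun b _ hb => ?_) (fun h => absurd (Finset.mem_univ _) h),
      hr1, Nat.cast_one, one_smul]
    have := (Finset.sum_eq_zero_iff.1 hz) b (Finset.mem_erase.2 ⟨hb, Finset.mem_univ _⟩)
    rcases Nat.mul_eq_zero.1 this with h | h
    · simp [h]
    · exact absurd h (hD0 b).ne'
  exact this ▸ ψ.2

end Cfsg.Agent.Lib.SmallDegree.SylowNormal
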