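import Mathlib
import Cfsg.Agent.Lib.SmallDegree.Main
import Cfsg.Agent.Lib.CharsElem

/-!
# Sylow subgroups all of whose non-identity elements have the same centraliser.
-/

set_option autoImplicit false

namespace Cfsg.Agent.Lib.SmallDegree

open scoped ComplexConjugate
open Cfsg Cfsg.Agent.Lib.Chars

universe u

variable {G : Type u} [Group G] [Finite G] {p : ℕ} [Fact p.Prime] (P : Sylow p G)

theorem exists_setting (hstar : ∀ x ∈ (P : Subgroup G), x ≠ 1 →
      Subgroup.centralizer ({x} : Set G) = Subgroup.centralizer ((P : Subgroup G) : Set G)) :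
    ∃ T : Setting G, T.P = (P : Subgroup G) ∧
      T.N = Subgroup.normalizer ((P : Subgroup G) : Set G) ∧
      T.C = Subgroup.centralizer ((P : Subgroup G) : Set G) := by
  set C := Subgroup.centralizer ((P : Subgroup G) : Set G) with hC
  have hcent : ∀ c ∈ C, ∀ y ∈ (P : Subgroup G), c * y = y * c := fun c hc y hy =>
    (Subgroup.mem_centralizer_iff.mp hc y hy).symm
  have hPC : (P : Subgroup G) ≤ C := by
    intro y hy
    rcases eq_or_ne y 1 with rfl | hy1
    · exact C.one_mem
    · rw [← hstar y hy hy1]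
      exact Subgroup.mem_centralizer_iff.mpr fun h hh => by rw [Set.mem_singleton_iff.mp hh]
  have habel : IsMulCommutative (P : Subgroup G) :=
    ⟨⟨fun a b => Subtype.ext (hcent a (hPC a.2) b b.2)⟩⟩
  haveI : ((P : Subgroup G).subgroupOf C).Normal := ⟨fun n hn g => by
    rw [Subgroup.mem_subgroupOf] at hn ⊢
    simp only [Subgroup.coe_mul, Subgroup.coe_inv]
    rwa [hcent g g.2 n hn, mul_inv_cancel_right]⟩
  have hPC' : IsPGroup p ((P : Subgroup G).subgroupOf C) :=
    P.2.of_equiv (Subgroup.subgroupOfEquivOfLe hPC).symm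
  have hidx : ¬ p ∣ ((P : Subgroup G).subgroupOf C).index := fun h =>
    P.not_dvd_index (h.trans (Subgroup.relIndex_dvd_index_of_le hPC))
  have hcop : (Nat.card ((P : Subgroup G).subgroupOf C)).Coprime
      ((P : Subgroup G).subgroupOf C).index := by
    obtain ⟨k, hk⟩ := IsPGroup.iff_card.mp hPC'
    rw [hk]
    exact Nat.Coprime.pow_left k ((Nat.Prime.coprime_iff_not_dvd Fact.out).mpr hidx)
  obtain ⟨H, hH⟩ := Subgroup.exists_right_complement'_of_coprime hcop
  set V := H.map C.subtype with hV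
  have hVC : V ≤ C := Subgroup.map_subtype_le H
  have hVcard : Nat.card V = ((P : Subgroup G).subgroupOf C).index := by
    rw [hH.symm.index_eq_card]
    exact Nat.card_congr (H.equivMapOfInjective _ C.subtype_injective).toEquiv.symm
  have hVp : ¬ p ∣ Nat.card V := hVcard ▸ hidx
  have hdecomp : ∀ c ∈ C, ∃ y ∈ (P : Subgroup G), ∃ v ∈ V, c = y * v := by
    intro c hc
    obtain ⟨⟨a, b⟩, hab⟩ := hH.surjective ⟨c, hc⟩
    exact ⟨(a : C), a.2, (b : C), Subgroup.mem_map_of_mem C.subtype b.2,
      (congrArg Subtype.val hab).symm⟩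
  have hVpow : ∀ v ∈ V, v ^ Nat.card V = 1 := fun v hv =>
    congrArg Subtype.val (pow_card_eq_one' (x := (⟨v, hv⟩ : V)))
  have hPpow : ∀ y ∈ (P : Subgroup G), y ^ Nat.card V = 1 → y = 1 := by
    intro y hy hy1
    obtain ⟨k, hk⟩ := P.2 ⟨y, hy⟩
    have hk' : y ^ p ^ k = 1 := congrArg Subtype.val hk
    have h2 : orderOf y ∣ 1 := by
      rw [← (Nat.Coprime.pow_left k ((Nat.Prime.coprime_iff_not_dvd Fact.out).mpr hVp)).gcd_eq_one]
      exact Nat.dvd_gcd (orderOf_dvd_of_pow_eq_one hk') (orderOf_dvd_of_pow_eq_one hy1)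
    exact orderOf_eq_one_iff.mp (Nat.eq_one_of_dvd_one h2)
  have hinj : ∀ y ∈ (P : Subgroup G), y ∈ V → y = 1 := fun y hy hv => hPpow y hy (hVpow y hv)
  have hnormP : ∀ g ∈ Subgroup.normalizer ((P : Subgroup G) : Set G), ∀ y ∈ (P : Subgroup G),
      g * y * g⁻¹ ∈ (P : Subgroup G) := fun g hg y hy =>
    (Subgroup.mem_normalizer_iff.mp hg y).mp hy
  have hnormC : ∀ g ∈ Subgroup.normalizer ((P : Subgroup G) : Set G), ∀ c ∈ C,
      g * c * g⁻¹ ∈ C := by
    intro g hg c hc
    refine Subgroup.mem_centralizer_iff.mpr fun y hy => ?_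
    have hy' : g⁻¹ * y * g ∈ (P : Subgroup G) := by
      simpa using hnormP g⁻¹ (inv_mem hg) y hy
    have h := hcent c hc _ hy'
    calc y * (g * c * g⁻¹) = g * ((g⁻¹ * y * g) * c) * g⁻¹ := by group
      _ = g * (c * (g⁻¹ * y * g)) * g⁻¹ := by rw [h]
      _ = g * c * g⁻¹ * y := by group
  have hnormV : ∀ g ∈ Subgroup.normalizer ((P : Subgroup G) : Set G), ∀ v ∈ V,
      g * v * g⁻¹ ∈ V := by
    intro g hg v hv
    obtain ⟨y, hy, w, hw, he⟩ := hdecomp _ (hnormC g hg v (hVC hv))
    have h : (g * v * g⁻¹) ^ Nat.card V = 1 := by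
      rw [conj_pow, hVpow v hv, mul_one, mul_inv_cancel]
    rw [he, (show Commute y w from (hcent w (hVC hw) y hy).symm).mul_pow] at h
    rw [hVpow w hw, mul_one] at h
    rw [he, hPpow y hy h, one_mul]
    exact hw
  refine ⟨⟨(P : Subgroup G), V, Subgroup.normalizer ((P : Subgroup G) : Set G), C, habel,
    fun y hy v hv => (hcent v (hVC hv) y hy).symm, hnormP, hnormV, ?_, hcent, ?_, ?_, ?_, hinj⟩,
    rfl, rfl, rfl⟩
  · intro c hc
    refine Subgroup.mem_normalizer_iff.mpr fun y => ⟨fun hy => ?_, fun hy => ?_⟩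
    · show c * y * c⁻¹ ∈ (P : Subgroup G)
      rwa [hcent c hc y hy, mul_inv_cancel_right]
    · have h : c⁻¹ * (c * y * c⁻¹) * c⁻¹⁻¹ = c * y * c⁻¹ := by
        rw [hcent c⁻¹ (inv_mem hc) _ hy, mul_inv_cancel_right]
      have h2 : y = c * y * c⁻¹ := by
        rw [← h]; group
      show y ∈ (P : Subgroup G)
      rw [h2]; exact hy
  · intro g hg y hy hy1 hgy
    rw [← hstar y hy hy1]
    exact Subgroup.mem_centralizer_iff.mpr fun h hh => by
      rw [Set.mem_singleton_iff.mp hh]; exact hgy.symm
  · rw [← hH.card_mul, hVcard, hH.symm.index_eq_card]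
    rw [Nat.card_congr (Subgroup.subgroupOfEquivOfLe hPC).toEquiv]
  · intro g y hy y' hy' v hv v' hv' hy1 he
    have hm : g * y ^ Nat.card V * g⁻¹ = y' ^ Nat.card V := by
      have h := congrArg (· ^ Nat.card V) he
      simp only [conj_pow] at h
      rwa [(show Commute y v from (hcent v (hVC hv) y hy).symm).mul_pow, hVpow v hv, mul_one,
        (show Commute y' v' from (hcent v' (hVC hv') y' hy').symm).mul_pow, hVpow v' hv',
        mul_one] at h
    have hy'1 : y' ^ Nat.card V ≠ 1 := by
      intro h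
      rw [h] at hm
      apply hy1
      apply hPpow y hy
      simpa [mul_inv_eq_one] using hm
    have hle : ∀ x ∈ (P : Subgroup G), g * x * g⁻¹ ∈ (P : Subgroup G) := by
      intro x hx
      have hxC : g * x * g⁻¹ ∈ C := by
        rw [← hstar _ (pow_mem hy' _) hy'1]
        refine Subgroup.mem_centralizer_iff.mpr fun h hh => ?_
        rw [Set.mem_singleton_iff.mp hh, ← hm]
        have hc := hcent x (hPC hx) (y ^ Nat.card V) (pow_mem hy _)
        calc g * y ^ Nat.card V * g⁻¹ * (g * x * g⁻¹) = g * (y ^ Nat.card V * x) * g⁻¹ := by group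
          _ = g * (x * y ^ Nat.card V) * g⁻¹ := by rw [hc]
          _ = g * x * g⁻¹ * (g * y ^ Nat.card V * g⁻¹) := by group
      obtain ⟨a, ha, w, hw, haw⟩ := hdecomp _ hxC
      have hx1 : x ^ Nat.card (P : Subgroup G) = 1 :=
        congrArg Subtype.val (pow_card_eq_one' (x := (⟨x, hx⟩ : (P : Subgroup G))))
      have ha1 : a ^ Nat.card (P : Subgroup G) = 1 :=
        congrArg Subtype.val (pow_card_eq_one' (x := (⟨a, ha⟩ : (P : Subgroup G))))
      have h := congrArg (· ^ Nat.card (P : Subgroup G)) haw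
      simp only [conj_pow, hx1, mul_one, mul_inv_cancel] at h
      rw [(show Commute a w from (hcent w (hVC hw) a ha).symm).mul_pow, ha1, one_mul] at h
      have hcop' : (Nat.card (P : Subgroup G)).Coprime (Nat.card V) := by
        obtain ⟨k, hk⟩ := IsPGroup.iff_card.mp P.2
        rw [hk]
        exact Nat.Coprime.pow_left k ((Nat.Prime.coprime_iff_not_dvd Fact.out).mpr hVp)
      have hw1 : w = 1 := orderOf_eq_one_iff.mp (Nat.eq_one_of_dvd_one (hcop'.gcd_eq_one ▸
        Nat.dvd_gcd (orderOf_dvd_of_pow_eq_one h.symm) (orderOf_dvd_of_pow_eq_one (hVpow w hw))))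
      rw [haw, hw1, mul_one]
      exact ha
    refine Subgroup.mem_normalizer_iff.mpr fun x => ⟨fun hx => hle x hx, fun hx => ?_⟩
    have hinjf : Function.Injective fun z : (P : Subgroup G) =>
        (⟨g * z * g⁻¹, hle z z.2⟩ : (P : Subgroup G)) := fun a b h =>
      Subtype.ext (mul_left_cancel (mul_right_cancel (congrArg Subtype.val h)))
    obtain ⟨z, hz⟩ := (Finite.injective_iff_surjective.mp hinjf) ⟨_, hx⟩
    have h3 : (z : G) = x := mul_left_cancel (mul_right_cancel (congrArg Subtype.val hz))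
    exact h3 ▸ z.2

/-- The dichotomy for Sylow subgroups with uniform centralisers. -/
theorem uniform_dichotomy (hstar : ∀ x ∈ (P : Subgroup G), x ≠ 1 →
      Subgroup.centralizer ({x} : Set G) = Subgroup.centralizer ((P : Subgroup G) : Set G))
    (χ : IrrCharacter G) (h1 : (χ : G → ℂ) ≠ fun _ => 1)
    (hdeg : charDegree (χ : G → ℂ) ^ 2 + 1 < Nat.card P) :
    (∃ K : Subgroup G, K.Normal ∧ K ≠ ⊤ ∧ (P : Subgroup G) ≤ K) ∨
      (charDegree (χ : G → ℂ) = 1 ∧ ∃ N : Subgroup G, N.Normal ∧ N.index = Nat.card P) := by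
  classical
  haveI : Fintype G := Fintype.ofFinite G
  obtain ⟨T, hP, hN, hC⟩ := exists_setting P hstar
  haveI := T.abel
  haveI : Fintype (T.P →* ℂˣ) := @Fintype.ofFinite _ finite_lin
  obtain ⟨e, he⟩ : Nat.card T.C ∣ Nat.card T.N := Subgroup.card_dvd_of_le T.le
  have hTP : Nat.card T.P = Nat.card P := by rw [hP]
  rcases T.dichotomy (e := e) (he.trans (mul_comm _ _)) χ h1 (hTP ▸ hdeg) with h | ⟨hx, rfl⟩
  · left; rw [hP] at h; exact h
  · right
    have hNC : Subgroup.normalizer ((P : Subgroup G) : Set G)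
        ≤ Subgroup.centralizer ((P : Subgroup G) : Set G) := by
      rw [← hN, ← hC]
      rw [mul_one] at he
      exact (Subgroup.eq_of_le_of_card_ge T.le he.le).ge
    refine ⟨hx, MonoidHom.ker (MonoidHom.transferSylow P hNC), MonoidHom.normal_ker _, ?_⟩
    exact (MonoidHom.ker_transferSylow_isComplement' P hNC).symm.index_eq_card

theorem sylow_normal_of_small_faithful_aux (m : ℕ) :
    ∀ (G : Type u) [Group G] [Finite G], Nat.card G = m → ∀ (P : Sylow p G),
      (∀ x ∈ (P : Subgroup G), x ≠ 1 →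
        Subgroup.centralizer ({x} : Set G) = Subgroup.centralizer ((P : Subgroup G) : Set G)) →
      ∀ χ : G → ℂ, IsCharacter G χ → (∀ g : G, χ g = χ 1 → g = 1) →
        charDegree χ ^ 2 + 1 < Nat.card P → (P : Subgroup G).Normal := by
  induction m using Nat.strong_induction_on with
  | _ m ih =>
    intro G _ _ hm P hstar χ hχ hfaith hdeg
    classical
    haveI : Fintype G := Fintype.ofFinite G
    obtain ⟨c, hc⟩ := isCharacter_exists_nat_decomp hχ
    have hval : ∀ g, χ g = ∑ ψ : IrrCharacter G, (c ψ : ℂ) * (ψ : G → ℂ) g := fun g => by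
      rw [hc]; simp
    have hdsum : charDegree χ = ∑ ψ : IrrCharacter G, c ψ * charDegree (ψ : G → ℂ) := by
      refine Cfsg.Agent.Lib.Codegree.charDegree_eq ?_
      rw [hval]
      push_cast
      exact Finset.sum_congr rfl fun ψ _ => by rw [(charDegree_spec ψ).2]
    by_cases hlin : ∀ ψ : IrrCharacter G, c ψ ≠ 0 → charDegree (ψ : G → ℂ) = 1
    · have hab : ∀ a b : G, a * b = b * a := fun a b => by
        rw [← commutatorElement_eq_one_iff_mul_comm]
        apply hfaith
        rw [hval, hval]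
        refine Finset.sum_congr rfl fun ψ _ => ?_
        by_cases hz : c ψ = 0
        · simp [hz]
        · have h1 : (ψ : G → ℂ) 1 = 1 := by rw [(charDegree_spec ψ).2, hlin ψ hz, Nat.cast_one]
          rw [h1, Cfsg.Agent.Lib.CharsElem.eq_one_of_mem_commutator (irr_isCharacter ψ) h1
            (Subgroup.commutator_mem_commutator (Subgroup.mem_top a) (Subgroup.mem_top b))]
      exact ⟨fun n hn g => by rwa [hab g n, mul_inv_cancel_right]⟩
    · push Not at hlin
      obtain ⟨ψ, hψ, hψ1⟩ := hlin
      have hle : charDegree (ψ : G → ℂ) ≤ charDegree χ := by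
        rw [hdsum]
        exact (Nat.le_mul_of_pos_left _ (Nat.pos_of_ne_zero hψ)).trans
          (Finset.single_le_sum (f := fun ψ : IrrCharacter G => c ψ * charDegree (ψ : G → ℂ))
            (fun _ _ => Nat.zero_le _) (Finset.mem_univ ψ))
      have hne : (ψ : G → ℂ) ≠ fun _ => 1 := fun h => hψ1 (by
        refine Cfsg.Agent.Lib.Codegree.charDegree_eq ?_
        rw [h]; simp)
      have hd2 : charDegree (ψ : G → ℂ) ^ 2 + 1 < Nat.card P := by
        have := Nat.pow_le_pow_left hle 2
        omega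
      rcases uniform_dichotomy P hstar ψ hne hd2 with ⟨K, hKn, hKne, hPK⟩ | ⟨h, -⟩
      swap
      · exact absurd h hψ1
      have hlt : Nat.card K < m := by
        rw [← hm]
        refine lt_of_le_of_ne K.card_le_card_group fun h => hKne ?_
        exact Subgroup.eq_top_of_card_eq K h
      have hP' : ((P.subtype hPK : Sylow p K) : Subgroup K) = (P : Subgroup G).subgroupOf K := rfl
      have hN : ((P.subtype hPK : Sylow p K) : Subgroup K).Normal := by
        refine ih _ hlt K rfl (P.subtype hPK) (fun x hx hx1 => ?_) (fun k => χ k)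
          (isCharacter_comp K.subtype hχ) (fun k hk => Subtype.ext (hfaith _ hk)) ?_
        · have hx' : (x : G) ∈ (P : Subgroup G) := by rw [hP'] at hx; exact hx
          have hx1' : (x : G) ≠ 1 := fun h => hx1 (Subtype.ext h)
          have h := hstar x hx' hx1'
          ext k
          have hk : (k : G) ∈ Subgroup.centralizer ({(x : G)} : Set G) ↔
              (k : G) ∈ Subgroup.centralizer ((P : Subgroup G) : Set G) := by rw [h]
          simp only [Subgroup.mem_centralizer_iff, Set.mem_singleton_iff, forall_eq, hP',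
            SetLike.mem_coe, Subgroup.mem_subgroupOf, Subtype.ext_iff, Subgroup.coe_mul] at hk ⊢
          constructor
          · intro h y hy
            exact hk.mp (h x rfl) y hy
          · intro h y hy
            rw [hy]
            exact hk.mpr fun z hz => h ⟨z, hPK hz⟩ hz
        · rw [hP', Nat.card_congr (Subgroup.subgroupOfEquivOfLe hPK).toEquiv]
          exact hdeg
      haveI := Sylow.characteristic_of_normal (P.subtype hPK) hN
      have hchar : (((P.subtype hPK : Sylow p K) : Subgroup K).map K.subtype).Normal :=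
        inferInstance
      rwa [hP', Subgroup.map_subgroupOf_eq_of_le hPK] at hchar

end Cfsg.Agent.Lib.SmallDegree
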